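import Cfsg.Agent.Lib.SmallTwo.QuasiDihedralSmall
import Cfsg.Agent.Lib.GL2.QuaternionEight

/-!
Indices of `C(T)` in `N(T)` and `Q C(Q)` in `N(Q)` for four-groups and quaternion groups.
-/

set_option autoImplicit false

namespace CfsgLib.SmallTwo

variable {G : Type*} [Group G] [Finite G]

theorem card_mulAut_dvd_six (V : Type*) [Group V] (hV : Nat.card V = 4) :
    Nat.card (MulAut V) ∣ 6 := by
  classical
  haveI : Finite V := Nat.finite_of_card_ne_zero (by rw [hV]; norm_num)
  haveI := Fintype.ofFinite V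
  have h : Nat.card (Equiv.Perm {v : V // v ≠ 1}) = 6 := by
    have hc : Fintype.card {v : V // v ≠ 1} = 3 := by
      rw [Fintype.card_subtype_compl, Fintype.card_subtype_eq, ← Nat.card_eq_fintype_card, hV]
    rw [Nat.card_eq_fintype_card, Fintype.card_perm, hc]
    rfl
  rw [← h]
  let f : MulAut V →* Equiv.Perm {v : V // v ≠ 1} := MonoidHom.mk'
    (fun φ => (Equiv.Perm.subtypePerm φ.toEquiv (fun v => by simp)))
    (fun φ ψ => Equiv.ext fun v => Subtype.ext rfl)
  refine Subgroup.card_dvd_of_injective f fun φ ψ hφψ => MulEquiv.ext fun v => ?_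
  rcases eq_or_ne v 1 with rfl | hv
  · rw [map_one, map_one]
  · exact congrArg Subtype.val (DFunLike.congr_fun hφψ ⟨v, hv⟩)

theorem two_or_six {H K : Subgroup G} [hn : (K.subgroupOf H).Normal] (h6 : K.relIndex H ∣ 6)
    {s : G} (hs : s ∈ H) (hsK : s ∉ K) {k : ℕ} (hk : s ^ 2 ^ k = 1) :
    K.relIndex H = 2 ∨ K.relIndex H = 6 := by
  have heven : 2 ∣ K.relIndex H := by
    set x : H ⧸ K.subgroupOf H := QuotientGroup.mk' _ ⟨s, hs⟩ with hx
    have hx1 : x ^ 2 ^ k = 1 := by
      rw [hx, ← map_pow, show (⟨s, hs⟩ : H) ^ 2 ^ k = 1 from Subtype.ext hk, map_one]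
    obtain ⟨j, -, hj⟩ := (Nat.dvd_prime_pow Nat.prime_two).mp (orderOf_dvd_of_pow_eq_one hx1)
    have hj0 : j ≠ 0 := by
      rintro rfl
      rw [pow_zero, orderOf_eq_one_iff, hx] at hj
      exact hsK ((QuotientGroup.eq_one_iff (N := K.subgroupOf H) ⟨s, hs⟩).mp hj)
    exact (hj ▸ dvd_pow_self 2 hj0 : 2 ∣ orderOf x).trans (orderOf_dvd_natCard x)
  have hle := Nat.le_of_dvd (by norm_num) h6
  interval_cases h : K.relIndex H <;> omega

/-- An automorphism of `Q₈` trivial on the central quotient is inner. -/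
theorem quaternion_inner_of_trivial (φ : MulAut (QuaternionGroup 2))
    (h : ∀ x, x⁻¹ * φ x ∈ Subgroup.center (QuaternionGroup 2)) :
    ∃ q, ∀ x, φ x = q * x * q⁻¹ := by
  have key : ∀ A B : QuaternionGroup 2,
      (∀ y : QuaternionGroup 2, y * ((QuaternionGroup.a 1)⁻¹ * A) = (QuaternionGroup.a 1)⁻¹ * A * y) →
      (∀ y : QuaternionGroup 2, y * ((QuaternionGroup.xa 0)⁻¹ * B) = (QuaternionGroup.xa 0)⁻¹ * B * y) →
      ∃ q, ∀ x, CfsgLib.GL2.ext8 A B x = q * x * q⁻¹ := by decide +kernel
  obtain ⟨q, hq⟩ := key _ _ (Subgroup.mem_center_iff.mp (h (QuaternionGroup.a 1)))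
    (Subgroup.mem_center_iff.mp (h (QuaternionGroup.xa 0)))
  exact ⟨q, fun x => by rw [← hq x, CfsgLib.GL2.ext8_eq]⟩

theorem card_quaternion_quot : Nat.card (QuaternionGroup 2 ⧸ Subgroup.center (QuaternionGroup 2)) = 4 := by
  have hc : Nat.card (Subgroup.center (QuaternionGroup 2)) = 2 := by
    rw [Nat.card_congr (Equiv.subtypeEquivRight (q := fun g => ∀ h, h * g = g * h)
      fun g => Subgroup.mem_center_iff), Nat.card_eq_fintype_card]
    decide
  have h := Subgroup.card_mul_index (Subgroup.center (QuaternionGroup 2))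
  rw [hc, Nat.card_eq_fintype_card, QuaternionGroup.card, Subgroup.index] at h
  omega

theorem relIndex_quaternion_dvd (Q : Subgroup G) (e : Q ≃* QuaternionGroup 2) :
    ((Q ⊔ Subgroup.centralizer (Q : Set G)).subgroupOf (Subgroup.normalizer (Q : Set G))).Normal ∧
    (Q ⊔ Subgroup.centralizer (Q : Set G)).relIndex (Subgroup.normalizer (Q : Set G)) ∣ 6 := by
  set N := Subgroup.normalizer (Q : Set G)
  let Z := Subgroup.center (QuaternionGroup 2)
  have hZ : ∀ φ : MulAut (QuaternionGroup 2), Z.map φ.toMonoidHom = Z := fun φ => by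
    ext v
    simp only [Subgroup.mem_map, Z, Subgroup.mem_center_iff]
    constructor
    · rintro ⟨u, hu, rfl⟩ w
      have := congrArg φ (hu (φ.symm w))
      rwa [map_mul, map_mul, MulEquiv.apply_symm_apply] at this
    · intro hv
      refine ⟨φ.symm v, fun w => φ.injective ?_, MulEquiv.apply_symm_apply _ _⟩
      rw [map_mul, map_mul, MulEquiv.apply_symm_apply]
      exact hv _
  let f : MulAut (QuaternionGroup 2) →* MulAut (QuaternionGroup 2 ⧸ Z) := MonoidHom.mk'
    (fun φ => QuotientGroup.congr Z Z φ (hZ φ))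
    (fun φ ψ => MulEquiv.ext fun x => by
      induction x using QuotientGroup.induction_on with
      | H z => rfl)
  let ψ : N →* MulAut (QuaternionGroup 2 ⧸ Z) :=
    f.comp ((MulAut.congr e).toMonoidHom.comp Q.normalizerMonoidHom)
  have hker : ψ.ker = (Q ⊔ Subgroup.centralizer (Q : Set G)).subgroupOf N := by
    ext g
    constructor
    · intro hg
      have h1 : ∀ x, x⁻¹ * (MulAut.congr e (Q.normalizerMonoidHom g)) x ∈ Z := fun x =>
        (QuotientGroup.eq).mp (DFunLike.congr_fun (MonoidHom.mem_ker.mp hg) (QuotientGroup.mk x)).symm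
      obtain ⟨q, hq⟩ := quaternion_inner_of_trivial _ h1
      rw [Subgroup.mem_subgroupOf]
      have hc : ((e.symm q : Q) : G)⁻¹ * g ∈ Subgroup.centralizer (Q : Set G) := by
        refine Subgroup.mem_centralizer_iff.mpr fun x hx => ?_
        have h2 := congrArg (fun v => ((e.symm v : Q) : G)) (hq (e ⟨x, hx⟩))
        simp only [map_mul, map_inv, MulEquiv.symm_apply_apply, Subgroup.coe_mul, Subgroup.coe_inv] at h2
        have h3 : ((e.symm (MulAut.congr e (Q.normalizerMonoidHom g) (e ⟨x, hx⟩))) : G) = g * x * (g : G)⁻¹ := by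
          show ((e.symm (e (Q.normalizerMonoidHom g (e.symm (e ⟨x, hx⟩))))) : G) = _
          rw [MulEquiv.symm_apply_apply, MulEquiv.symm_apply_apply]
          rfl
        rw [h3] at h2
        calc x * (((e.symm q : Q) : G)⁻¹ * g)
            = ((e.symm q : Q) : G)⁻¹ * (((e.symm q : Q) : G) * x * ((e.symm q : Q) : G)⁻¹) * g := by group
          _ = ((e.symm q : Q) : G)⁻¹ * g * x := by rw [← h2]; group
      have := mul_mem (Subgroup.mem_sup_left (e.symm q).2 :
        ((e.symm q : Q) : G) ∈ Q ⊔ Subgroup.centralizer (Q : Set G)) (Subgroup.mem_sup_right hc)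
      rwa [mul_inv_cancel_left] at this
    · intro hg
      have hle : Q ⊔ Subgroup.centralizer (Q : Set G) ≤ ψ.ker.map N.subtype := by
        refine sup_le (fun x hx => ⟨⟨x, Subgroup.le_normalizer hx⟩, ?_, rfl⟩)
          (fun x hx => ⟨⟨x, Subgroup.centralizer_le_normalizer _ hx⟩, ?_, rfl⟩)
        · refine MonoidHom.mem_ker.mpr (MulEquiv.ext fun v => ?_)
          induction v using QuotientGroup.induction_on with
          | H z =>
            refine (QuotientGroup.eq).mpr ?_
            set w := e ⟨x, hx⟩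
            have h : (MulAut.congr e (Q.normalizerMonoidHom ⟨x, Subgroup.le_normalizer hx⟩)) z = w * z * w⁻¹ := by
              rw [show w * z * w⁻¹ = e (⟨x, hx⟩ * e.symm z * ⟨x, hx⟩⁻¹) by
                rw [map_mul, map_mul, map_inv, MulEquiv.apply_symm_apply]]
              rfl
            show ((MulAut.congr e (Q.normalizerMonoidHom ⟨x, Subgroup.le_normalizer hx⟩)) z)⁻¹ * z ∈ Z
            rw [h]
            have key : ∀ a b y : QuaternionGroup 2,
                y * ((b * a * b⁻¹)⁻¹ * a) = (b * a * b⁻¹)⁻¹ * a * y := by decide +kernel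
            exact Subgroup.mem_center_iff.mpr fun y => key z w y
        · refine MonoidHom.mem_ker.mpr ?_
          have h : Q.normalizerMonoidHom ⟨x, Subgroup.centralizer_le_normalizer _ hx⟩ = 1 :=
            MulEquiv.ext fun v => Subtype.ext (by
              show x * v * x⁻¹ = v
              rw [← Subgroup.mem_centralizer_iff.mp hx v v.2, mul_inv_cancel_right])
          show f (MulAut.congr e (Q.normalizerMonoidHom _)) = 1
          rw [h, map_one, map_one]
      obtain ⟨y, hy, hye⟩ := Subgroup.mem_map.mp (hle hg)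
      exact (Subtype.ext hye : y = g) ▸ hy
  refine ⟨hker ▸ inferInstance, ?_⟩
  rw [Subgroup.relIndex, ← hker, Subgroup.index_ker]
  exact (Subgroup.card_subgroup_dvd_card _).trans (card_mulAut_dvd_six _ card_quaternion_quot)

theorem relIndex_four_dvd (T : Subgroup G) (hT : Nat.card T = 4) :
    ((Subgroup.centralizer (T : Set G)).subgroupOf (Subgroup.normalizer (T : Set G))).Normal ∧
    (Subgroup.centralizer (T : Set G)).relIndex (Subgroup.normalizer (T : Set G)) ∣ 6 := by
  have hker : T.normalizerMonoidHom.ker =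
      (Subgroup.centralizer (T : Set G)).subgroupOf (Subgroup.normalizer (T : Set G)) :=
    Subgroup.normalizerMonoidHom_ker T
  refine ⟨hker ▸ inferInstance, ?_⟩
  rw [Subgroup.relIndex, ← hker, Subgroup.index_ker]
  exact (Subgroup.card_subgroup_dvd_card _).trans (card_mulAut_dvd_six _ hT)

theorem centralizer_le_normalizer' (T : Subgroup G) :
    Subgroup.centralizer (T : Set G) ≤ Subgroup.normalizer (T : Set G) :=
  Subgroup.centralizer_le_normalizer _

theorem quasidihedral_local_indices (S : Sylow 2 G) (hS : Cfsg.IsQuasiDihedral (S : Subgroup G))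
    (T : Subgroup G) (hT : IsKleinFour T) (hTS : T ≤ S) (Q : Subgroup G) (hQS : Q ≤ S)
    (eQ : Q ≃* QuaternionGroup 2) :
    ((Subgroup.centralizer (T : Set G)).relIndex (Subgroup.normalizer (T : Set G)) = 2 ∨
      (Subgroup.centralizer (T : Set G)).relIndex (Subgroup.normalizer (T : Set G)) = 6) ∧
    ((Q ⊔ Subgroup.centralizer (Q : Set G)).relIndex (Subgroup.normalizer (Q : Set G)) = 2 ∨
      (Q ⊔ Subgroup.centralizer (Q : Set G)).relIndex (Subgroup.normalizer (Q : Set G)) = 6) := by
  obtain ⟨n, ⟨d⟩⟩ := qd_exists hS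
  have hs2 : ∀ s : (S : Subgroup G), (s : G) ^ 2 ^ (n + 1) = 1 := fun s => by
    have := pow_card_eq_one' (x := s)
    rw [d.card] at this
    exact congrArg Subtype.val this
  constructor
  · have eT : T.subgroupOf (S : Subgroup G) ≃* T := Subgroup.subgroupOfEquivOfLe hTS
    have hT' : IsKleinFour (T.subgroupOf (S : Subgroup G)) :=
      { card_four := (Nat.card_congr eT.toEquiv).trans hT.card_four
        exponent_two := (Monoid.exponent_eq_of_mulEquiv eT).trans hT.exponent_two }
    obtain ⟨i, -, hTi⟩ := d.four_group_eq _ hT'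
    obtain ⟨hn, h6⟩ := relIndex_four_dvd T hT.card_four
    have hC := d.centralizer_small_two i
    have h2 := d.relIndex_normalizer_small (m := 2 * d.q) (i := i) (hm := dvd_rfl) (r := d.q) dvd_rfl rfl
      fun ⟨c, hc⟩ => by
        have := mul_left_cancel₀ d.q_pos.ne' (show d.q * 1 = d.q * (2 * c) by linarith)
        omega
    rw [← hTi] at hC h2
    obtain ⟨s, hsN, hsT⟩ : ∃ s ∈ Subgroup.normalizer (T.subgroupOf (S : Subgroup G) : Set (S : Subgroup G)),
        s ∉ T.subgroupOf (S : Subgroup G) := by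
      by_contra h
      push Not at h
      rw [Subgroup.relIndex_eq_one.mpr (fun s hs => h s hs)] at h2
      omega
    rw [← Subgroup.subgroupOf_normalizer_eq hTS, Subgroup.mem_subgroupOf] at hsN
    refine two_or_six (hn := hn) h6 hsN (fun hc => hsT ?_) (hs2 s)
    rw [← hC, Subgroup.mem_centralizer_iff]
    exact fun t ht => Subtype.ext (Subgroup.mem_centralizer_iff.mp hc (t : G) ht)
  · have eQ' : Q.subgroupOf (S : Subgroup G) ≃* QuaternionGroup 2 :=
      (Subgroup.subgroupOfEquivOfLe hQS).trans eQ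
    obtain ⟨i, -, hQi⟩ := d.quaternion_eq _ eQ'
    obtain ⟨hn, h6⟩ := relIndex_quaternion_dvd Q eQ
    obtain ⟨p, hp0, hp⟩ := d.exists_half
    have h2 := d.relIndex_normalizer_small (m := d.q) (i := i) (hm := dvd_mul_left _ 2) (r := p)
      ⟨2, by rw [hp]; ring⟩ hp fun ⟨c, hc⟩ => by
        have := mul_left_cancel₀ hp0.ne' (show p * 1 = p * (2 * c) by rw [hp] at hc; linarith)
        omega
    have hC := d.centralizer_small_four i
    rw [← hQi] at hC h2
    obtain ⟨s, hsN, hsQ⟩ : ∃ s ∈ Subgroup.normalizer (Q.subgroupOf (S : Subgroup G) : Set (S : Subgroup G)),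
        s ∉ Q.subgroupOf (S : Subgroup G) := by
      by_contra h
      push Not at h
      rw [Subgroup.relIndex_eq_one.mpr (fun s hs => h s hs)] at h2
      omega
    rw [← Subgroup.subgroupOf_normalizer_eq hQS, Subgroup.mem_subgroupOf] at hsN
    refine two_or_six (hn := hn) h6 hsN (fun hc => hsQ ?_) (hs2 s)
    rw [Subgroup.mem_subgroupOf]
    have hcase : ∃ q ∈ Q, ∃ c ∈ Subgroup.centralizer (Q : Set G), (s : G) = q * c := by
      have hnorm : Subgroup.centralizer (Q : Set G) ≤ Subgroup.normalizer (Q : Set G) :=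
        centralizer_le_normalizer' Q
      obtain ⟨c, hc1, q, hq, he⟩ : ∃ c ∈ Subgroup.centralizer (Q : Set G), ∃ q ∈ Q, c * q = (s : G) := by
        have h : (s : G) ∈ ((Subgroup.centralizer (Q : Set G) ⊔ Q : Subgroup G) : Set G) := by
          rw [sup_comm]; exact hc
        rw [Subgroup.coe_mul_of_left_le_normalizer_right _ _ hnorm] at h
        obtain ⟨c, hc1, q, hq, he⟩ := h
        exact ⟨c, hc1, q, hq, he⟩
      exact ⟨q, hq, c, hc1, by rw [← he]; exact (Subgroup.mem_centralizer_iff.mp hc1 q hq).symm⟩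
    obtain ⟨q, hq, c, hc1, he⟩ := hcase
    have hcS : c ∈ (S : Subgroup G) := by
      have := mul_mem (inv_mem (hQS hq)) s.2
      rwa [he, inv_mul_cancel_left] at this
    have hcm : (⟨c, hcS⟩ : (S : Subgroup G)) ∈ Q.subgroupOf (S : Subgroup G) := by
      have h1 : (⟨c, hcS⟩ : (S : Subgroup G)) ∈
          Subgroup.centralizer (Q.subgroupOf (S : Subgroup G) : Set (S : Subgroup G)) :=
        Subgroup.mem_centralizer_iff.mpr fun v hv =>
          Subtype.ext (Subgroup.mem_centralizer_iff.mp hc1 (v : G) hv)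
      rw [hC] at h1
      rw [hQi]
      obtain ⟨t, ht⟩ := h1
      have ht' : (d.x ^ (2 * d.q)) ^ t = ⟨c, hcS⟩ := ht
      rw [← ht', ← zpow_mul, d.r_mem_small]
      exact ⟨2 * t, by ring⟩
    exact he ▸ mul_mem hq hcm

end CfsgLib.SmallTwo
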