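import Cfsg.Agent.Lib.SmallTwo.WreathedSmall

/-!
Self-centralizing subgroups of a wreathed group with automorphism group not a 2-group.
-/

set_option autoImplicit false

namespace CfsgLib.SmallTwo

/-- An automorphism of odd order fixing a subgroup of index 2 pointwise is trivial. -/
theorem eq_self_of_fix_index_two {X : Type*} [Group X] [Finite X] (β : MulAut X) {m : ℕ}
    (hm : Odd m) (hβ : β ^ m = 1) (hX : IsPGroup 2 X) (H : Subgroup X) (hH : ∀ h ∈ H, β h = h)
    (g : X) (hg : g⁻¹ * β g ∈ H) : β g = g := by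
  set h := g⁻¹ * β g
  have hit : ∀ t : ℕ, (β ^ t) g = g * h ^ t := by
    intro t
    induction t with
    | zero => simp
    | succ t ih =>
      rw [pow_succ', MulAut.mul_apply, ih, map_mul, hH _ (pow_mem hg t), pow_succ', ← mul_assoc]
      simp [h]
  have h1 : h ^ m = 1 := by simpa [hβ] using (hit m).symm
  obtain ⟨k, hk⟩ := IsPGroup.iff_orderOf.mp hX h
  have hd : orderOf h ∣ m := orderOf_dvd_of_pow_eq_one h1
  rw [hk] at hd
  have h2 : orderOf h = 1 := by
    rw [hk]
    exact Nat.eq_one_of_dvd_coprimes (Nat.Coprime.pow_left k hm.coprime_two_left) dvd_rfl hd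
  have h3 : g⁻¹ * β g = 1 := orderOf_eq_one_iff.mp h2
  exact (eq_of_inv_mul_eq_one h3).symm

/-- A residue of odd multiplicative order modulo a power of two is trivial. -/
theorem dvd_sub_one_of_pow {r M : ℤ} {k m : ℕ} (hM : M = 2 ^ k) (hm : Odd m) (hr : Odd r)
    (h : M ∣ r ^ m - 1) : M ∣ r - 1 := by
  subst hM
  rw [← geom_sum_mul] at h
  refine (IsCoprime.pow_left ?_).dvd_of_dvd_mul_left h
  rw [Int.prime_two.coprime_iff_not_dvd, ← even_iff_two_dvd, Int.not_even_iff_odd]
  obtain ⟨a, rfl⟩ := hm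
  clear h
  induction a with
  | zero => simp
  | succ a ih =>
    rw [show 2 * (a + 1) + 1 = (2 * a + 1) + 1 + 1 by ring, Finset.sum_range_succ, Finset.sum_range_succ,
      add_assoc]
    exact ih.add_even (by simp [parity_simps, Int.not_even_iff_odd.mpr hr])

/-- The automorphism group of a cyclic 2-group is a 2-group. -/
theorem isPGroup_mulAut_cyclic {X : Type*} [Group X] [Finite X] (hX : IsPGroup 2 X) (hc : IsCyclic X) :
    IsPGroup 2 (MulAut X) := by
  obtain ⟨k, hk⟩ := IsPGroup.iff_card.mp hX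
  have h : Nat.card (MulAut X) = (Nat.card X).totient := by
    rw [Nat.card_congr (IsCyclic.mulAutMulEquiv X).toEquiv]
    have : NeZero (Nat.card X) := ⟨Nat.card_pos.ne'⟩
    rw [Nat.card_eq_fintype_card, ZMod.card_units_eq_totient]
  rcases Nat.eq_zero_or_pos k with rfl | hpos
  · exact IsPGroup.of_card (n := 0) (by rw [h, hk, pow_zero, Nat.totient_one])
  · exact IsPGroup.of_card (n := k - 1) (by rw [h, hk, Nat.totient_prime_pow Nat.prime_two hpos]; simp)

theorem isPGroup_mulAut_of_forall {X : Type*} [Group X] [Finite X]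
    (h : ∀ (β : MulAut X) (m : ℕ), Odd m → β ^ m = 1 → β = 1) : IsPGroup 2 (MulAut X) := by
  intro α
  obtain ⟨k, r, hr, hkr⟩ := Nat.exists_eq_two_pow_mul_odd (n := orderOf α) (orderOf_pos α).ne'
  exact ⟨k, h _ r hr (by rw [← pow_mul, ← hkr, pow_orderOf_eq_one])⟩

namespace WR

variable {S : Type*} [Group S] [Finite S] {n : ℕ} (d : WR S n)

include d

/-- `⟨Z(S), Q₈⟩`. -/
def qz (e : ℤ) : Subgroup S where
  carrier := {g | ∃ a b : ℤ, (d.c ∣ a - b ∧ g = d.u a b) ∨ (d.c ∣ a - b - 2 * e ∧ g = d.u a b * d.z)}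
  one_mem' := ⟨0, 0, Or.inl ⟨by simp, d.u_zero.symm⟩⟩
  mul_mem' := by
    rintro x y ⟨i, j, ⟨⟨p, hp⟩, rfl⟩ | ⟨⟨p, hp⟩, rfl⟩⟩ ⟨k, l, ⟨⟨r, hr⟩, rfl⟩ | ⟨⟨r, hr⟩, rfl⟩⟩
    · exact ⟨_, _, Or.inl ⟨⟨p + r, by linarith⟩, d.u_mul_u ..⟩⟩
    · exact ⟨_, _, Or.inr ⟨⟨p + r, by linarith⟩, d.u_mul_uz ..⟩⟩
    · exact ⟨_, _, Or.inr ⟨⟨p - r, by linarith⟩, d.uz_mul_u ..⟩⟩
    · exact ⟨_, _, Or.inl ⟨⟨p - r, by linarith⟩, d.uz_mul_uz ..⟩⟩
  inv_mem' := by
    rintro x ⟨i, j, ⟨⟨p, hp⟩, rfl⟩ | ⟨⟨p, hp⟩, rfl⟩⟩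
    · exact ⟨_, _, Or.inl ⟨⟨-p, by linarith⟩, d.u_inv ..⟩⟩
    · exact ⟨_, _, Or.inr ⟨⟨p, by linarith⟩, d.uz_inv ..⟩⟩

theorem c_dvd_sub_of_eq {i j i' j' : ℤ} (h : d.u i j = d.u i' j') : d.c ∣ (i - j) - (i' - j') := by
  obtain ⟨⟨p, hp⟩, ⟨r, hr⟩⟩ := d.u_eq_iff.mp h
  exact ⟨2 * p - 2 * r, by linarith⟩

theorem u_mem_qz {e a b : ℤ} : d.u a b ∈ d.qz e ↔ d.c ∣ a - b := by
  refine ⟨?_, fun h => ⟨a, b, Or.inl ⟨h, rfl⟩⟩⟩
  rintro ⟨i, j, ⟨h, he⟩ | ⟨h, he⟩⟩
  · simpa using dvd_add (d.c_dvd_sub_of_eq he) h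
  · exact absurd he (d.u_ne_uz _ _ _ _)

theorem uz_mem_qz {e a b : ℤ} : d.u a b * d.z ∈ d.qz e ↔ d.c ∣ a - b - 2 * e := by
  refine ⟨?_, fun h => ⟨a, b, Or.inr ⟨h, rfl⟩⟩⟩
  rintro ⟨i, j, ⟨h, he⟩ | ⟨h, he⟩⟩
  · exact absurd he.symm (d.u_ne_uz _ _ _ _)
  · obtain ⟨⟨p, hp⟩, ⟨r, hr⟩⟩ := And.intro (d.c_dvd_sub_of_eq (mul_right_cancel he)) h
    exact ⟨p + r, by linarith⟩

theorem qz_conj (e e' : ℤ) : ∃ s : S, (d.qz e).map (MulAut.conj s).toMonoidHom = d.qz e' := by
  have key : ∀ e t : ℤ, (d.qz e).map (MulAut.conj (d.u t 0)).toMonoidHom ≤ d.qz (e + t) := by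
    intro e t
    rintro _ ⟨g, ⟨a, b, ⟨⟨p, hp⟩, rfl⟩ | ⟨⟨p, hp⟩, rfl⟩⟩, rfl⟩
    · exact ⟨a, b, Or.inl ⟨⟨p, hp⟩, by
        show d.u t 0 * _ * _ = _
        rw [d.u_mul_u, d.u_inv, d.u_mul_u]; congr 1 <;> ring⟩⟩
    · refine ⟨a + (t - 0), b + (0 - t), Or.inr ⟨⟨p, by linarith⟩, ?_⟩⟩
      exact d.conj_uz t 0 a b
  refine ⟨d.u (e' - e) 0, le_antisymm (by simpa using key e (e' - e)) fun g hg => ?_⟩
  refine ⟨(MulAut.conj (d.u (e' - e) 0)).symm g, ?_, MulEquiv.apply_symm_apply _ _⟩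
  have h := key e' (e - e') ⟨g, hg, rfl⟩
  rw [add_sub_cancel] at h
  have h' : d.u (e - e') 0 * g * (d.u (e - e') 0)⁻¹ ∈ d.qz e := h
  show (MulAut.conj (d.u (e' - e) 0)).symm g ∈ d.qz e
  rw [MulAut.conj_symm_apply, d.u_inv]
  rw [d.u_inv, neg_sub, neg_zero] at h'
  rw [neg_sub, neg_zero]
  exact h'

theorem qz_eq_sup (e : ℤ) :
    ∃ Q : Subgroup S, Nonempty (Q ≃* QuaternionGroup 2) ∧ d.qz e = Q ⊔ Subgroup.center S := by
  have : Fact (Nat.Prime 2) := ⟨Nat.prime_two⟩
  obtain ⟨q, hq, hc⟩ := d.exists_quarter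
  obtain ⟨f, hf, hr⟩ := CfsgLib.Classical.exists_quaternion_hom (n := 2)
    (a := d.u q (-q)) (w := d.u e (d.c - e) * d.z)
    (orderOf_eq_prime_pow (p := 2) (n := 1)
      (by
        rw [pow_one, ← zpow_natCast, d.u_zpow, d.u_eq_one_iff]
        rintro ⟨h, -⟩
        push_cast at h
        exact d.not_dvd_c (by rwa [← hc] at h))
      (by
        rw [← zpow_natCast, d.u_zpow, d.u_eq_one_iff]
        exact ⟨⟨1, by push_cast; linarith⟩, ⟨-1, by push_cast; linarith⟩⟩))
    (by rw [← zpow_natCast, d.u_zpow, d.uz_mul_uz, d.u_eq_iff]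
        exact ⟨⟨0, by push_cast; linarith⟩, ⟨1, by push_cast; linarith⟩⟩)
    (by
      rw [d.uz_inv, d.uz_mul_u, d.uz_mul_uz, d.u_inv, d.u_eq_iff]
      exact ⟨⟨0, by ring⟩, ⟨0, by ring⟩⟩)
    (fun ⟨k, hk⟩ => d.u_ne_uz _ _ _ _ ((d.u_zpow q (-q) k).symm.trans hk))
  refine ⟨f.range, ⟨(MonoidHom.ofInjective hf).symm⟩, ?_⟩
  rw [hr]
  refine le_antisymm ?_ (sup_le ?_ ?_)
  · set K := Subgroup.closure {d.u q (-q), d.u e (d.c - e) * d.z} ⊔ Subgroup.center S
    have hu : ∀ a b : ℤ, d.c ∣ a - b → d.u a b ∈ K := by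
      rintro a b ⟨k, hk⟩
      rw [show d.u a b = d.u q (-q) ^ k * d.u (b + q * k) (b + q * k) by
        rw [d.u_zpow, d.u_mul_u]; congr 1
        · linear_combination hk + k * hc
        · ring]
      exact mul_mem (zpow_mem (Subgroup.mem_sup_left (Subgroup.subset_closure (Set.mem_insert _ _))) k)
        (Subgroup.mem_sup_right (d.mem_center_iff.mpr ⟨_, rfl⟩))
    rintro g ⟨a, b, ⟨h, rfl⟩ | ⟨h, rfl⟩⟩
    · exact hu a b h
    · rw [show d.u a b * d.z = d.u (a - e) (b - (d.c - e)) * (d.u e (d.c - e) * d.z) by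
        rw [d.u_mul_uz]; congr 2 <;> ring]
      refine mul_mem (hu _ _ ?_)
        (Subgroup.mem_sup_left (Subgroup.subset_closure (Set.mem_insert_of_mem _ rfl)))
      obtain ⟨p, hp⟩ := h
      exact ⟨p + 1, by linarith⟩
  · rw [Subgroup.closure_le]
    rintro g (rfl | rfl)
    · exact d.u_mem_qz.mpr ⟨1, by linarith⟩
    · exact d.uz_mem_qz.mpr ⟨-1, by ring⟩
  · intro g hg
    obtain ⟨k, rfl⟩ := d.mem_center_iff.mp hg
    exact d.u_mem_qz.mpr (by simp)

theorem qz_relIndex (e : ℤ) :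
    (d.qz e).relIndex (Subgroup.normalizer (d.qz e : Set S)) = 2 := by
  obtain ⟨q, hq, hc⟩ := d.exists_quarter
  set X := d.qz e with hX
  set N := Subgroup.normalizer (X : Set S)
  have hw : d.u e (-e) * d.z ∈ X := d.uz_mem_qz.mpr ⟨0, by ring⟩
  have hchar : ∀ a b : ℤ, d.u a b ∈ N → q ∣ a - b := by
    intro a b h
    have h' := (Subgroup.mem_normalizer_iff.mp h _).mp hw
    rw [d.conj_uz, d.uz_mem_qz] at h'
    obtain ⟨k, hk⟩ := h'
    exact ⟨k, by linarith [show d.c * k = 2 * (q * k) by rw [hc]; ring]⟩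
  have ht : d.u q 0 ∈ N := by
    apply Subgroup.mem_normalizer_fintype
    rintro g ⟨a, b, ⟨⟨p, hp⟩, rfl⟩ | ⟨⟨p, hp⟩, rfl⟩⟩
    · show d.u q 0 * d.u a b * (d.u q 0)⁻¹ ∈ X
      rw [d.u_mul_u, d.u_inv, d.u_mul_u, d.u_mem_qz]
      exact ⟨p, by linarith⟩
    · show d.u q 0 * (d.u a b * d.z) * (d.u q 0)⁻¹ ∈ X
      rw [d.conj_uz, d.uz_mem_qz]
      exact ⟨p + 1, by linarith⟩
  have hXN : X ≤ N := Subgroup.le_normalizer
  have hodd : ∀ k : ℤ, d.u (q * (2 * k + 1)) 0 ∉ X := by
    intro k h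
    obtain ⟨p, hp⟩ := d.u_mem_qz.mp h
    rw [hc, sub_zero, show 2 * q * p = q * (2 * p) by ring] at hp
    have := mul_left_cancel₀ hq.ne' hp
    omega
  have heven : ∀ k : ℤ, d.u (q * (2 * k)) 0 ∈ X := fun k => d.u_mem_qz.mpr ⟨k, by rw [hc]; ring⟩
  rw [Subgroup.relIndex, Subgroup.index_eq_two_iff]
  refine ⟨⟨_, ht⟩, fun ⟨b, hb⟩ => ?_⟩
  simp only [Subgroup.mem_subgroupOf, Subgroup.coe_mul]
  obtain ⟨x, hx, k, rfl⟩ : ∃ x ∈ X, ∃ k : ℤ, b = x * d.u (q * k) 0 := by
    obtain ⟨a, a', rfl | rfl⟩ := d.cases' b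
    · obtain ⟨k, hk⟩ := hchar a a' hb
      refine ⟨d.u a' a', d.u_mem_qz.mpr (by simp), k, ?_⟩
      rw [d.u_mul_u, add_zero, ← hk, add_sub_cancel]
    · have h := mul_mem (inv_mem (hXN hw)) hb
      rw [d.uz_inv, d.uz_mul_uz] at h
      obtain ⟨k, hk⟩ := hchar _ _ h
      refine ⟨d.u e (-e) * d.z * d.u (-e + a) (-e + a), mul_mem hw (d.u_mem_qz.mpr (by simp)), k, ?_⟩
      rw [mul_assoc, d.u_mul_u, add_zero, d.uz_mul_u, mul_left_inj, d.u_eq_iff, ← hk]
      exact ⟨⟨0, by ring⟩, ⟨0, by ring⟩⟩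
  rw [mul_assoc, d.u_mul_u, add_zero, X.mul_mem_cancel_left hx, X.mul_mem_cancel_left hx]
  rcases Int.even_or_odd' k with ⟨v, rfl | rfl⟩
  · exact Or.inr ⟨heven v, by rw [← mul_add_one]; exact hodd v⟩
  · exact Or.inl ⟨by rw [← mul_add_one, show 2 * v + 1 + 1 = 2 * (v + 1) by ring]; exact heven _, hodd v⟩

theorem isPGroup : IsPGroup 2 S := IsPGroup.of_card d.card

theorem card_of_index_base (X : Subgroup S) (hX : ¬ X ≤ d.base) :
    Nat.card X = 2 * Nat.card (X ⊓ d.base : Subgroup S) := by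
  have := d.base_normal
  have h2 : d.base.relIndex X = 2 := by
    refine ((Nat.dvd_prime Nat.prime_two).mp ?_).resolve_left ?_
    · exact d.index_base ▸ Subgroup.relIndex_dvd_index_of_normal d.base X
    · rw [Subgroup.relIndex_eq_one]; exact hX
  rw [← Subgroup.card_mul_index (d.base.subgroupOf X), ← Subgroup.relIndex, h2, mul_comm]
  congr 1
  rw [← Subgroup.inf_subgroupOf_left, Nat.card_congr (Subgroup.subgroupOfEquivOfLe inf_le_left).toEquiv]

theorem classify (X : Subgroup S) (hC : Subgroup.centralizer (X : Set S) ≤ X)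
    (hA : ¬ IsPGroup 2 (MulAut X)) : X = d.base ∨ ∃ e, X = d.qz e := by
  by_cases hXb : X ≤ d.base
  · refine Or.inl (le_antisymm hXb (le_trans (fun g hg => Subgroup.mem_centralizer_iff.mpr fun h hh => ?_) hC))
    exact congrArg (fun v : d.base => (v : S))
      (d.isMulCommutative_base.is_comm.comm ⟨h, hXb hh⟩ ⟨g, hg⟩)
  refine Or.inr ?_
  obtain ⟨w, hwX, hwb⟩ := Set.not_subset.mp hXb
  obtain ⟨i, j, rfl⟩ := d.notMem_iff hwb
  have hdiag : ∀ k, d.u k k ∈ X := fun k => hC (Subgroup.mem_centralizer_iff.mpr fun h _ =>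
    Subgroup.mem_center_iff.mp (d.mem_center_iff.mpr ⟨k, rfl⟩) h)
  have hδ : ∀ a b, d.u a b ∈ X ↔ d.u (a - b) 0 ∈ X := by
    intro a b
    rw [show d.u a b = d.u (a - b) 0 * d.u b b by rw [d.u_mul_u]; congr 1 <;> ring,
      X.mul_mem_cancel_right (hdiag b)]
  -- the differences occurring in `X ∩ base`
  let D : AddSubgroup ℤ :=
    { carrier := {t | d.u t 0 ∈ X}
      zero_mem' := by show d.u 0 0 ∈ X; rw [d.u_zero]; exact one_mem _
      add_mem' := fun {a b} ha hb => by
        show d.u (a + b) 0 ∈ X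
        have := mul_mem (show d.u a 0 ∈ X from ha) (show d.u b 0 ∈ X from hb)
        rwa [d.u_mul_u, add_zero] at this
      neg_mem' := fun {a} ha => by
        show d.u (-a) 0 ∈ X
        have := inv_mem (show d.u a 0 ∈ X from ha)
        rwa [d.u_inv, neg_zero] at this }
  obtain ⟨d0, hd0⟩ := Int.subgroup_cyclic D
  have hmemD : ∀ a b, d.u a b ∈ X ↔ d0 ∣ a - b := by
    intro a b
    rw [hδ, ← Int.mem_zmultiples_iff, AddSubgroup.zmultiples_eq_closure, ← hd0]
    rfl
  obtain ⟨k, hkn, hk⟩ : ∃ k : ℕ, k ≤ n ∧ d0.natAbs = 2 ^ k := by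
    have h : d.u (2 * d.c) 0 = 1 := d.u_eq_one_iff.mpr ⟨dvd_rfl, dvd_zero _⟩
    have h' := (hmemD (2 * d.c) 0).mp (h ▸ one_mem _)
    rw [sub_zero, ← d.order_int, Int.dvd_natCast] at h'
    exact (Nat.dvd_prime_pow Nat.prime_two).mp h'
  set M : ℤ := ((2 ^ k : ℕ) : ℤ) with hM
  have hmem : ∀ a b, d.u a b ∈ X ↔ M ∣ a - b := fun a b => by
    rw [hmemD, hM, ← hk, Int.natAbs_dvd]
  clear hmemD hd0 hk
  have hXp : IsPGroup 2 X := d.isPGroup.to_subgroup X
  set A₀ := (d.base).subgroupOf X with hA₀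
  have hsplit : ∀ g : X, g ∉ A₀ → ∀ g' : X, g' ∉ A₀ → g⁻¹ * g' ∈ A₀ := fun g hg g' hg' => by
    rw [hA₀, Subgroup.mem_subgroupOf, Subgroup.coe_mul, Subgroup.coe_inv,
      Subgroup.mul_mem_iff_of_index_two d.index_base, Subgroup.inv_mem_iff]
    exact iff_of_false hg hg'
  let W : X := ⟨_, hwX⟩
  have hW : W ∉ A₀ := hwb
  -- `X` is cyclic when abelian with odd exponent sum
  have hcardZ : k = n → Nat.card X = 2 * 2 ^ n := by
    rintro rfl
    rw [d.card_of_index_base X hXb, show X ⊓ d.base = Subgroup.zpowers (d.u 1 1) by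
      ext g
      refine ⟨?_, fun ⟨t, ht⟩ => ht ▸ ⟨?_, ?_⟩⟩
      · rintro ⟨hg, a, b, rfl⟩
        refine ⟨a, ?_⟩
        show d.u 1 1 ^ a = d.u a b
        rw [d.u_zpow, d.u_eq_iff, mul_one]
        exact ⟨by simp, by simpa [hM, d.order_int] using (hmem a b).mp hg⟩
      · exact zpow_mem (hdiag 1) t
      · exact zpow_mem (d.u_mem_base 1 1) t, Nat.card_zpowers, d.orderOf_u_one]
  have hcyc : Odd (i + j) → orderOf (d.u i j * d.z) = 2 * 2 ^ n := by
    intro hodd
    rw [← pow_succ']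
    have : Fact (Nat.Prime 2) := ⟨Nat.prime_two⟩
    refine orderOf_eq_prime_pow ?_ ?_
    · intro h
      have := d.hn
      rw [show (2 : ℕ) ^ n = 2 * 2 ^ (n - 1) by rw [← pow_succ', Nat.sub_add_cancel (by omega)], pow_mul, pow_two, d.uz_mul_uz,
        ← zpow_natCast, d.u_zpow, d.u_eq_one_iff] at h
      obtain ⟨t, ht⟩ := h.1
      have e : ((2 ^ (n - 1) : ℕ) : ℤ) = d.c := by rw [c]; push_cast; rfl
      rw [e, mul_assoc, mul_left_comm 2] at ht
      have := mul_left_cancel₀ d.c_pos.ne' ht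
      obtain ⟨v, hv⟩ := hodd
      omega
    · rw [pow_succ', pow_mul, pow_two, d.uz_mul_uz, ← zpow_natCast, d.order_int, d.u_zpow,
        d.u_eq_one_iff]
      exact ⟨⟨i + j, by ring⟩, ⟨j + i, by ring⟩⟩
  -- the bad cases
  rcases Nat.lt_or_ge k n with hlt | hge
  · -- nonabelian
    by_cases hgood : k + 1 = n ∧ Even (i + j)
    · obtain ⟨hk1, s, hs⟩ := hgood
      have hMc : M = d.c := by
        rw [hM, c, show n - 1 = k by omega]; push_cast; rfl
      refine ⟨i - s, le_antisymm ?_ ?_⟩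
      · intro g hg
        obtain ⟨a, b, rfl | rfl⟩ := d.cases' g
        · exact d.u_mem_qz.mpr (hMc ▸ (hmem a b).mp hg)
        · have h := mul_mem hg (inv_mem hwX)
          rw [d.uz_inv, d.uz_mul_uz, hmem, hMc] at h
          obtain ⟨p, hp⟩ := h
          exact d.uz_mem_qz.mpr ⟨p, by linarith⟩
      · intro g hg
        obtain ⟨a, b, rfl | rfl⟩ := d.cases' g
        · exact (hmem a b).mpr (hMc ▸ d.u_mem_qz.mp hg)
        · obtain ⟨p, hp⟩ := d.uz_mem_qz.mp hg
          rw [show d.u a b * d.z = d.u (a - i) (b - j) * (d.u i j * d.z) by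
            rw [d.u_mul_uz]; congr 2 <;> ring]
          refine mul_mem ((hmem _ _).mpr ⟨p, ?_⟩) hwX
          rw [hMc]; linarith
    exfalso
    apply hA
    refine isPGroup_mulAut_of_forall fun β m hm hβ => ?_
    have hM1 : (M : ℤ) ∣ d.c := by
      rw [hM, c]; push_cast; exact pow_dvd_pow 2 (by omega)
    -- the centre
    have hcen : ∀ g : X, g ∈ Subgroup.center X ↔ ∃ t, (g : S) = d.u t t := by
      intro g
      constructor
      · intro hg
        have hc0 : d.u d.c 0 ∈ X := (hmem _ _).mpr (by simpa using hM1)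
        obtain ⟨a, b, hab | hab⟩ := d.cases' (g : S)
        · refine ⟨a, hab.trans (d.u_eq_iff.mpr ⟨by simp, ?_⟩)⟩
          have := (congrArg Subtype.val (Subgroup.mem_center_iff.mp hg W)).symm
          rw [Subgroup.coe_mul, Subgroup.coe_mul, hab] at this
          exact dvd_sub_comm.mp (d.commute_u_uz.mp this)
        · exfalso
          have := congrArg Subtype.val (Subgroup.mem_center_iff.mp hg ⟨_, hc0⟩)
          rw [Subgroup.coe_mul, Subgroup.coe_mul, hab] at this
          exact d.not_dvd_c (by simpa using d.commute_u_uz.mp this)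
      · rintro ⟨t, ht⟩
        refine Subgroup.mem_center_iff.mpr fun h => Subtype.ext ?_
        rw [Subgroup.coe_mul, Subgroup.coe_mul, ht]
        exact Subgroup.mem_center_iff.mp (d.mem_center_iff.mpr ⟨t, rfl⟩) _
    have hfixZ : ∀ g ∈ Subgroup.center X, β g = g := by
      intro g hg
      have hcy : IsCyclic (Subgroup.center X) := by
        let f : Subgroup.center X →* Subgroup.center S :=
          { toFun := fun v => ⟨((v : X) : S), d.mem_center_iff.mpr ((hcen v).mp v.2)⟩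
            map_one' := rfl
            map_mul' := fun _ _ => rfl }
        have : IsCyclic (Subgroup.center S) := by rw [d.center_eq]; infer_instance
        exact isCyclic_of_injective f fun v v' h =>
          Subtype.ext (Subtype.ext (congrArg (fun q : Subgroup.center S => (q : S)) h))
      let R : MulAut X →* MulAut (Subgroup.center X) := MonoidHom.mk' (fun γ =>
        (γ.subgroupMap (Subgroup.center X)).trans (MulEquiv.subgroupCongr (by
          ext v
          simp only [Subgroup.mem_map, MulEquiv.coe_toMonoidHom, MonoidHom.coe_coe, Subgroup.mem_center_iff]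
          constructor
          · rintro ⟨u', hu', rfl⟩ w'
            have := congrArg γ (hu' (γ.symm w'))
            rwa [map_mul, map_mul, MulEquiv.apply_symm_apply] at this
          · intro hv
            refine ⟨γ.symm v, fun w' => γ.injective ?_, MulEquiv.apply_symm_apply _ _⟩
            rw [map_mul, map_mul, MulEquiv.apply_symm_apply]
            exact hv _))) (fun γ γ' => MulEquiv.ext fun v => Subtype.ext rfl)
      have hb : R β = 1 := by
        obtain ⟨t, ht⟩ := IsPGroup.iff_orderOf.mp (isPGroup_mulAut_cyclic (hXp.to_subgroup _) hcy) (R β)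
        have h1 : orderOf (R β) ∣ m := orderOf_dvd_of_pow_eq_one (by rw [← map_pow, hβ, map_one])
        rw [ht] at h1
        rw [← orderOf_eq_one_iff, ht]
        exact Nat.eq_one_of_dvd_coprimes (Nat.Coprime.pow_left t hm.coprime_two_left) dvd_rfl h1
      exact congrArg Subtype.val (DFunLike.congr_fun hb ⟨g, hg⟩)
    -- the abelian part is invariant
    have hinv : ∀ a ∈ A₀, β a ∈ A₀ := by
      intro a ha
      by_contra hba
      obtain ⟨p, r, hpr⟩ := d.notMem_iff (g := ((β a : X) : S)) hba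
      have hcommA : ∀ b ∈ A₀, Commute (β a) (β b) := fun b hb => by
        refine Commute.map (Subtype.ext ?_) β
        exact congrArg (fun v : d.base => (v : S))
          (d.isMulCommutative_base.is_comm.comm ⟨a, ha⟩ ⟨b, hb⟩)
      let G0 : X := ⟨d.u M 0, (hmem _ _).mpr (by simp)⟩
      have hinter : ∀ b ∈ A₀, β b ∈ A₀ → b ∈ Subgroup.center X := by
        intro b hb hbb
        obtain ⟨a', b', hab⟩ : (β b : S) ∈ d.base := hbb
        have h := congrArg Subtype.val (hcommA b hb)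
        rw [Subgroup.coe_mul, Subgroup.coe_mul, hpr, hab] at h
        have hz : β b ∈ Subgroup.center X := (hcen _).mpr ⟨a', hab.trans (d.u_eq_iff.mpr
          ⟨by simp, dvd_sub_comm.mp (d.commute_u_uz.mp h.symm)⟩)⟩
        have := hfixZ _ hz
        exact (β.injective this) ▸ hz
      have hG0 : β G0 ∉ A₀ := fun h => by
        obtain ⟨t, ht⟩ := (hcen G0).mp (hinter G0 (d.u_mem_base _ _) h)
        obtain ⟨h1, h2⟩ := d.u_eq_iff.mp ht
        have h3 : ((2 ^ n : ℕ) : ℤ) ∣ ((2 ^ k : ℕ) : ℤ) := by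
          rw [d.order_int, ← hM]
          simpa using dvd_sub h1 h2
        rw [Int.natCast_dvd_natCast] at h3
        have := (Nat.pow_dvd_pow_iff_le_right (by norm_num)).mp h3
        omega
      have hsq : G0 * G0 ∈ Subgroup.center X := hinter _ (mul_mem (d.u_mem_base _ _) (d.u_mem_base _ _)) (by
        rw [map_mul]
        show ((β G0 : X) : S) * (β G0 : X) ∈ d.base
        rw [Subgroup.mul_mem_iff_of_index_two d.index_base])
      obtain ⟨t, ht⟩ := (hcen _).mp hsq
      rw [Subgroup.coe_mul, d.u_mul_u, d.u_eq_iff] at ht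
      have h3 : ((2 ^ n : ℕ) : ℤ) ∣ ((2 * 2 ^ k : ℕ) : ℤ) := by
        rw [d.order_int]
        have := dvd_sub ht.1 ht.2
        rw [show M + M - t - (0 + 0 - t) = 2 * M by ring] at this
        rw [Nat.cast_mul, ← hM]
        exact_mod_cast this
      rw [Int.natCast_dvd_natCast, ← pow_succ', Nat.pow_dvd_pow_iff_le_right (by norm_num)] at h3
      have hk1 : k + 1 = n := by omega
      have hoddij : Odd (i + j) := Int.not_even_iff_odd.mp fun h => hgood ⟨hk1, h⟩
      obtain ⟨p', r', hpr'⟩ := d.notMem_iff (g := ((β G0 : X) : S)) hG0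
      have hsum : Odd (p' + r') := by
        have h := mul_mem (β G0).2 (inv_mem hwX)
        rw [hpr', d.uz_inv, d.uz_mul_uz, hmem] at h
        obtain ⟨v, hv⟩ := h
        have hMe : Even M := by
          obtain ⟨l, rfl⟩ : ∃ l, k = l + 1 := ⟨k - 1, by have := d.hn; omega⟩
          exact ⟨2 ^ l, by rw [hM]; push_cast; ring⟩
        rcases Int.even_or_odd (p' + r') with he | ho
        · exfalso
          apply Int.not_even_iff_odd.mpr hoddij
          obtain ⟨⟨s, hs⟩, ⟨l, hl⟩⟩ := And.intro he hMe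
          exact ⟨i + l * v - p' + s, by linarith [show M * v = (l + l) * v by rw [hl]]⟩
        · exact ho
      have hG2 : G0 * G0 = 1 ∨ True := Or.inr trivial
      have h4 := orderOf_dvd_of_pow_eq_one (x := ((β G0 : X) : S)) (n := 2 ^ n) (by
        refine (SubmonoidClass.coe_pow (β G0) (2 ^ n)).symm.trans ?_
        rw [← map_pow, show G0 ^ (2 ^ n) = 1 from Subtype.ext ?_, map_one]
        · rfl
        show d.u M 0 ^ (2 ^ n) = 1
        rw [← zpow_natCast, d.order_int, d.u_zpow]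
        exact d.u_eq_one_iff.mpr ⟨⟨M, by ring⟩, ⟨0, by ring⟩⟩)
      rw [hpr'] at h4
      have h5 : orderOf (d.u p' r' * d.z) = 2 * 2 ^ n := by
        rw [← pow_succ']
        have : Fact (Nat.Prime 2) := ⟨Nat.prime_two⟩
        refine orderOf_eq_prime_pow ?_ ?_
        · intro h
          have := d.hn
          rw [show (2 : ℕ) ^ n = 2 * 2 ^ (n - 1) by rw [← pow_succ', Nat.sub_add_cancel (by omega)], pow_mul, pow_two, d.uz_mul_uz,
            ← zpow_natCast, d.u_zpow, d.u_eq_one_iff] at h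
          obtain ⟨t, ht⟩ := h.1
          have e : ((2 ^ (n - 1) : ℕ) : ℤ) = d.c := by rw [c]; push_cast; rfl
          rw [e, mul_assoc, mul_left_comm 2] at ht
          have := mul_left_cancel₀ d.c_pos.ne' ht
          obtain ⟨v, hv⟩ := hsum
          omega
        · rw [pow_succ', pow_mul, pow_two, d.uz_mul_uz, ← zpow_natCast, d.order_int, d.u_zpow,
            d.u_eq_one_iff]
          exact ⟨⟨p' + r', by ring⟩, ⟨r' + p', by ring⟩⟩
      rw [h5] at h4
      have := Nat.le_of_dvd (by positivity) h4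
      have := Nat.two_pow_pos n
      omega
    have hβA : ∀ g, β g ∈ A₀ ↔ g ∈ A₀ := by
      intro g
      refine ⟨fun h => ?_, hinv g⟩
      have key : ∀ t : ℕ, ∀ a ∈ A₀, (β ^ t) a ∈ A₀ := by
        intro t
        induction t with
        | zero => exact fun a ha => ha
        | succ t ih => exact fun a ha => by rw [pow_succ, MulAut.mul_apply]; exact ih _ (hinv a ha)
      obtain ⟨v, rfl⟩ := hm
      have := key (2 * v) _ h
      rwa [← MulAut.mul_apply, ← pow_succ, hβ] at this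
    -- trivial on the abelian part
    let G0 : X := ⟨d.u M 0, (hmem _ _).mpr (by simp)⟩
    have hgen : ∀ a ∈ A₀, ∃ (l : ℤ) (z0 : X), z0 ∈ Subgroup.center X ∧ a = G0 ^ l * z0 := by
      intro a ha
      obtain ⟨p, r, hpr⟩ : (a : S) ∈ d.base := ha
      obtain ⟨l, hl⟩ := (hmem p r).mp (hpr ▸ a.2)
      refine ⟨l, ⟨d.u r r, hdiag r⟩, (hcen _).mpr ⟨r, rfl⟩, Subtype.ext ?_⟩
      rw [Subgroup.coe_mul, SubgroupClass.coe_zpow, d.u_zpow, d.u_mul_u, hpr]
      congr 1
      · linarith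
      · ring
    obtain ⟨l, z0, hz0, hl⟩ := hgen _ (hinv G0 (d.u_mem_base _ _))
    have hcommG : ∀ v ∈ Subgroup.center X, Commute v G0 := fun v hv =>
      (Subgroup.mem_center_iff.mp hv G0).symm
    have hit : ∀ t : ℕ, ∃ v ∈ Subgroup.center X, (β ^ t) G0 = G0 ^ (l ^ t) * v := by
      intro t
      induction t with
      | zero => exact ⟨1, one_mem _, by simp⟩
      | succ t ih =>
        obtain ⟨v, hv, e⟩ := ih
        refine ⟨z0 ^ (l ^ t) * v, mul_mem (zpow_mem hz0 _) hv, ?_⟩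
        rw [pow_succ' β, MulAut.mul_apply, e, map_mul, map_zpow, hl, hfixZ v hv,
          ((hcommG z0 hz0).symm.zpow_left l).mul_zpow, ← zpow_mul, ← pow_succ', mul_assoc]
    obtain ⟨v, hv, hmv⟩ := hit m
    rw [hβ, MulAut.one_apply] at hmv
    obtain ⟨t, ht⟩ := (hcen v).mp hv
    have h1 := congrArg Subtype.val hmv
    rw [Subgroup.coe_mul, SubgroupClass.coe_zpow, ht, d.u_zpow, d.u_mul_u, d.u_eq_iff] at h1
    have h2 : 2 * d.c ∣ M * (l ^ m - 1) := by
      have := dvd_sub h1.2 h1.1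
      rwa [show 0 - (l ^ m * 0 + t) - (M - (l ^ m * M + t)) = M * (l ^ m - 1) by ring] at this
    obtain ⟨L, hL⟩ : ∃ L : ℕ, n = k + (L + 1) := ⟨n - k - 1, by omega⟩
    rw [← d.order_int, hL, hM, pow_add, Nat.cast_mul] at h2
    have h3 : ((2 ^ (L + 1) : ℕ) : ℤ) ∣ l ^ m - 1 :=
      (mul_dvd_mul_iff_left (by positivity)).mp h2
    have hlodd : Odd l := by
      by_contra h
      have he : Even (l ^ m) := (Int.even_pow' hm.pos.ne').mpr (Int.not_odd_iff_even.mp h)
      obtain ⟨⟨a, ha⟩, ⟨b, hb⟩⟩ := And.intro he h3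
      rw [ha] at hb
      push_cast at hb
      rw [pow_succ, mul_assoc, mul_left_comm] at hb
      omega
    have h4 := dvd_sub_one_of_pow (k := L + 1) (by push_cast; rfl) hm hlodd h3
    obtain ⟨a, ha⟩ := h4
    have hG0pow : G0 ^ (l - 1) ∈ Subgroup.center X := by
      refine (hcen _).mpr ⟨0, ?_⟩
      rw [SubgroupClass.coe_zpow, d.u_zpow, d.u_eq_iff]
      refine ⟨⟨a, ?_⟩, by simp⟩
      rw [ha, ← d.order_int, hL, pow_add (2 : ℕ) k, hM]
      push_cast
      ring
    have hfG : β G0 = G0 := by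
      refine eq_self_of_fix_index_two β hm hβ hXp (Subgroup.center X) hfixZ G0 ?_
      rw [hl, ← mul_assoc, ← zpow_neg_one, ← zpow_add, neg_add_eq_sub]
      exact mul_mem hG0pow hz0
    have hfA : ∀ a ∈ A₀, β a = a := fun a ha => by
      obtain ⟨l', z', hz', rfl⟩ := hgen a ha
      rw [map_mul, map_zpow, hfG, hfixZ z' hz']
    refine MulEquiv.ext fun g => ?_
    show β g = g
    by_cases hg : g ∈ A₀
    · exact hfA g hg
    · exact eq_self_of_fix_index_two β hm hβ hXp A₀ hfA g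
        (hsplit g hg _ fun h => hg ((hβA g).mp h))
  · -- abelian
    exfalso
    apply hA
    obtain rfl : k = n := le_antisymm hkn hge
    have hM2 : M = 2 * d.c := by rw [hM, d.order_int]
    have hcard := hcardZ rfl
    rcases Int.even_or_odd (i + j) with ⟨s, hs⟩ | hodd
    · -- an involution outside the centre
      have hI : d.u (i - s) (-(i - s)) * d.z ∈ X := by
        rw [show d.u (i - s) (-(i - s)) * d.z = d.u (-s) (-s) * (d.u i j * d.z) by
          rw [d.u_mul_uz]; congr 2 <;> linarith]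
        exact mul_mem (hdiag _) hwX
      set v := d.u (i - s) (-(i - s)) * d.z with hv
      have hvv : v * v = 1 := by
        rw [hv, d.uz_mul_uz, d.u_eq_one_iff]; exact ⟨⟨0, by ring⟩, ⟨0, by ring⟩⟩
      have hform : ∀ g : X, ∃ t : ℤ, (g : S) = d.u t t ∨ (g : S) = d.u t t * v := by
        intro g
        have key : ∀ a b, d.u a b ∈ X → d.u a b = d.u a a := fun a b h =>
          d.u_eq_iff.mpr ⟨by simp, dvd_sub_comm.mp (hM2 ▸ (hmem a b).mp h)⟩
        obtain ⟨a, b, hab | hab⟩ := d.cases' (g : S)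
        · exact ⟨a, Or.inl (hab.trans (key a b (hab ▸ g.2)))⟩
        · have h := mul_mem (hab ▸ g.2 : d.u a b * d.z ∈ X) (inv_mem hI)
          rw [hv, d.uz_inv, d.uz_mul_uz] at h
          refine ⟨a + -(i - s), Or.inr ?_⟩
          rw [← key _ _ h, hab, hv, d.u_mul_uz]
          congr 2 <;> ring
      have hcv : ∀ t, Commute (d.u t t) v := fun t =>
        (Subgroup.mem_center_iff.mp (d.mem_center_iff.mpr ⟨t, rfl⟩) v).symm
      let T : X := ⟨d.u 1 1, hdiag 1⟩
      let V : X := ⟨v, hI⟩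
      have hTV : Commute T V := Subtype.ext (hcv 1).eq
      refine isPGroup_mulAut_of_forall fun β m hm hβ => ?_
      have hcases : ∀ g : X, ∃ (t : ℤ) (e : ℕ), e ≤ 1 ∧ g = T ^ t * V ^ e := by
        intro g
        obtain ⟨t, h | h⟩ := hform g
        · exact ⟨t, 0, by omega, Subtype.ext (by simp [T, h, d.u_zpow])⟩
        · exact ⟨t, 1, le_rfl, Subtype.ext (by simp [T, V, h, d.u_zpow])⟩
      have hsqX : ∀ g : X, ∃ t : ℤ, g * g = T ^ (2 * t) := by
        intro g
        obtain ⟨t, e, he, rfl⟩ := hcases g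
        refine ⟨t, ?_⟩
        have hV2 : (V ^ e) * (V ^ e) = 1 := by
          rw [← pow_add, ← two_mul, pow_mul, pow_two, show V * V = 1 from Subtype.ext hvv, one_pow]
        rw [((hTV.zpow_left t).pow_right e).symm.mul_mul_mul_comm, hV2, mul_one, two_mul, zpow_add]
      have hfsq : β (T ^ (2 : ℤ)) = T ^ (2 : ℤ) := by
        obtain ⟨t, e, he, hβT⟩ := hcases (β T)
        have h2 : β (T ^ (2 : ℤ)) = (T ^ (2 : ℤ)) ^ t := by
          rw [map_zpow, zpow_two, hβT]
          have hV2 : (V ^ e) * (V ^ e) = 1 := by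
            rw [← pow_add, ← two_mul, pow_mul, pow_two, show V * V = 1 from Subtype.ext hvv, one_pow]
          rw [((hTV.zpow_left t).pow_right e).symm.mul_mul_mul_comm, hV2, mul_one, ← zpow_add,
            ← zpow_mul]
          congr 1; ring
        have hit : ∀ r : ℕ, (β ^ r) (T ^ (2 : ℤ)) = (T ^ (2 : ℤ)) ^ (t ^ r) := by
          intro r
          induction r with
          | zero => simp
          | succ r ih => rw [pow_succ' β, MulAut.mul_apply, ih, map_zpow, h2, ← zpow_mul, pow_succ']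
        have h3 := hit m
        rw [hβ, MulAut.one_apply, ← zpow_mul] at h3
        have h4 := congrArg Subtype.val h3
        simp only [SubgroupClass.coe_zpow, T, d.u_zpow, d.u_eq_iff] at h4
        have h5 : d.c ∣ t ^ m - 1 := by
          obtain ⟨r, hr⟩ := h4.1
          exact ⟨-r, by linarith⟩
        have htodd : Odd t := by
          by_contra h
          obtain ⟨⟨q, hq⟩, ⟨a, ha⟩⟩ := And.intro
            ((Int.even_pow' hm.pos.ne').mpr (Int.not_odd_iff_even.mp h)) h5
          obtain ⟨q', -, hq'⟩ := d.exists_quarter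
          rw [hq, hq', mul_assoc] at ha
          omega
        have h6 := dvd_sub_one_of_pow (k := k - 1) rfl hm htodd h5
        rw [h2]
        refine Subtype.ext ?_
        simp only [SubgroupClass.coe_zpow, T, d.u_zpow, d.u_eq_iff]
        obtain ⟨r, hr⟩ := h6
        constructor <;> exact ⟨r, by rw [c]; linear_combination 2 * hr⟩
      let K := Subgroup.zpowers (T ^ (2 : ℤ))
      have hfK : ∀ g ∈ K, β g = g := by
        rintro g ⟨r, rfl⟩
        show β ((T ^ (2 : ℤ)) ^ r) = (T ^ (2 : ℤ)) ^ r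
        rw [map_zpow, hfsq]
      -- the image of `V` lies in `V K`
      have hKmem : ∀ t : ℤ, Even t → T ^ t ∈ K := by
        rintro t ⟨q, rfl⟩
        exact ⟨q, by show (T ^ (2 : ℤ)) ^ q = _; rw [← zpow_mul, two_mul]⟩
      obtain ⟨q', hq'0, hq'⟩ := d.exists_quarter
      have hVimg : V⁻¹ * β V ∈ K := by
        obtain ⟨t, e, he, hβV⟩ := hcases (β V)
        have hev : Even t := by
          have h := congrArg β (show V * V = 1 from Subtype.ext hvv)
          rw [map_mul, map_one, hβV, ((hTV.zpow_left t).pow_right e).symm.mul_mul_mul_comm,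
            ← pow_add, ← two_mul, pow_mul, pow_two, show V * V = 1 from Subtype.ext hvv, one_pow,
            mul_one, ← zpow_add] at h
          have h' := congrArg Subtype.val h
          simp only [SubgroupClass.coe_zpow, T, d.u_zpow, OneMemClass.coe_one, d.u_eq_one_iff] at h'
          obtain ⟨r, hr⟩ := h'.1
          exact ⟨q' * r, by linarith [show d.c * r = 2 * (q' * r) by rw [hq']; ring]⟩
        interval_cases e
        · exfalso
          obtain ⟨w', hw'⟩ : β V ∈ K := by rw [hβV, pow_zero, mul_one]; exact hKmem t hev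
          have h1 := hfK _ ⟨w', hw'⟩
          have h2 : β V = V := β.injective h1
          have h3 := congrArg Subtype.val (h2.symm.trans (hβV.trans (by rw [pow_zero, mul_one])))
          simp only [SubgroupClass.coe_zpow, T, V, hv, d.u_zpow] at h3
          exact d.u_ne_uz _ _ _ _ h3.symm
        · rw [hβV, pow_one, ← (hTV.zpow_left t).eq.symm, ← mul_assoc, inv_mul_cancel, one_mul]
          exact hKmem t hev
      have hfV := eq_self_of_fix_index_two β hm hβ hXp K hfK V hVimg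
      let L := K ⊔ Subgroup.zpowers V
      have hfL : ∀ g ∈ L, β g = g := by
        have hle : L ≤ (β.toMonoidHom).eqLocus (MonoidHom.id X) := sup_le
          (fun g hg => hfK g hg) (Subgroup.zpowers_le.mpr hfV)
        exact fun g hg => hle hg
      have hfT : β T = T := by
        refine eq_self_of_fix_index_two β hm hβ hXp L hfL T ?_
        obtain ⟨t, e, he, hβT⟩ := hcases (β T)
        have ht : Odd t := by
          by_contra h
          have hmemL : β T ∈ L := by
            rw [hβT]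
            exact mul_mem (Subgroup.mem_sup_left (hKmem t (Int.not_odd_iff_even.mp h)))
              (Subgroup.mem_sup_right (pow_mem (Subgroup.mem_zpowers V) e))
          have h2 : β T = T := β.injective (hfL _ hmemL)
          rw [hβT] at h2
          have h3 := congrArg Subtype.val h2
          interval_cases e <;> simp only [pow_zero, pow_one, mul_one, Subgroup.coe_mul,
            SubgroupClass.coe_zpow, T, V, hv, d.u_zpow, d.u_mul_uz] at h3
          · obtain ⟨⟨r, hr⟩, ⟨q, hq⟩⟩ := And.intro (d.u_eq_iff.mp h3).1 (Int.not_odd_iff_even.mp h)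
            rw [hq, mul_assoc] at hr
            omega
          · exact d.u_ne_uz _ _ _ _ h3.symm
        obtain ⟨r, rfl⟩ := ht
        rw [hβT, ← mul_assoc, ← zpow_neg_one, ← zpow_add]
        exact mul_mem (Subgroup.mem_sup_left (hKmem _ ⟨r, by ring⟩))
          (Subgroup.mem_sup_right (pow_mem (Subgroup.mem_zpowers V) e))
      refine MulEquiv.ext fun g => ?_
      obtain ⟨t, e, he, rfl⟩ := hcases g
      show β _ = _
      rw [map_mul, map_zpow, map_pow, hfT, hfV]
      rfl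
    · exact isPGroup_mulAut_cyclic hXp (isCyclic_of_orderOf_eq_card W (by
        rw [← Subgroup.orderOf_coe, hcard]
        exact hcyc hodd))

end WR

end CfsgLib.SmallTwo
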