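import Mathlib

/-!
Recognition of dihedral groups.
-/

set_option autoImplicit false

namespace CfsgLib.SmallTwo

variable {G : Type*} [Group G]

/-- `a` of order `n` and an involution `b` outside inverting it span a dihedral group. -/
theorem exists_dihedral_hom_injective {n : ℕ} [NeZero n] {a b : G} (ha : orderOf a = n)
    (hb : b * b = 1) (hba : b * a * b⁻¹ = a⁻¹) (hout : b ∉ Subgroup.zpowers a) :
    ∃ f : DihedralGroup n →* G, Function.Injective f ∧
      f.range = Subgroup.closure ({a, b} : Set G) := by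
  have hmod : ∀ i j : ℤ, ((i : ZMod n) = (j : ZMod n)) ↔ a ^ i = a ^ j := by
    intro i j
    rw [ZMod.intCast_eq_intCast_iff_dvd_sub, ← orderOf_dvd_sub_iff_zpow_eq_zpow, ha,
      ← dvd_neg, neg_sub]
  set A : ZMod n → G := fun k => a ^ (k.val : ℤ) with hA
  have hadd : ∀ i j, A (i + j) = A i * A j := by
    intro i j
    simp only [hA]
    rw [← zpow_add, ← hmod]
    simp
  have hneg : ∀ i, A (-i) = (A i)⁻¹ := by
    intro i
    rw [eq_inv_iff_mul_eq_one, ← hadd, neg_add_cancel, hA]
    simp
  have hcomm : ∀ i, A i * b = b * (A i)⁻¹ := by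
    intro i
    have h : b * A i * b⁻¹ = (A i)⁻¹ := by
      simp only [hA]; rw [← conj_zpow, hba, inv_zpow]
    calc A i * b = ((A i)⁻¹)⁻¹ * b := by rw [inv_inv]
      _ = (b * A i * b⁻¹)⁻¹ * b := by rw [h]
      _ = b * (A i)⁻¹ := by group
  let F : DihedralGroup n → G := fun x =>
    match x with
    | .r k => A k
    | .sr k => b * A k
  have hmul : ∀ x y, F (x * y) = F x * F y := by
    rintro (i | i) (j | j)
    · rw [DihedralGroup.r_mul_r]
      exact hadd i j
    · rw [DihedralGroup.r_mul_sr]
      show b * A (j - i) = A i * (b * A j)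
      rw [sub_eq_add_neg, add_comm, hadd, hneg, ← mul_assoc, ← mul_assoc, hcomm]
    · rw [DihedralGroup.sr_mul_r]
      show b * A (i + j) = b * A i * A j
      rw [hadd, mul_assoc]
    · rw [DihedralGroup.sr_mul_sr]
      show A (j - i) = b * A i * (b * A j)
      rw [sub_eq_add_neg, add_comm, hadd, hneg]
      calc (A i)⁻¹ * A j = b * b * ((A i)⁻¹ * A j) := by rw [hb, one_mul]
        _ = b * (b * (A i)⁻¹) * A j := by group
        _ = b * (A i * b) * A j := by rw [hcomm]
        _ = b * A i * (b * A j) := by group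
  have hAmem : ∀ k, A k ∈ Subgroup.zpowers a := fun k => ⟨_, rfl⟩
  have hAinj : ∀ i j, A i = A j → i = j := by
    intro i j h
    have := (hmod _ _).mpr h
    simpa using this
  have hno : ∀ i j, A i ≠ b * A j := by
    intro i j h
    refine hout ?_
    rw [show b = A i * (A j)⁻¹ by rw [h]; group]
    exact mul_mem (hAmem i) (inv_mem (hAmem j))
  refine ⟨MonoidHom.mk' F hmul, ?_, le_antisymm ?_ ?_⟩
  · rintro (i | i) (j | j) h
    · exact congrArg _ (hAinj i j h)
    · exact absurd h (hno i j)
    · exact absurd h.symm (hno j i)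
    · exact congrArg _ (hAinj i j (mul_left_cancel (h : b * A i = b * A j)))
  · rintro _ ⟨x, rfl⟩
    cases x with
    | r k => exact zpow_mem (Subgroup.subset_closure (Set.mem_insert _ _)) _
    | sr k =>
      show b * A k ∈ _
      exact mul_mem (Subgroup.subset_closure (Set.mem_insert_of_mem _ rfl)) (zpow_mem (Subgroup.subset_closure (Set.mem_insert _ _)) _)
  · rw [Subgroup.closure_le]
    rintro x (rfl | rfl)
    · refine ⟨.r ((1 : ℤ) : ZMod n), ?_⟩
      show A ((1 : ℤ) : ZMod n) = x
      simp only [hA]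
      conv_rhs => rw [← zpow_one x]
      rw [← hmod]
      simp
    · exact ⟨.sr 0, by show x * A 0 = x; simp [hA]⟩

end CfsgLib.SmallTwo
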