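import Cfsg.Agent.Lib.SmallTwo.CenterFixed

/-!
Centralizers of involutions in groups with quasi-dihedral or wreathed Sylow 2-subgroups and no
subgroup of index two.
-/

set_option autoImplicit false

namespace CfsgLib.SmallTwo

open CfsgLib.Transfer

/-- The structure of a group with quaternion fusion: a normal subgroup of 2-power index with
quaternion Sylow subgroups and no subgroup of index two. -/
def HasQuatKernel (H : Type*) [Group H] : Prop :=
  ∃ K : Subgroup H, K.Normal ∧ (∃ a : ℕ, K.index = 2 ^ a) ∧ (∀ M : Subgroup ↥K, M.index ≠ 2) ∧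
    (∀ P : Sylow 2 ↥K, ∃ m : ℕ, 1 ≤ m ∧ Nonempty ((P : Subgroup ↥K) ≃* QuaternionGroup (2 ^ m)))

namespace QD

/-- Transport along an isomorphism. -/
def mapEquiv {S T : Type*} [Group S] [Group T] {n : ℕ} (d : QD S n) (e : S ≃* T) : QD T n where
  hn := d.hn
  card := (Nat.card_congr e.toEquiv).symm.trans d.card
  x := e d.x
  y := e d.y
  hx := (e.orderOf_eq _).trans d.hx
  hy := (e.orderOf_eq _).trans d.hy
  hyx := by rw [← map_inv, ← map_mul, ← map_mul, d.hyx, map_pow]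

section Intrinsic

variable {S : Type*} [Group S] {n : ℕ} (d : QD S n)

theorem mapEquiv_ry {T : Type*} [Group T] (e : S ≃* T) (i : ℤ) :
    (d.mapEquiv e).x ^ i * (d.mapEquiv e).y = e (d.x ^ i * d.y) := by
  rw [map_mul, map_zpow]; rfl

theorem mapEquiv_r {T : Type*} [Group T] (e : S ≃* T) (i : ℤ) : (d.mapEquiv e).x ^ i = e (d.x ^ i) := by
  rw [map_zpow]; rfl

variable [Finite S]

theorem small_klein : IsKleinFour (d.small (2 * d.q) 0 dvd_rfl) := by
  have : NeZero 2 := ⟨two_ne_zero⟩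
  have hsq : ∀ g ∈ d.small (2 * d.q) 0 dvd_rfl, g * g = 1 := by
    rintro g ⟨c, rfl | rfl⟩
    · rw [← zpow_add, d.zpow_eq_one_iff]; exact ⟨c, by ring⟩
    · exact d.sq_ry_of_even (by simp)
  have hle : Nat.card (d.small (2 * d.q) 0 dvd_rfl) ≤ 4 := d.card_small_le (r := 2) (by push_cast; ring)
  have hp : IsPGroup 2 (d.small (2 * d.q) 0 dvd_rfl) := d.isPGroup.to_subgroup _
  obtain ⟨a, ha⟩ := IsPGroup.iff_card.mp hp
  have hthree : 2 < Nat.card (d.small (2 * d.q) 0 dvd_rfl) := by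
    let f : Fin 3 → d.small (2 * d.q) 0 dvd_rfl :=
      ![⟨1, one_mem _⟩, ⟨d.x ^ (2 * d.q), d.r_mem_small.mpr dvd_rfl⟩,
        ⟨d.x ^ (0 : ℤ) * d.y, d.ry_mem_small.mpr ⟨0, by ring⟩⟩]
    have hf : Function.Injective f := by
      intro a b hab
      have hab' := congrArg Subtype.val hab
      have h1 := d.zpow_half_ne_one
      have h2 : d.x ^ (0 : ℤ) * d.y ≠ 1 := fun e => d.ry_ne_r 0 0 (by rw [zpow_zero] at e ⊢; exact e)
      have h3 : d.x ^ (2 * d.q) ≠ d.x ^ (0 : ℤ) * d.y := fun e => d.ry_ne_r _ _ e.symm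
      fin_cases a <;> fin_cases b <;> simp_all [f]
    have h3 := Nat.card_le_card_of_injective f hf
    rw [Nat.card_fin] at h3
    omega
  have hc : Nat.card (d.small (2 * d.q) 0 dvd_rfl) = 4 := by
    rcases a with _ | _ | _ | a
    · omega
    · omega
    · omega
    · have : 2 ^ 3 ≤ 2 ^ (a + 3) := Nat.pow_le_pow_right two_pos (by omega)
      omega
  refine { card_four := hc, exponent_two := ?_ }
  have hdvd : Monoid.exponent (d.small (2 * d.q) 0 dvd_rfl) ∣ 2 :=
    Monoid.exponent_dvd_of_forall_pow_eq_one fun g => Subtype.ext (by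
      simpa [pow_two] using hsq g g.2)
  rcases (Nat.dvd_prime Nat.prime_two).mp hdvd with h | h
  · have := Monoid.exp_eq_one_iff.mp h
    rw [Nat.card_of_subsingleton (1 : d.small (2 * d.q) 0 dvd_rfl)] at hc
    omega
  · exact h

theorem small_quaternion : Nonempty (↥(d.small d.q 1 (dvd_mul_left _ 2)) ≃* QuaternionGroup 2) := by
  have : Fact (Nat.Prime 2) := ⟨Nat.prime_two⟩
  obtain ⟨f, hf, hr⟩ := CfsgLib.Classical.exists_quaternion_hom (n := 2)
    (a := d.x ^ d.q) (w := d.x ^ (1 : ℤ) * d.y)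
    (by rw [d.orderOf_r_four.mpr (Or.inl ⟨0, by ring⟩)])
    (by rw [d.sq_ry_of_odd odd_one, ← zpow_natCast, ← zpow_mul, mul_comm]; rfl)
    (by
      obtain ⟨p, -, hp⟩ := d.exists_half
      rw [mul_inv_rev, d.y_inv, show d.x ^ (1 : ℤ) * d.y * d.x ^ d.q * (d.y * (d.x ^ (1 : ℤ))⁻¹) =
        d.x ^ (1 : ℤ) * (d.y * d.x ^ d.q * d.y) * (d.x ^ (1 : ℤ))⁻¹ by group]
      nth_rewrite 2 [← d.y_inv]
      rw [d.conj_zpow', ← zpow_neg, ← zpow_add, ← zpow_add, ← zpow_neg, d.zpow_eq_iff]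
      exact ⟨p, by linear_combination (2 * d.q) * hp⟩)
    (fun ⟨k, hk⟩ => d.ry_ne_r 1 (d.q * k) (by rw [zpow_mul]; exact hk.symm))
  have hle : f.range ≤ d.small d.q 1 (dvd_mul_left _ 2) := by
    rw [hr, Subgroup.closure_le]
    rintro g (rfl | rfl)
    · exact d.r_mem_small.mpr dvd_rfl
    · exact d.ry_mem_small.mpr ⟨0, by ring⟩
  have : NeZero 4 := ⟨by norm_num⟩
  have heq : f.range = d.small d.q 1 (dvd_mul_left _ 2) := by
    refine Subgroup.eq_of_le_of_card_ge hle ?_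
    have h8 : Nat.card (QuaternionGroup 2) = 2 * 4 := by
      rw [Nat.card_eq_fintype_card, QuaternionGroup.card]
    rw [← Nat.card_congr (MonoidHom.ofInjective hf).toEquiv, h8]
    exact d.card_small_le (r := 4) (by push_cast; ring)
  exact ⟨(MulEquiv.subgroupCongr heq.symm).trans (MonoidHom.ofInjective hf).symm⟩

end Intrinsic

variable {G : Type*} [Group G] [Finite G] {S : Sylow 2 G} {n : ℕ} (d : QD (S : Subgroup G) n)

theorem four_spec : IsKleinFour (d.four 0) ∧ d.four 0 ≤ (S : Subgroup G) ∧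
    Nonempty (d.quat 1 ≃* QuaternionGroup 2) ∧ d.quat 1 ≤ (S : Subgroup G) := by
  let e1 := (d.small (2 * d.q) 0 dvd_rfl).equivMapOfInjective _ (S : Subgroup G).subtype_injective
  obtain ⟨e⟩ := d.small_quaternion
  exact ⟨{ card_four := (Nat.card_congr e1.toEquiv).symm.trans d.small_klein.card_four
           exponent_two := (Monoid.exponent_eq_of_mulEquiv e1).symm.trans d.small_klein.exponent_two },
    Subgroup.map_subtype_le _,
    ⟨((d.small d.q 1 (dvd_mul_left _ 2)).equivMapOfInjective _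
      (S : Subgroup G).subtype_injective).symm.trans e⟩,
    Subgroup.map_subtype_le _⟩

theorem six_six_of_no_index_two (hG : ∀ H : Subgroup G, H.index ≠ 2) :
    (Subgroup.centralizer (d.four 0 : Set G)).relIndex (Subgroup.normalizer (d.four 0 : Set G)) = 6 ∧
    (d.quat 1 ⊔ Subgroup.centralizer (d.quat 1 : Set G)).relIndex
      (Subgroup.normalizer (d.quat 1 : Set G)) = 6 := by
  obtain ⟨hT, hTS, ⟨eQ⟩, hQS⟩ := d.four_spec
  obtain ⟨hF, hQ⟩ := quasidihedral_local_indices S ⟨n, d.hn, d.card, d.x, d.y, d.hx, d.hy, d.hyx⟩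
    (d.four 0) hT hTS (d.quat 1) hQS eQ
  refine ⟨hF.resolve_left fun h => ?_, hQ.resolve_left fun h => ?_⟩
  · obtain ⟨K, -, hK, -⟩ := d.exists_kernel (ε := 1) (Or.inr rfl)
      (fun _ i hi => d.actsLike_four hT hTS h hi) (fun e => absurd e one_ne_zero)
    exact hG K hK
  · obtain ⟨K, -, hK, -⟩ := d.exists_kernel (ε := 0) (Or.inl rfl)
      (fun e => absurd e zero_ne_one) (fun _ i hi => d.actsLike_quat hQS eQ h hi)
    exact hG K hK

theorem one_class_of_no_index_two (hG : ∀ H : Subgroup G, H.index ≠ 2) {a : G} (ha : orderOf a = 2) :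
    IsConj a ((d.x ^ (2 * d.q) : (S : Subgroup G)) : G) := by
  obtain ⟨hT, hTS, -, -⟩ := d.four_spec
  obtain ⟨s, hs, has⟩ := exists_conj_mem S (k := 1) (by rw [pow_one]; exact ha)
  obtain ⟨g, hg⟩ := isConj_iff.mp has
  refine has.trans ((d.sylow_involution hs ?_).elim id fun h => h.trans ?_)
  · rw [← hg, ← MulAut.conj_apply, MulEquiv.orderOf_eq, ha]
  · exact (d.oddConj_four hT hTS (d.six_six_of_no_index_two hG).1 Even.zero).isConj.symm

/-- The centralizer of the central involution has quaternion fusion. -/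
theorem centralizer_type (hG : ∀ H : Subgroup G, H.index ≠ 2) {x : G}
    (hx : x = ((d.x ^ (2 * d.q) : (S : Subgroup G)) : G)) :
    ∃ R : Sylow 2 ↥(Subgroup.centralizer ({x} : Set G)), Nat.card R = Nat.card S ∧
      HasQuatKernel ↥(Subgroup.centralizer ({x} : Set G)) ∧
      ∀ Z₀ : Subgroup ↥(Subgroup.centralizer ({x} : Set G)),
        Z₀ ≤ centerIn (R : Subgroup ↥(Subgroup.centralizer ({x} : Set G))) →
        Cfsg.IsWeaklyClosed Z₀ (R : Subgroup ↥(Subgroup.centralizer ({x} : Set G))) := by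
  set C := Subgroup.centralizer ({x} : Set G)
  have hSC : (S : Subgroup G) ≤ C := by
    intro s hs
    rw [Subgroup.mem_centralizer_singleton_iff, hx]
    exact congrArg Subtype.val (Subgroup.mem_center_iff.mp
      (d.center_eq ▸ Subgroup.mem_zpowers _ : d.x ^ (2 * d.q) ∈ Subgroup.center _) ⟨s, hs⟩)
  set R := S.subtype hSC with hR
  let e : (S : Subgroup G) ≃* (R : Subgroup C) := (Subgroup.subgroupOfEquivOfLe hSC).symm
  set d' := d.mapEquiv e
  have hcr : ∀ i : ℤ, ((d'.x ^ i : (R : Subgroup C)) : C).1 = ((d.x ^ i : (S : Subgroup G)) : G) :=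
    fun i => by rw [show d'.x ^ i = e (d.x ^ i) from d.mapEquiv_r e i]; rfl
  have hcry : ∀ i : ℤ, ((d'.x ^ i * d'.y : (R : Subgroup C)) : C).1 =
      ((d.x ^ i * d.y : (S : Subgroup G)) : G) :=
    fun i => by rw [show d'.x ^ i * d'.y = e (d.x ^ i * d.y) from d.mapEquiv_ry e i]; rfl
  obtain ⟨hT, hTR, ⟨eQ⟩, hQR⟩ := d'.four_spec
  obtain ⟨hF', hQ'⟩ := quasidihedral_local_indices R
    ⟨n, d'.hn, d'.card, d'.x, d'.y, d'.hx, d'.hy, d'.hyx⟩ (d'.four 0) hT hTR (d'.quat 1) hQR eQ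
  have h1 := hF'.resolve_right fun h => by
    obtain ⟨g, -, hg⟩ := d'.oddConj_four hT hTR h Even.zero
    have hg' := congrArg Subtype.val hg
    rw [Subgroup.coe_mul, Subgroup.coe_mul, Subgroup.coe_inv, hcr, hcry,
      show d'.q = d.q from rfl] at hg'
    have hc := Subgroup.mem_centralizer_singleton_iff.mp g.2
    rw [hx] at hc
    rw [hc, mul_inv_cancel_right] at hg'
    exact d.ry_ne_r 0 (2 * d.q) (Subtype.ext hg'.symm)
  have h2 := hQ'.resolve_left fun h => by
    obtain ⟨hTG, hTSG, ⟨eQG⟩, hQSG⟩ := d.four_spec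
    refine d'.xq_xy_not_isConj (fun i hi => d'.actsLike_quat hQR eQ h hi) ?_
    have key : ∀ (g : G) (v w : (R : Subgroup C)), (v : C).1 * (v : C).1 = x → (w : C).1 * (w : C).1 = x →
        g * (v : C).1 * g⁻¹ = (w : C).1 → IsConj (v : C) (w : C) := by
      intro g v w hv hw hg
      have hgC : g ∈ C := by
        rw [Subgroup.mem_centralizer_singleton_iff]
        refine mul_inv_eq_iff_eq_mul.mp ?_
        calc g * x * g⁻¹ = (g * (v : C).1 * g⁻¹) * (g * (v : C).1 * g⁻¹) := by rw [← hv]; group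
          _ = x := by rw [hg, hw]
      exact isConj_iff.mpr ⟨⟨g, hgC⟩, Subtype.ext hg⟩
    have hsq1 : ((d'.x ^ d'.q : (R : Subgroup C)) : C).1 * ((d'.x ^ d'.q : (R : Subgroup C)) : C).1 = x := by
      rw [hcr, show d'.q = d.q from rfl, hx, ← Subgroup.coe_mul, ← zpow_add, ← two_mul]
    have hsq2 : ((d'.x ^ (1 : ℤ) * d'.y : (R : Subgroup C)) : C).1 *
        ((d'.x ^ (1 : ℤ) * d'.y : (R : Subgroup C)) : C).1 = x := by
      rw [hcry, hx, ← Subgroup.coe_mul, d.sq_ry_of_odd odd_one]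
    rcases d.oddConj_quat hQSG eQG (d.six_six_of_no_index_two hG).2 odd_one with ⟨g, -, hg⟩ | ⟨g, -, hg⟩
    · exact key g _ _ hsq1 hsq2 (by rw [hcr, hcry]; exact hg)
    · refine (key g _ ((d'.x ^ (1 : ℤ) * d'.y)⁻¹) hsq1 ?_ ?_).trans (isConj_coe d'.inv_ry_isConj)
      · rw [Subgroup.coe_inv, Subgroup.coe_inv, ← mul_inv_rev, hsq2, hx]
        refine inv_eq_of_mul_eq_one_left ?_
        rw [← Subgroup.coe_mul, ← zpow_add,
          d.zpow_eq_one_iff.mpr ⟨1, by ring⟩, Subgroup.coe_one]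
      · rw [hcr, Subgroup.coe_inv, Subgroup.coe_inv, hcry]; exact hg
  obtain ⟨⟨K, hK, hK2, hKP, hKno⟩, hW⟩ := d'.type_two_six hT hTR hQR eQ h1 h2
  refine ⟨R, Nat.card_congr e.symm.toEquiv, ⟨K, hK, ⟨1, by rw [hK2, pow_one]⟩, hKno, hKP⟩,
    fun Z₀ hZ₀ => ?_⟩
  have hcard : Nat.card (centerIn (R : Subgroup C)) = 2 := by
    rw [centerIn, Subgroup.card_map_of_injective (R : Subgroup C).subtype_injective, d'.card_center]
  have h12 := hcard ▸ Subgroup.card_dvd_of_le hZ₀
  rcases (Nat.dvd_prime Nat.prime_two).mp h12 with h | h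
  · rw [Subgroup.card_eq_one.mp h]
    exact ⟨bot_le, fun g _ => Subgroup.map_bot _⟩
  · rw [Subgroup.eq_of_le_of_card_ge hZ₀ (by rw [h, hcard])]
    exact hW

end QD

namespace WR

/-- Transport along an isomorphism. -/
def mapEquiv {S T : Type*} [Group S] [Group T] {n : ℕ} (d : WR S n) (e : S ≃* T) : WR T n where
  hn := d.hn
  card := (Nat.card_congr e.toEquiv).symm.trans d.card
  x := e d.x
  y := e d.y
  z := e d.z
  hx := (e.orderOf_eq _).trans d.hx
  comm := by rw [← map_mul, ← map_mul, d.comm]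
  disj := by
    rw [eq_bot_iff]
    rintro v ⟨hv1, hv2⟩
    obtain ⟨i, rfl⟩ := hv1
    obtain ⟨j, hj⟩ := hv2
    have hj' : d.y ^ j = d.x ^ i := e.injective (by rw [map_zpow, map_zpow]; exact hj)
    have : d.x ^ i ∈ Subgroup.zpowers d.x ⊓ Subgroup.zpowers d.y :=
      Subgroup.mem_inf.mpr ⟨⟨i, rfl⟩, ⟨j, hj'⟩⟩
    rw [d.disj, Subgroup.mem_bot] at this
    show e d.x ^ i ∈ (⊥ : Subgroup T)
    rw [← map_zpow, this, map_one]; exact one_mem _
  hz := (e.orderOf_eq _).trans d.hz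
  hzx := by rw [← map_inv, ← map_mul, ← map_mul, d.hzx]

theorem mapEquiv_u {S T : Type*} [Group S] [Group T] {n : ℕ} (d : WR S n) (e : S ≃* T) (i j : ℤ) :
    (d.mapEquiv e).u i j = e (d.u i j) := by
  simp only [u, mapEquiv, map_mul, map_zpow]

variable {G : Type*} [Group G] [Finite G] {S : Sylow 2 G} {n : ℕ} (d : WR (S : Subgroup G) n)

theorem qz_six_of_no_index_two (hG : ∀ H : Subgroup G, H.index ≠ 2) :
    (d.qzG 0 ⊔ Subgroup.centralizer (d.qzG 0 : Set G)).relIndex
      (Subgroup.normalizer (d.qzG 0 : Set G)) = 6 := by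
  refine (d.qz_index_cases 0).resolve_left fun h => ?_
  obtain ⟨K, -, hK, -⟩ := exists_index_two S d.baseG (Subgroup.map_subtype_le _) (by
    rw [baseG, Subgroup.relIndex, Subgroup.subgroupOf, Subgroup.comap_map_eq_self_of_injective
      (S : Subgroup G).subtype_injective, d.index_base])
    (fun a ha g hg => d.base_invariant (d.actsLike_qz h) ha hg)
  exact hG K hK

theorem base_six_of_no_index_two (hG : ∀ H : Subgroup G, H.index ≠ 2) :
    (Subgroup.centralizer (d.baseG : Set G)).relIndex (Subgroup.normalizer (d.baseG : Set G)) = 6 := by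
  have : Fact (Nat.Prime 2) := ⟨Nat.prime_two⟩
  refine d.base_index_cases.resolve_left fun h => ?_
  obtain ⟨⟨K, hK, hKi, -⟩, -⟩ := d.type_two_six h (d.qz_six_of_no_index_two hG)
  have := hK
  have hcard : Nat.card (G ⧸ K) = 2 ^ n := by rw [← Subgroup.index_eq_card, hKi]
  have hn := d.hn
  obtain ⟨M, hM⟩ := Sylow.exists_subgroup_card_pow_prime (G := G ⧸ K) 2 (n := n - 1)
    (by rw [hcard]; exact pow_dvd_pow 2 (Nat.sub_le n 1))
  refine hG (M.comap (QuotientGroup.mk' K)) ?_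
  rw [Subgroup.index_comap_of_surjective _ (QuotientGroup.mk'_surjective K)]
  have h1 := Subgroup.card_mul_index M
  rw [hM, hcard, show (2 : ℕ) ^ n = 2 ^ (n - 1) * 2 by rw [← pow_succ, Nat.sub_add_cancel (by omega)]] at h1
  exact Nat.eq_of_mul_eq_mul_left (by positivity) h1

theorem one_class_of_no_index_two (hG : ∀ H : Subgroup G, H.index ≠ 2) {a : G} (ha : orderOf a = 2) :
    IsConj a (d.u d.c d.c : G) := by
  have hab := (d.base_movers (d.base_six_of_no_index_two hG)).1.isConj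
  have hz := d.qz_mover (d.qz_six_of_no_index_two hG) (sup_centralizer_normal _)
  obtain ⟨s, hs, has⟩ := exists_conj_mem S (k := 1) (by rw [pow_one]; exact ha)
  obtain ⟨g, hg⟩ := isConj_iff.mp has
  refine has.trans ?_
  rcases d.sylow_involution hs (by rw [← hg, ← MulAut.conj_apply, MulEquiv.orderOf_eq, ha]) with h | h | h
  · exact h.trans (hz.symm.trans hab)
  · exact h.trans hab
  · exact h

/-- The centralizer of the central involution has quaternion fusion. -/
theorem centralizer_type (hG : ∀ H : Subgroup G, H.index ≠ 2) {x : G} (hx : x = (d.u d.c d.c : G)) :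
    ∃ R : Sylow 2 ↥(Subgroup.centralizer ({x} : Set G)), Nat.card R = Nat.card S ∧
      HasQuatKernel ↥(Subgroup.centralizer ({x} : Set G)) ∧
      ∀ Z₀ : Subgroup ↥(Subgroup.centralizer ({x} : Set G)),
        Z₀ ≤ centerIn (R : Subgroup ↥(Subgroup.centralizer ({x} : Set G))) →
        Cfsg.IsWeaklyClosed Z₀ (R : Subgroup ↥(Subgroup.centralizer ({x} : Set G))) := by
  set C := Subgroup.centralizer ({x} : Set G)
  have hSC : (S : Subgroup G) ≤ C := by
    intro s hs
    rw [Subgroup.mem_centralizer_singleton_iff, hx]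
    exact congrArg Subtype.val (Subgroup.mem_center_iff.mp
      (d.mem_center_iff.mpr ⟨d.c, rfl⟩) ⟨s, hs⟩)
  set R := S.subtype hSC with hR
  let e : (S : Subgroup G) ≃* (R : Subgroup C) := (Subgroup.subgroupOfEquivOfLe hSC).symm
  set d' := d.mapEquiv e
  have hcu : ∀ i j : ℤ, ((d'.u i j : (R : Subgroup C)) : C).1 = (d.u i j : G) :=
    fun i j => by rw [show d'.u i j = e (d.u i j) from d.mapEquiv_u e i j]; rfl
  have hcc : d'.c = d.c := rfl
  have h1 : (Subgroup.centralizer (d'.baseG : Set C)).relIndex (Subgroup.normalizer (d'.baseG : Set C)) = 2 := by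
    refine d'.base_index_cases.resolve_right fun h => ?_
    obtain ⟨g, hg⟩ := isConj_iff.mp (d'.base_movers h).1.isConj.symm
    have hg' := congrArg Subtype.val hg
    rw [Subgroup.coe_mul, Subgroup.coe_mul, Subgroup.coe_inv, hcu, hcu, hcc] at hg'
    have hc := Subgroup.mem_centralizer_singleton_iff.mp g.2
    rw [hx] at hc
    rw [hc, mul_inv_cancel_right] at hg'
    exact d.not_dvd_c (by simpa using (d.u_eq_iff.mp (Subtype.ext hg' : d.u d.c d.c = d.u d.c 0)).2)
  have h2 : (d'.qzG 0 ⊔ Subgroup.centralizer (d'.qzG 0 : Set C)).relIndex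
      (Subgroup.normalizer (d'.qzG 0 : Set C)) = 6 := by
    refine (d'.qz_index_cases 0).resolve_left fun h => ?_
    have hn : ((d.qzG 0 ⊔ Subgroup.centralizer (d.qzG 0 : Set G)).subgroupOf
        (Subgroup.normalizer (d.qzG 0 : Set G))).Normal := sup_centralizer_normal _
    obtain ⟨g, hg, hodd, hgEC⟩ := exists_odd_notMem (d.qz_six_of_no_index_two hG)
    obtain ⟨w, hw, hwb, hwe⟩ := d.qz_mover_out hg hodd (fun hc => hgEC (Subgroup.mem_sup_right hc))
    have hgC : g ∈ C := by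
      rw [Subgroup.mem_centralizer_singleton_iff, hx]
      exact mul_inv_eq_iff_eq_mul.mp (d.qz_fix_diag hg hodd d.c)
    have hmem : (⟨g, hgC⟩ : C) * ((d'.u d'.c 0 : (R : Subgroup C)) : C) * (⟨g, hgC⟩ : C)⁻¹ =
        ((e w : (R : Subgroup C)) : C) := Subtype.ext (by
      show g * ((d'.u d'.c 0 : (R : Subgroup C)) : C).1 * g⁻¹ = (w : G)
      rw [hcu, hcc, hwe])
    have hinv := d'.base_invariant (d'.actsLike_qz h) (a := ((d'.u d'.c 0 : (R : Subgroup C)) : C))
      (g := (⟨g, hgC⟩ : C)) (d'.u d'.c 0).2 (by rw [hmem]; exact (e w).2)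
    rw [hmem, d'.coe_mem_baseG, d'.coe_mem_baseG] at hinv
    obtain ⟨i, j, hij⟩ := hinv.mpr (d'.u_mem_base _ _)
    rw [show d'.u i j = e (d.u i j) from d.mapEquiv_u e i j] at hij
    exact hwb ⟨i, j, e.injective hij⟩
  obtain ⟨⟨K, hK, hK2, hKP, hKno⟩, hW, -⟩ := d'.type_two_six h1 h2
  exact ⟨R, Nat.card_congr e.symm.toEquiv, ⟨K, hK, ⟨n, hK2⟩, hKno, hKP⟩, hW⟩

end WR

theorem centralizer_type {G : Type*} [Group G] [Finite G] (S : Sylow 2 G)
    (hS : Cfsg.IsQuasiDihedral (S : Subgroup G) ∨ Cfsg.IsWreathed (S : Subgroup G))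
    (hG : ∀ H : Subgroup G, H.index ≠ 2) (x : G) (hx : orderOf x = 2) :
    ∃ R : Sylow 2 ↥(Subgroup.centralizer ({x} : Set G)), Nat.card R = Nat.card S ∧
      HasQuatKernel ↥(Subgroup.centralizer ({x} : Set G)) ∧
      ∀ Z₀ : Subgroup ↥(Subgroup.centralizer ({x} : Set G)),
        Z₀ ≤ centerIn (R : Subgroup ↥(Subgroup.centralizer ({x} : Set G))) →
        Cfsg.IsWeaklyClosed Z₀ (R : Subgroup ↥(Subgroup.centralizer ({x} : Set G))) := by
  rcases hS with hS | hS
  · obtain ⟨n, ⟨d⟩⟩ := qd_exists hS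
    obtain ⟨g, hg⟩ := isConj_iff.mp (d.one_class_of_no_index_two hG hx).symm
    let S' : Sylow 2 G := MulAut.conj g • S
    let e : (S : Subgroup G) ≃* (S' : Subgroup G) :=
      (S : Subgroup G).equivSMul (MulAut.conj g)
    obtain ⟨R, hR, h⟩ := (d.mapEquiv e).centralizer_type hG (x := x) (by
      rw [show (d.mapEquiv e).q = d.q from rfl, d.mapEquiv_r e, ← hg]
      rfl)
    exact ⟨R, hR.trans (Nat.card_congr e.toEquiv).symm, h⟩
  · obtain ⟨n, ⟨d⟩⟩ := wr_exists hS
    obtain ⟨g, hg⟩ := isConj_iff.mp (d.one_class_of_no_index_two hG hx).symm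
    let S' : Sylow 2 G := MulAut.conj g • S
    let e : (S : Subgroup G) ≃* (S' : Subgroup G) :=
      (S : Subgroup G).equivSMul (MulAut.conj g)
    obtain ⟨R, hR, h⟩ := (d.mapEquiv e).centralizer_type hG (x := x) (by
      rw [show (d.mapEquiv e).c = d.c from rfl, d.mapEquiv_u e, ← hg]
      rfl)
    exact ⟨R, hR.trans (Nat.card_congr e.toEquiv).symm, h⟩

end CfsgLib.SmallTwo
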