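import Cfsg.Agent.Lib.SmallTwo.DihedralFusion

/-!
Involution classes in a group with dihedral Sylow 2-subgroups of order at least eight.
-/

set_option autoImplicit false
set_option linter.style.haveILetI false
set_option linter.unusedSectionVars false

open Cfsg

namespace CfsgLib.SmallTwo.Dih

open CfsgLib.Transfer

namespace Frame

variable {G : Type*} [Group G] [Finite G] {S : Sylow 2 G} {h : ℕ} (d : Frame S h)

/-- The separating normal subgroup of index two. -/
theorem par_index_two_of_acts {i₀ : ZMod (2 * h)}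
    (hi₀ : ActsLike (S : Subgroup G) (d.fourG i₀)) : ∃ K : Subgroup G, K.Normal ∧ K.index = 2 ∧
      ∀ v, d.ι v ∈ K ↔ v ∈ par h (χ h i₀ + 1) := by
  have := d.neZero
  have : Fact (Nat.Prime 2) := ⟨Nat.prime_two⟩
  set ε : ZMod 2 := χ h i₀ + 1
  set M := (par h ε).map d.ι with hM
  have hMS : M ≤ (S : Subgroup G) := by rintro _ ⟨v, -, rfl⟩; exact d.ι_mem v
  have hmem : ∀ v, d.ι v ∈ M ↔ v ∈ par h ε := fun v => Subgroup.mem_map_iff_mem d.ι_injective
  have hS : ∀ b ∈ (S : Subgroup G), ∀ s ∈ (S : Subgroup G), s * b * s⁻¹ ∈ M ↔ b ∈ M := by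
    intro b hb s hs
    obtain ⟨u, rfl⟩ := d.exists_ι hb
    obtain ⟨t, rfl⟩ := d.exists_ι hs
    have h2 := index_par (h := h) ε
    rw [← map_inv, ← map_mul, ← map_mul, hmem, hmem, Subgroup.mul_mem_iff_of_index_two h2,
      Subgroup.mul_mem_iff_of_index_two h2, Subgroup.inv_mem_iff]
    by_cases hA : t ∈ par h ε <;> simp [hA]
  have hcases : ∀ i, ActsLike (S : Subgroup G) (d.fourG i) ∨ d.fourG i ≤ M := by
    intro i
    by_cases h1 : h = 1
    · exact Or.inl (by rw [(d.fourG_eq_S h1 i).trans (d.fourG_eq_S h1 i₀).symm]; exact hi₀)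
    by_cases hp : χ h i₀ = χ h i
    · obtain ⟨s, hs, he⟩ := d.fourG_conj hp
      exact Or.inl (he ▸ hi₀.map hs)
    · refine Or.inr (Subgroup.map_mono ?_)
      have hi : χ h i = ε := zmod_two_ne _ _ hp
      intro v hv
      rcases mem_four.mp hv with rfl | rfl | rfl | rfl
      · exact r_mem_par.mpr (map_zero _)
      · exact r_mem_par.mpr (d.χ_h h1)
      · exact sr_mem_par.mpr hi
      · exact sr_mem_par.mpr (by rw [map_add, d.χ_h h1, add_zero, hi])
  obtain ⟨K, hKn, hK, hKS, -⟩ := exists_index_two S M hMS (by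
    rw [Subgroup.relIndex, show M.subgroupOf (S : Subgroup G) = (par h ε).comap d.e.toMonoidHom by
      ext s
      rw [Subgroup.mem_subgroupOf, Subgroup.mem_comap]
      exact ((congrArg (fun q : (S : Subgroup G) => (q : G)) (d.e.symm_apply_apply s)).symm ▸
        hmem (d.e s))]
    rw [Subgroup.index_comap_of_surjective _ d.e.surjective, index_par])
    (fun a ha g hg => by
      refine fusion_invariant S (fun u v => v ∈ M ↔ u ∈ M) (fun _ => Iff.rfl)
        (fun _ _ _ h1 h2 => h2.trans h1) hS (fun E hES hEc hEA m hm b hb => ?_) ha hg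
      obtain ⟨i, rfl⟩ := d.centric_four hES hEc hEA
      rcases hcases i with hact | hle
      · obtain ⟨s, hs, he⟩ := hact m hm
        rw [he b hb]; exact hS b (hES hb) s hs
      · exact iff_of_true (hle ((Subgroup.mem_normalizer_iff.mp hm b).mp hb)) (hle hb))
  exact ⟨K, hKn, hK, fun v => (hKS _ (d.ι_mem v)).trans (hmem v)⟩


end Frame

end CfsgLib.SmallTwo.Dih
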