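import Cfsg.Agent.Lib.SmallTwo.QuasiDihedral

/-!
Four-subgroups and quaternion subgroups of order eight of a quasi-dihedral group.
-/

set_option autoImplicit false

namespace CfsgLib.SmallTwo.QD

variable {S : Type*} [Group S] {n : ℕ} (d : QD S n)

/-- `⟨x ^ m, x ^ i * y⟩` for `m` dividing `2q`. -/
def small (m i : ℤ) (hm : m ∣ 2 * d.q) : Subgroup S where
  carrier := {g | ∃ c : ℤ, g = d.x ^ (m * c) ∨ g = d.x ^ (i + m * c) * d.y}
  one_mem' := ⟨0, Or.inl (by simp)⟩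
  mul_mem' := by
    obtain ⟨r, hr⟩ := hm
    rintro a b ⟨k, rfl | rfl⟩ ⟨l, rfl | rfl⟩
    · exact ⟨k + l, Or.inl (by rw [← zpow_add]; congr 1; ring)⟩
    · exact ⟨k + l, Or.inr (by rw [d.r_mul_ry]; congr 2; ring)⟩
    · exact ⟨k + l * (2 * d.q - 1), Or.inr (by rw [d.ry_mul_r]; congr 2; ring)⟩
    · exact ⟨k + l * (2 * d.q - 1) + i * r, Or.inl (by
        rw [d.ry_mul_ry]; congr 1; linear_combination i * hr)⟩
  inv_mem' := by
    obtain ⟨r, hr⟩ := hm
    rintro a ⟨k, rfl | rfl⟩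
    · exact ⟨-k, Or.inl (by rw [← zpow_neg]; congr 1; ring)⟩
    · exact ⟨-(k * (2 * d.q - 1)) - i * r, Or.inr (by
        rw [mul_inv_rev, d.y_inv, ← zpow_neg, d.y_mul]; congr 2
        linear_combination (-i) * hr)⟩

theorem mem_small_iff {m i : ℤ} {hm : m ∣ 2 * d.q} {g : S} :
    g ∈ d.small m i hm ↔ ∃ c : ℤ, g = d.x ^ (m * c) ∨ g = d.x ^ (i + m * c) * d.y := Iff.rfl

theorem r_mem_small {m i k : ℤ} {hm : m ∣ 2 * d.q} :
    d.x ^ k ∈ d.small m i hm ↔ m ∣ k := by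
  constructor
  · rintro ⟨c, h | h⟩
    · obtain ⟨u, hu⟩ := d.zpow_eq_iff.mp h
      obtain ⟨r, hr⟩ := hm
      exact ⟨c + 2 * u * r, by linear_combination hu + (2 * u) * hr⟩
    · exact absurd h.symm (d.ry_ne_r _ _)
  · rintro ⟨c, rfl⟩
    exact ⟨c, Or.inl rfl⟩

theorem ry_mem_small {m i k : ℤ} {hm : m ∣ 2 * d.q} :
    d.x ^ k * d.y ∈ d.small m i hm ↔ m ∣ k - i := by
  constructor
  · rintro ⟨c, h | h⟩
    · exact absurd h (d.ry_ne_r _ _)
    · obtain ⟨u, hu⟩ := d.ry_eq_iff.mp h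
      obtain ⟨r, hr⟩ := hm
      exact ⟨c + 2 * u * r, by linear_combination hu + (2 * u) * hr⟩
  · rintro ⟨c, hc⟩
    exact ⟨c, Or.inr (by rw [show k = i + m * c by linarith])⟩

variable [Finite S]

theorem card_small_le {m i : ℤ} {hm : m ∣ 2 * d.q} {r : ℕ} [NeZero r] (hr : m * r = 4 * d.q) :
    Nat.card (d.small m i hm) ≤ 2 * r := by
  rw [mul_comm 2 r, show r * 2 = Nat.card (Fin r × Bool) by simp]
  refine Nat.card_le_card_of_surjective
    (fun p => if p.2 then ⟨d.x ^ (m * (p.1.val : ℤ)), ⟨_, Or.inl rfl⟩⟩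
      else ⟨d.x ^ (i + m * (p.1.val : ℤ)) * d.y, ⟨_, Or.inr rfl⟩⟩) ?_
  rintro ⟨g, c, rfl | rfl⟩
  · refine ⟨(⟨(c % r).toNat, ?_⟩, true), Subtype.ext ?_⟩
    · have := Int.emod_lt_of_pos c (by exact_mod_cast Nat.pos_of_neZero r : (0 : ℤ) < r)
      have := Nat.pos_of_neZero r
      omega
    · simp only [↓reduceIte]
      rw [Int.toNat_of_nonneg (Int.emod_nonneg _ (by exact_mod_cast NeZero.ne r)), d.zpow_eq_iff,
        ← hr]
      exact ⟨-(c / r), by rw [Int.emod_def]; ring⟩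
  · refine ⟨(⟨(c % r).toNat, ?_⟩, false), Subtype.ext ?_⟩
    · have := Int.emod_lt_of_pos c (by exact_mod_cast Nat.pos_of_neZero r : (0 : ℤ) < r)
      have := Nat.pos_of_neZero r
      omega
    · simp only [Bool.false_eq_true, ↓reduceIte]
      rw [Int.toNat_of_nonneg (Int.emod_nonneg _ (by exact_mod_cast NeZero.ne r)), d.ry_eq_iff,
        ← hr]
      exact ⟨-(c / r), by rw [Int.emod_def]; ring⟩

theorem exists_map_small {m i j : ℤ} {hm : m ∣ 2 * d.q} (h : Even (j - i)) :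
    ∃ s : S, (d.small m i hm).map (MulAut.conj s).toMonoidHom ≤ d.small m j hm := by
  obtain ⟨k, hk⟩ := h
  obtain ⟨l, hl⟩ := d.exists_conj_shift i k
  refine ⟨d.x ^ l, ?_⟩
  rintro _ ⟨g, ⟨c, rfl | rfl⟩, rfl⟩
  · show d.x ^ l * d.x ^ (m * c) * (d.x ^ l)⁻¹ ∈ _
    rw [← zpow_neg, ← zpow_add, ← zpow_add, d.r_mem_small]
    exact ⟨c, by ring⟩
  · show d.x ^ l * (d.x ^ (i + m * c) * d.y) * (d.x ^ l)⁻¹ ∈ _
    rw [show d.x ^ (i + m * c) * d.y = d.x ^ (m * c) * (d.x ^ i * d.y) by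
      rw [d.r_mul_ry, add_comm],
      show d.x ^ l * (d.x ^ (m * c) * (d.x ^ i * d.y)) * (d.x ^ l)⁻¹ =
        (d.x ^ l * d.x ^ (m * c) * (d.x ^ l)⁻¹) * (d.x ^ l * (d.x ^ i * d.y) * (d.x ^ l)⁻¹) by group,
      hl, ← zpow_neg, ← zpow_add, ← zpow_add, d.r_mul_ry, d.ry_mem_small]
    exact ⟨c, by linarith⟩

theorem four_group_eq (T : Subgroup S) (hT : IsKleinFour T) :
    ∃ i : ℤ, Even i ∧ T = d.small (2 * d.q) i dvd_rfl := by
  have hsq : ∀ g ∈ T, g * g = 1 := fun g hg => by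
    have := IsKleinFour.mul_self (⟨g, hg⟩ : T)
    exact congrArg Subtype.val this
  have hr : ∀ k : ℤ, d.x ^ k ∈ T → 2 * d.q ∣ k := by
    intro k hk
    have h := hsq _ hk
    rw [← zpow_add, d.zpow_eq_one_iff] at h
    obtain ⟨c, hc⟩ := h
    exact ⟨c, by linarith⟩
  have hcard : Nat.card T = 4 := IsKleinFour.card_four
  obtain ⟨i, hi⟩ : ∃ i : ℤ, d.x ^ i * d.y ∈ T := by
    by_contra hcon
    push Not at hcon
    have hle : T ≤ Subgroup.zpowers (d.x ^ (2 * d.q)) := by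
      intro g hg
      obtain ⟨k, rfl | rfl⟩ := d.cases' g
      · obtain ⟨c, rfl⟩ := hr k hg
        exact ⟨c, by show (d.x ^ (2 * d.q)) ^ c = _; rw [← zpow_mul]⟩
      · exact absurd hg (hcon k)
    have := Subgroup.card_le_of_le hle
    rw [Nat.card_zpowers, d.orderOf_r_two.mpr ⟨0, by ring⟩, hcard] at this
    omega
  have hieven : Even i := by
    refine d.orderOf_ry_two.mp (orderOf_eq_prime (by rw [pow_two]; exact hsq _ hi) fun h => ?_)
    exact d.ry_ne_r i 0 (by rw [zpow_zero]; exact h)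
  refine ⟨i, hieven, Subgroup.eq_of_le_of_card_ge ?_ ?_⟩
  · intro g hg
    obtain ⟨k, rfl | rfl⟩ := d.cases' g
    · exact d.r_mem_small.mpr (hr k hg)
    · rw [d.ry_mem_small]
      have h := hr _ (d.ry_mul_ry k i ▸ mul_mem hg hi)
      obtain ⟨c, hc⟩ := h
      exact ⟨c - i, by linarith⟩
  · have : NeZero 2 := ⟨two_ne_zero⟩
    rw [hcard]
    exact d.card_small_le (r := 2) (by push_cast; ring)

theorem quaternion_eq (Q : Subgroup S) (e : Q ≃* QuaternionGroup 2) :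
    ∃ i : ℤ, Odd i ∧ Q = d.small d.q i (dvd_mul_left _ 2) := by
  have hcard : Nat.card Q = 8 := by
    rw [Nat.card_congr e.toEquiv, Nat.card_eq_fintype_card, QuaternionGroup.card]
  have h4 : ∀ g ∈ Q, g * g * (g * g) = 1 := fun g hg => by
    have h : ∀ a : QuaternionGroup 2, a * a * (a * a) = 1 := by decide
    have := congrArg e.symm (h (e ⟨g, hg⟩))
    simp only [map_mul, MulEquiv.symm_apply_apply, map_one] at this
    exact congrArg Subtype.val this
  have huniq : ∀ g ∈ Q, ∀ g' ∈ Q, orderOf g = 2 → orderOf g' = 2 → g = g' := by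
    intro g hg g' hg' h h'
    have key : ∀ a b : QuaternionGroup 2, a * a = 1 → b * b = 1 → a ≠ 1 → b ≠ 1 → a = b := by decide
    have conv : ∀ (v : S) (hv : v ∈ Q), orderOf v = 2 →
        e ⟨v, hv⟩ * e ⟨v, hv⟩ = 1 ∧ e ⟨v, hv⟩ ≠ 1 := by
      intro v hv ho
      refine ⟨?_, ?_⟩
      · rw [← map_mul, ← map_one e]
        refine congrArg e (Subtype.ext ?_)
        show v * v = 1
        rw [← pow_two, ← ho, pow_orderOf_eq_one]
      · intro h1
        rw [← map_one e] at h1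
        have : v = 1 := congrArg Subtype.val (e.injective h1)
        rw [this, orderOf_one] at ho
        omega
    exact congrArg Subtype.val (e.injective
      (key _ _ (conv g hg h).1 (conv g' hg' h').1 (conv g hg h).2 (conv g' hg' h').2))
  have hr : ∀ k : ℤ, d.x ^ k ∈ Q → d.q ∣ k := by
    intro k hk
    have h := h4 _ hk
    rw [← zpow_add, ← zpow_add, d.zpow_eq_one_iff] at h
    obtain ⟨c, hc⟩ := h
    exact ⟨c, by linarith⟩
  have : NeZero 4 := ⟨by norm_num⟩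
  obtain ⟨i, hi⟩ : ∃ i : ℤ, d.x ^ i * d.y ∈ Q := by
    by_contra hcon
    push Not at hcon
    have hle : Q ≤ Subgroup.zpowers (d.x ^ d.q) := by
      intro g hg
      obtain ⟨k, rfl | rfl⟩ := d.cases' g
      · obtain ⟨c, rfl⟩ := hr k hg
        exact ⟨c, by show (d.x ^ d.q) ^ c = _; rw [← zpow_mul]⟩
      · exact absurd hg (hcon k)
    have := Subgroup.card_le_of_le hle
    rw [Nat.card_zpowers, d.orderOf_r_four.mpr (Or.inl ⟨0, by ring⟩), hcard] at this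
    omega
  have hle : Q ≤ d.small d.q i (dvd_mul_left _ 2) := by
    intro g hg
    obtain ⟨k, rfl | rfl⟩ := d.cases' g
    · exact d.r_mem_small.mpr (hr k hg)
    · rw [d.ry_mem_small]
      obtain ⟨c, hc⟩ := hr _ (d.ry_mul_ry k i ▸ mul_mem hg hi)
      exact ⟨c - 2 * i, by linarith⟩
  have hQ := Subgroup.eq_of_le_of_card_ge hle (by rw [hcard]; exact d.card_small_le (r := 4) (by ring))
  refine ⟨i, Int.not_even_iff_odd.mp fun heven => ?_, hQ⟩
  have hz : d.x ^ (2 * d.q) ∈ Q := by rw [hQ, d.r_mem_small]; exact dvd_mul_left _ 2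
  exact d.ry_ne_r _ _
    (huniq _ hi _ hz (d.orderOf_ry_two.mpr heven) (d.orderOf_r_two.mpr ⟨0, by ring⟩))

theorem shift_dvd {r k c : ℤ} (hr : r ∣ d.q) (h : k * (1 - d.q) = r * c) : r ∣ k := by
  obtain ⟨u, hu⟩ := hr
  exact ⟨c + u * k, by linear_combination h + k * hu⟩

theorem centralizer_small_two (i : ℤ) :
    Subgroup.centralizer (d.small (2 * d.q) i dvd_rfl : Set S) = d.small (2 * d.q) i dvd_rfl := by
  have ha : d.x ^ i * d.y ∈ d.small (2 * d.q) i dvd_rfl := d.ry_mem_small.mpr ⟨0, by ring⟩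
  refine le_antisymm ?_ ?_
  · intro g hg
    have hc : Commute (d.x ^ i * d.y) g := Subgroup.mem_centralizer_iff.mp hg _ ha
    obtain ⟨k, rfl | rfl⟩ := d.cases' g
    · exact d.r_mem_small.mpr ((d.commute_r_ry).mp hc.symm)
    · rw [d.ry_mem_small]
      refine (d.commute_r_ry (i := i)).mp ?_
      rw [show d.x ^ (k - i) = d.x ^ k * d.y * (d.x ^ i * d.y)⁻¹ by
        rw [eq_mul_inv_iff_mul_eq, d.r_mul_ry, sub_add_cancel]]
      exact (hc.symm.mul_left (Commute.refl _).inv_left)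
  · intro g hg
    rw [Subgroup.mem_centralizer_iff]
    intro h hh
    obtain ⟨c, rfl | rfl⟩ := hg <;> obtain ⟨c', rfl | rfl⟩ := hh
    · rw [← zpow_add, ← zpow_add, add_comm]
    · exact ((d.commute_r_ry).mpr (dvd_mul_right _ _)).eq.symm
    · exact ((d.commute_r_ry).mpr (dvd_mul_right _ _)).eq
    · rw [d.ry_mul_ry, d.ry_mul_ry, d.zpow_eq_iff]
      exact ⟨(c' - c) * (1 - d.q), by ring⟩

theorem centralizer_small_four (i : ℤ) :
    Subgroup.centralizer (d.small d.q i (dvd_mul_left _ 2) : Set S) =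
      Subgroup.zpowers (d.x ^ (2 * d.q)) := by
  refine le_antisymm ?_ ?_
  · intro g hg
    obtain ⟨k, rfl | rfl⟩ := d.cases' g
    · have hc : Commute (d.x ^ i * d.y) (d.x ^ k) :=
        Subgroup.mem_centralizer_iff.mp hg _ (d.ry_mem_small.mpr ⟨0, by ring⟩)
      obtain ⟨c, rfl⟩ := (d.commute_r_ry).mp hc.symm
      exact ⟨c, by show (d.x ^ (2 * d.q)) ^ c = _; rw [← zpow_mul]⟩
    · have hc : Commute (d.x ^ d.q) (d.x ^ k * d.y) :=
        Subgroup.mem_centralizer_iff.mp hg _ (d.r_mem_small.mpr dvd_rfl)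
      obtain ⟨c, hc'⟩ := (d.commute_r_ry).mp hc
      have := d.q_pos
      have e : (1 : ℤ) = 2 * c := mul_left_cancel₀ (ne_of_gt this) (by linarith)
      omega
  · rw [Subgroup.zpowers_le, Subgroup.mem_centralizer_iff]
    intro h _
    exact Subgroup.mem_center_iff.mp (d.center_eq ▸ Subgroup.mem_zpowers _) h

theorem relIndex_normalizer_small {m i : ℤ} {hm : m ∣ 2 * d.q} {r : ℤ} (hr : r ∣ d.q)
    (hmr : m = 2 * r) (hrm : ¬ m ∣ r) :
    (d.small m i hm).relIndex (Subgroup.normalizer (d.small m i hm : Set S)) = 2 := by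
  set T := d.small m i hm with hT
  set N := Subgroup.normalizer (T : Set S)
  have ha : d.x ^ i * d.y ∈ T := d.ry_mem_small.mpr ⟨0, by ring⟩
  have hchar : ∀ k : ℤ, d.x ^ k ∈ N → r ∣ k := by
    intro k hk
    have h := (Subgroup.mem_normalizer_iff.mp hk _).mp ha
    rw [d.conj_ry, d.ry_mem_small] at h
    obtain ⟨c, hc⟩ := h
    exact d.shift_dvd hr (c := c) (by rw [hmr] at hc; linarith)
  have hrN : d.x ^ r ∈ N := by
    apply Subgroup.mem_normalizer_fintype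
    rintro g ⟨c, rfl | rfl⟩
    · show d.x ^ r * d.x ^ (m * c) * (d.x ^ r)⁻¹ ∈ T
      rw [← zpow_neg, ← zpow_add, ← zpow_add, d.r_mem_small]
      exact ⟨c, by ring⟩
    · show d.x ^ r * (d.x ^ (i + m * c) * d.y) * (d.x ^ r)⁻¹ ∈ T
      rw [d.conj_ry, d.ry_mem_small]
      exact ⟨c + (1 - d.q), by rw [hmr]; ring⟩
  have hTN : T ≤ N := Subgroup.le_normalizer
  rw [Subgroup.relIndex, Subgroup.index_eq_two_iff]
  refine ⟨⟨_, hrN⟩, fun ⟨b, hb⟩ => ?_⟩
  simp only [Subgroup.mem_subgroupOf, Subgroup.coe_mul]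
  have hnot : d.x ^ r ∉ T := fun h => hrm (d.r_mem_small.mp h)
  obtain ⟨t, ht, k, hbk⟩ : ∃ t ∈ T, ∃ k : ℤ, b = t * d.x ^ (r * k) := by
    obtain ⟨j, rfl | rfl⟩ := d.cases' b
    · obtain ⟨k, rfl⟩ := hchar j hb
      exact ⟨1, one_mem _, k, (one_mul _).symm⟩
    · have h := mul_mem (inv_mem (hTN ha)) hb
      have e : (d.x ^ i * d.y)⁻¹ * (d.x ^ j * d.y) = d.x ^ ((j - i) * (2 * d.q - 1)) := by
        rw [mul_inv_rev, d.y_inv, mul_assoc, ← mul_assoc (d.x ^ i)⁻¹, ← zpow_neg, ← zpow_add,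
          ← mul_assoc, neg_add_eq_sub]
        nth_rewrite 2 [← d.y_inv]
        rw [d.conj_zpow']
      rw [e] at h
      obtain ⟨k, hk⟩ := hchar _ h
      exact ⟨_, ha, k, by rw [← hk, ← e, mul_inv_cancel_left]⟩
  subst hbk
  rw [mul_assoc, ← zpow_add, T.mul_mem_cancel_left ht, T.mul_mem_cancel_left ht]
  rcases Int.even_or_odd' k with ⟨u, rfl | rfl⟩
  · refine Or.inr ⟨d.r_mem_small.mpr ⟨u, by rw [hmr]; ring⟩, fun h => hnot ?_⟩
    have := mul_mem h (inv_mem ((d.r_mem_small (hm := hm) (i := i) (k := r * (2 * u))).mpr ⟨u, by rw [hmr]; ring⟩))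
    rwa [← zpow_neg, ← zpow_add, show r * (2 * u) + r + -(r * (2 * u)) = r by ring] at this
  · refine Or.inl ⟨d.r_mem_small.mpr ⟨u + 1, by rw [hmr]; ring⟩, fun h => hnot ?_⟩
    have := mul_mem h (inv_mem ((d.r_mem_small (hm := hm) (i := i) (k := r * (2 * u))).mpr ⟨u, by rw [hmr]; ring⟩))
    rwa [← zpow_neg, ← zpow_add, show r * (2 * u + 1) + -(r * (2 * u)) = r by ring] at this

end CfsgLib.SmallTwo.QD
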