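import Mathlib
import Cfsg.Prelude.Def_CaseTheorems

/-!
Normal form in a quasi-dihedral group: every element is `x ^ i` or `x ^ i * y`, and
`y * x ^ i * y = x ^ (i * (2q - 1))` where `x` has order `4q`.
-/

set_option autoImplicit false

namespace CfsgLib.SmallTwo

/-- Generators of a quasi-dihedral group of order `2 ^ (n + 1)`. -/
structure QD (S : Type*) [Group S] (n : ℕ) where
  hn : 3 ≤ n
  card : Nat.card S = 2 ^ (n + 1)
  x : S
  y : S
  hx : orderOf x = 2 ^ n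
  hy : orderOf y = 2
  hyx : y * x * y⁻¹ = x ^ (2 ^ (n - 1) - 1)

theorem qd_of_card {S : Type*} [Group S] (hS : Cfsg.IsQuasiDihedral S) {n : ℕ}
    (hn : Nat.card S = 2 ^ (n + 1)) : Nonempty (QD S n) := by
  obtain ⟨m, hm, hc, x, y, hx, hy, h⟩ := hS
  obtain rfl : m = n := by
    have := Nat.pow_right_injective (le_refl 2) (hc.symm.trans hn)
    omega
  exact ⟨⟨hm, hc, x, y, hx, hy, h⟩⟩

theorem qd_exists {S : Type*} [Group S] (hS : Cfsg.IsQuasiDihedral S) : ∃ n, Nonempty (QD S n) := by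
  obtain ⟨m, hm, hc, x, y, hx, hy, h⟩ := hS
  exact ⟨m, ⟨⟨hm, hc, x, y, hx, hy, h⟩⟩⟩

theorem dvd_double_cases {d i : ℤ} (h : d ∣ i) : 2 * d ∣ i ∨ 2 * d ∣ i - d := by
  obtain ⟨c, rfl⟩ := h
  rcases Int.even_or_odd' c with ⟨k, rfl | rfl⟩
  · exact Or.inl ⟨k, by ring⟩
  · exact Or.inr ⟨k, by ring⟩

namespace QD

variable {S : Type*} [Group S] {n : ℕ} (d : QD S n)

/-- A quarter of the order of `x`. -/
def q (_d : QD S n) : ℤ := 2 ^ (n - 2)

theorem exists_half : ∃ p : ℤ, 0 < p ∧ d.q = 2 * p := by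
  obtain ⟨m, rfl⟩ : ∃ m, n = m + 3 := ⟨n - 3, by have := d.hn; omega⟩
  exact ⟨2 ^ m, by positivity, by rw [q, show m + 3 - 2 = m + 1 by omega, pow_succ']⟩

theorem q_pos : 0 < d.q := by
  obtain ⟨p, hp, h⟩ := d.exists_half
  omega

theorem order_int : ((2 ^ n : ℕ) : ℤ) = 4 * d.q := by
  obtain ⟨m, rfl⟩ : ∃ m, n = m + 3 := ⟨n - 3, by have := d.hn; omega⟩
  rw [q, show m + 3 - 2 = m + 1 by omega]
  push_cast
  ring

theorem zpow_eq_iff {i j : ℤ} : d.x ^ i = d.x ^ j ↔ 4 * d.q ∣ i - j := by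
  rw [← orderOf_dvd_sub_iff_zpow_eq_zpow, d.hx, d.order_int]

theorem zpow_eq_one_iff {i : ℤ} : d.x ^ i = 1 ↔ 4 * d.q ∣ i := by
  rw [← zpow_zero d.x, d.zpow_eq_iff, sub_zero]

theorem parity_of_eq {i j : ℤ} (h : d.x ^ i = d.x ^ j) : Even i ↔ Even j := by
  obtain ⟨c, hc⟩ := d.zpow_eq_iff.mp h
  rw [show i = j + 4 * d.q * c by omega, Int.even_add]
  simp [Int.even_mul, show Even (4 : ℤ) by decide]

theorem yy : d.y * d.y = 1 := by
  rw [← pow_two, ← d.hy, pow_orderOf_eq_one]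

theorem y_inv : d.y⁻¹ = d.y := inv_eq_of_mul_eq_one_right d.yy

theorem conj_zpow' (i : ℤ) : d.y * d.x ^ i * d.y⁻¹ = d.x ^ (i * (2 * d.q - 1)) := by
  rw [← _root_.conj_zpow, d.hyx, ← zpow_natCast, ← zpow_mul, mul_comm]
  congr 2
  obtain ⟨m, hm⟩ : ∃ m, n = m + 3 := ⟨n - 3, by have := d.hn; omega⟩
  subst hm
  rw [q, show m + 3 - 1 = m + 2 by omega, show m + 3 - 2 = m + 1 by omega,
    Nat.cast_sub Nat.one_le_two_pow]
  push_cast
  ring

theorem y_mul (j : ℤ) : d.y * d.x ^ j = d.x ^ (j * (2 * d.q - 1)) * d.y := by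
  rw [← d.conj_zpow', inv_mul_cancel_right]

theorem ry_mul_r (i j : ℤ) :
    d.x ^ i * d.y * d.x ^ j = d.x ^ (i + j * (2 * d.q - 1)) * d.y := by
  rw [mul_assoc, d.y_mul, ← mul_assoc, ← zpow_add]

theorem ry_mul_ry (i j : ℤ) :
    d.x ^ i * d.y * (d.x ^ j * d.y) = d.x ^ (i + j * (2 * d.q - 1)) := by
  rw [← mul_assoc, d.ry_mul_r, mul_assoc, d.yy, mul_one]

theorem r_mul_ry (i j : ℤ) : d.x ^ i * (d.x ^ j * d.y) = d.x ^ (i + j) * d.y := by
  rw [← mul_assoc, ← zpow_add]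

theorem y_notMem : d.y ∉ Subgroup.zpowers d.x := by
  rintro ⟨k, hk⟩
  have hk' : d.x ^ k = d.y := hk
  have h := d.conj_zpow' 1
  rw [zpow_one, ← hk', one_mul] at h
  have h1 : d.x ^ (1 : ℤ) = d.x ^ (2 * d.q - 1) := by
    rw [zpow_one, ← h]
    group
  obtain ⟨p, hp, hpq⟩ := d.exists_half
  have h2 := d.zpow_eq_iff.mp h1
  have := Int.le_of_dvd (by omega) (dvd_neg.mpr h2)
  omega

theorem ry_ne_r (i j : ℤ) : d.x ^ i * d.y ≠ d.x ^ j := by
  intro h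
  refine d.y_notMem ⟨j - i, ?_⟩
  show d.x ^ (j - i) = d.y
  rw [sub_eq_neg_add, zpow_add, ← h, zpow_neg, inv_mul_cancel_left]

theorem ry_eq_iff {i j : ℤ} : d.x ^ i * d.y = d.x ^ j * d.y ↔ 4 * d.q ∣ i - j := by
  rw [mul_left_inj, d.zpow_eq_iff]

theorem conj_ry (i j : ℤ) : d.x ^ j * (d.x ^ i * d.y) * (d.x ^ j)⁻¹ =
    d.x ^ (i + j * (2 - 2 * d.q)) * d.y := by
  rw [← zpow_neg, ← mul_assoc, ← zpow_add, d.ry_mul_r]
  congr 2
  ring

theorem exists_conj_shift (i m : ℤ) :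
    ∃ j : ℤ, d.x ^ j * (d.x ^ i * d.y) * (d.x ^ j)⁻¹ = d.x ^ (i + 2 * m) * d.y := by
  obtain ⟨p, -, hp⟩ := d.exists_half
  refine ⟨m * (1 + d.q), ?_⟩
  rw [d.conj_ry, d.ry_eq_iff]
  exact ⟨-(m * p), by rw [hp]; ring⟩

variable [Finite S]

theorem index_zpowers : (Subgroup.zpowers d.x).index = 2 := by
  have h := Subgroup.card_mul_index (Subgroup.zpowers d.x)
  rw [Nat.card_zpowers, d.hx, d.card, pow_succ] at h
  exact Nat.eq_of_mul_eq_mul_left (by positivity) h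

theorem cases' (g : S) : ∃ i : ℤ, g = d.x ^ i ∨ g = d.x ^ i * d.y := by
  by_cases hg : g ∈ Subgroup.zpowers d.x
  · obtain ⟨i, hi⟩ := hg
    exact ⟨i, Or.inl hi.symm⟩
  · have : g * d.y ∈ Subgroup.zpowers d.x := by
      rw [Subgroup.mul_mem_iff_of_index_two d.index_zpowers]
      exact iff_of_false hg d.y_notMem
    obtain ⟨i, hi⟩ := this
    have hi' : d.x ^ i = g * d.y := hi
    exact ⟨i, Or.inr (by rw [hi', mul_assoc, d.yy, mul_one])⟩

theorem notMem_iff {g : S} (hg : g ∉ Subgroup.zpowers d.x) : ∃ i : ℤ, g = d.x ^ i * d.y := by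
  obtain ⟨i, rfl | h⟩ := d.cases' g
  · exact absurd ⟨i, rfl⟩ hg
  · exact ⟨i, h⟩

/-! ### Orders -/

theorem sq_ry_of_even {i : ℤ} (hi : Even i) : d.x ^ i * d.y * (d.x ^ i * d.y) = 1 := by
  obtain ⟨k, rfl⟩ := hi
  rw [d.ry_mul_ry, d.zpow_eq_one_iff]
  exact ⟨k, by ring⟩

theorem sq_ry_of_odd {i : ℤ} (hi : Odd i) :
    d.x ^ i * d.y * (d.x ^ i * d.y) = d.x ^ (2 * d.q) := by
  obtain ⟨k, rfl⟩ := hi
  rw [d.ry_mul_ry, d.zpow_eq_iff]
  exact ⟨k, by ring⟩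

theorem zpow_half_ne_one : d.x ^ (2 * d.q) ≠ 1 := by
  rw [Ne, d.zpow_eq_one_iff]
  intro h
  have := d.q_pos
  have := Int.le_of_dvd (by omega) h
  omega

theorem orderOf_r_two {i : ℤ} : orderOf (d.x ^ i) = 2 ↔ 4 * d.q ∣ i - 2 * d.q := by
  have hne := d.zpow_half_ne_one
  constructor
  · intro h
    have h2 : d.x ^ (i + i) = 1 := by
      rw [zpow_add, ← pow_two, ← h, pow_orderOf_eq_one]
    obtain ⟨c, hc⟩ := d.zpow_eq_one_iff.mp h2
    rcases dvd_double_cases (d := 2 * d.q) (i := i) ⟨c, by linarith⟩ with h3 | h3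
    · rw [d.zpow_eq_one_iff.mpr (show 4 * d.q ∣ i by rwa [show 4 * d.q = 2 * (2 * d.q) by ring]),
        orderOf_one] at h
      simp at h
    · rwa [show 4 * d.q = 2 * (2 * d.q) by ring]
  · intro h
    rw [d.zpow_eq_iff.mpr h]
    refine orderOf_eq_prime ?_ hne
    rw [pow_two, ← zpow_add, d.zpow_eq_one_iff]
    exact ⟨1, by ring⟩

theorem orderOf_ry_two {i : ℤ} : orderOf (d.x ^ i * d.y) = 2 ↔ Even i := by
  constructor
  · intro h
    by_contra hi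
    have h2 := d.sq_ry_of_odd (Int.not_even_iff_odd.mp hi)
    rw [← pow_two, ← h, pow_orderOf_eq_one] at h2
    exact d.zpow_half_ne_one h2.symm
  · intro hi
    refine orderOf_eq_prime (by rw [pow_two, d.sq_ry_of_even hi]) fun h => ?_
    exact d.ry_ne_r i 0 (by rw [zpow_zero]; exact h)

theorem orderOf_ry_four {i : ℤ} : orderOf (d.x ^ i * d.y) = 4 ↔ Odd i := by
  constructor
  · intro h
    by_contra hi
    rw [d.orderOf_ry_two.mpr (Int.not_odd_iff_even.mp hi)] at h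
    omega
  · intro hi
    have : Fact (Nat.Prime 2) := ⟨Nat.prime_two⟩
    refine orderOf_eq_prime_pow (p := 2) (n := 1) ?_ ?_
    · rw [pow_one, pow_two, d.sq_ry_of_odd hi]
      exact d.zpow_half_ne_one
    · rw [show 2 ^ (1 + 1) = 2 * 2 by norm_num, pow_mul, pow_two, pow_two, d.sq_ry_of_odd hi,
        ← zpow_add, d.zpow_eq_one_iff]
      exact ⟨1, by ring⟩

theorem orderOf_r_four {i : ℤ} :
    orderOf (d.x ^ i) = 4 ↔ 4 * d.q ∣ i - d.q ∨ 4 * d.q ∣ i + d.q := by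
  have : Fact (Nat.Prime 2) := ⟨Nat.prime_two⟩
  constructor
  · intro h
    have h2 : orderOf (d.x ^ (i + i)) = 2 := by
      rw [zpow_add, ← pow_two, orderOf_pow, h]
      rfl
    obtain ⟨c, hc⟩ := d.orderOf_r_two.mp h2
    rcases dvd_double_cases (d := 2 * d.q) (i := i - d.q) ⟨c, by linarith⟩ with h3 | h3
    · exact Or.inl (by rwa [show 4 * d.q = 2 * (2 * d.q) by ring])
    · obtain ⟨k, hk⟩ := h3
      exact Or.inr ⟨k + 1, by linarith⟩
  · intro h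
    refine orderOf_eq_prime_pow (p := 2) (n := 1) ?_ ?_
    · rw [pow_one, pow_two, ← zpow_add]
      intro h1
      have := d.q_pos
      apply d.zpow_half_ne_one
      rw [d.zpow_eq_one_iff] at h1 ⊢
      obtain ⟨a, ha⟩ := h1
      rcases h with ⟨b, hb⟩ | ⟨b, hb⟩
      · exact ⟨a - 2 * b, by linarith⟩
      · exact ⟨2 * b - a, by linarith⟩
    · rw [← zpow_natCast, ← zpow_mul, d.zpow_eq_one_iff]
      rcases h with ⟨b, hb⟩ | ⟨b, hb⟩
      · exact ⟨4 * b + 1, by push_cast; linarith⟩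
      · exact ⟨4 * b - 1, by push_cast; linarith⟩

/-- The only powers of `x` commuting with an element outside are `1` and the central involution. -/
theorem commute_r_ry {i k : ℤ} :
    Commute (d.x ^ k) (d.x ^ i * d.y) ↔ 2 * d.q ∣ k := by
  rw [commute_iff_eq, d.r_mul_ry, d.ry_mul_r, d.ry_eq_iff]
  obtain ⟨p, -, hp⟩ := d.exists_half
  constructor
  · rintro ⟨c, hc⟩
    refine ⟨c * (1 + d.q) + k * p, ?_⟩
    have e : k * (1 - d.q) = 2 * d.q * c := by linarith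
    linear_combination (1 + d.q) * e + (k * d.q) * hp
  · rintro ⟨c, rfl⟩
    exact ⟨c * (1 - d.q), by ring⟩

end QD

end CfsgLib.SmallTwo
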