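import Cfsg.Agent.Lib.SmallTwo.QDLocal

/-!
The four fusion types of groups with quasi-dihedral Sylow 2-subgroups.
-/

set_option autoImplicit false

namespace CfsgLib.SmallTwo.QD

variable {G : Type*} [Group G] [Finite G] {S : Sylow 2 G} {n : ℕ} (d : QD (S : Subgroup G) n)

theorem coe_zero_y : d.x ^ (0 : ℤ) * d.y = d.y := by rw [zpow_zero, one_mul]

theorem order_four_G {t : (S : Subgroup G)} : orderOf (t : G) = orderOf t := Subgroup.orderOf_coe t

theorem isConj_coe {a b : (S : Subgroup G)} (h : IsConj a b) : IsConj (a : G) (b : G) :=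
  (S : Subgroup G).subtype.map_isConj h

theorem sylow_involution {s : G} (hs : s ∈ (S : Subgroup G)) (h2 : orderOf s = 2) :
    IsConj s ((d.x ^ (2 * d.q) : (S : Subgroup G)) : G) ∨
      IsConj s ((d.x ^ (0 : ℤ) * d.y : (S : Subgroup G)) : G) :=
  (d.involution_cases (t := ⟨s, hs⟩) (by rw [← Subgroup.orderOf_coe]; exact h2)).imp
    isConj_coe isConj_coe

theorem sylow_order_four {s : G} (hs : s ∈ (S : Subgroup G)) (h4 : orderOf s = 4) :
    IsConj s ((d.x ^ d.q : (S : Subgroup G)) : G) ∨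
      IsConj s ((d.x ^ (1 : ℤ) * d.y : (S : Subgroup G)) : G) :=
  (d.order_four_cases (t := ⟨s, hs⟩) (by rw [← Subgroup.orderOf_coe]; exact h4)).imp
    isConj_coe isConj_coe

theorem orderOf_z : orderOf ((d.x ^ (2 * d.q) : (S : Subgroup G)) : G) = 2 := by
  rw [Subgroup.orderOf_coe]; exact d.orderOf_r_two.mpr ⟨0, by ring⟩

theorem orderOf_y0 : orderOf ((d.x ^ (0 : ℤ) * d.y : (S : Subgroup G)) : G) = 2 := by
  rw [Subgroup.orderOf_coe]; exact d.orderOf_ry_two.mpr Even.zero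

theorem orderOf_xq : orderOf ((d.x ^ d.q : (S : Subgroup G)) : G) = 4 := by
  rw [Subgroup.orderOf_coe]; exact d.orderOf_r_four.mpr (Or.inl ⟨0, by ring⟩)

theorem orderOf_xy : orderOf ((d.x ^ (1 : ℤ) * d.y : (S : Subgroup G)) : G) = 4 := by
  rw [Subgroup.orderOf_coe]; exact d.orderOf_ry_four.mpr odd_one

theorem one_class_two
    (h : IsConj ((d.x ^ (2 * d.q) : (S : Subgroup G)) : G) ((d.x ^ (0 : ℤ) * d.y : (S : Subgroup G)) : G)) :
    Nat.card {C : ConjClasses G // ∃ t : G, orderOf t = 2 ∧ ConjClasses.mk t = C} = 1 := by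
  have key := one_class S (k := 1) (a := ((d.x ^ (2 * d.q) : (S : Subgroup G)) : G))
    (by rw [pow_one]; exact d.orderOf_z) (fun s hs h2 => by
      rw [pow_one] at h2
      exact (d.sylow_involution hs h2).elim id fun h' => h'.trans h.symm)
  simpa only [pow_one] using key

theorem two_class_two
    (h : ¬ IsConj ((d.x ^ (2 * d.q) : (S : Subgroup G)) : G) ((d.x ^ (0 : ℤ) * d.y : (S : Subgroup G)) : G)) :
    Nat.card {C : ConjClasses G // ∃ t : G, orderOf t = 2 ∧ ConjClasses.mk t = C} = 2 := by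
  have key := two_classes_of S (k := 1) (by rw [pow_one]; exact d.orderOf_z)
    (by rw [pow_one]; exact d.orderOf_y0) h (fun s hs h2 => by
      rw [pow_one] at h2
      exact d.sylow_involution hs h2)
  simpa only [pow_one] using key

theorem one_class_four
    (h : IsConj ((d.x ^ d.q : (S : Subgroup G)) : G) ((d.x ^ (1 : ℤ) * d.y : (S : Subgroup G)) : G)) :
    Nat.card {C : ConjClasses G // ∃ t : G, orderOf t = 4 ∧ ConjClasses.mk t = C} = 1 := by
  have key := one_class S (k := 2) (a := ((d.x ^ d.q : (S : Subgroup G)) : G))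
    (by rw [show 2 ^ 2 = 4 by norm_num]; exact d.orderOf_xq) (fun s hs h4 => by
      rw [show 2 ^ 2 = 4 by norm_num] at h4
      exact (d.sylow_order_four hs h4).elim id fun h' => h'.trans h.symm)
  simpa only [show (2 : ℕ) ^ 2 = 4 by norm_num] using key

theorem two_class_four
    (h : ¬ IsConj ((d.x ^ d.q : (S : Subgroup G)) : G) ((d.x ^ (1 : ℤ) * d.y : (S : Subgroup G)) : G)) :
    Nat.card {C : ConjClasses G // ∃ t : G, orderOf t = 4 ∧ ConjClasses.mk t = C} = 2 := by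
  have key := two_classes_of S (k := 2) (by rw [show 2 ^ 2 = 4 by norm_num]; exact d.orderOf_xq)
    (by rw [show 2 ^ 2 = 4 by norm_num]; exact d.orderOf_xy) h (fun s hs h4 => by
      rw [show 2 ^ 2 = 4 by norm_num] at h4
      exact d.sylow_order_four hs h4)
  simpa only [show (2 : ℕ) ^ 2 = 4 by norm_num] using key

theorem z_y_not_isConj (hF : ∀ i, Even i → ActsLike (S : Subgroup G) (d.four i)) :
    ¬ IsConj ((d.x ^ (2 * d.q) : (S : Subgroup G)) : G)
      ((d.x ^ (0 : ℤ) * d.y : (S : Subgroup G)) : G) := by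
  intro h
  obtain ⟨g, hg⟩ := isConj_iff.mp h
  have := d.par_invariant (ε := 1) (Or.inr rfl) (fun _ => hF) (fun h => absurd h one_ne_zero)
    (d.x ^ (2 * d.q)).2 (g := g) (hg ▸ (d.x ^ (0 : ℤ) * d.y).2)
  rw [hg] at this
  have h1 := this.mpr (Subgroup.mem_map_of_mem _ (d.r_mem_par.mpr (even_two_mul _)))
  obtain ⟨v, hv, he⟩ := h1
  obtain rfl : v = d.x ^ (0 : ℤ) * d.y := Subtype.ext he
  rw [SetLike.mem_coe, d.ry_mem_par] at hv
  exact absurd hv (by decide)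

theorem xq_xy_not_isConj (hQ : ∀ i, Odd i → ActsLike (S : Subgroup G) (d.quat i)) :
    ¬ IsConj ((d.x ^ d.q : (S : Subgroup G)) : G)
      ((d.x ^ (1 : ℤ) * d.y : (S : Subgroup G)) : G) := by
  intro h
  obtain ⟨g, hg⟩ := isConj_iff.mp h
  have := d.par_invariant (ε := 0) (Or.inl rfl) (fun h => absurd h zero_ne_one) (fun _ => hQ)
    (d.x ^ d.q).2 (g := g) (hg ▸ (d.x ^ (1 : ℤ) * d.y).2)
  rw [hg] at this
  have h1 := this.mpr (Subgroup.mem_map_of_mem _ (d.r_mem_par.mpr d.even_q))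
  obtain ⟨v, hv, he⟩ := h1
  obtain rfl : v = d.x ^ (1 : ℤ) * d.y := Subtype.ext he
  rw [SetLike.mem_coe, d.ry_mem_par] at hv
  exact absurd hv (by decide)

theorem xq_xy_isConj
    (hQ : ∀ i : ℤ, Odd i →
      OddConj ((d.x ^ d.q : (S : Subgroup G)) : G) ((d.x ^ i * d.y : (S : Subgroup G)) : G) ∨
      OddConj ((d.x ^ d.q : (S : Subgroup G)) : G) ((d.x ^ i * d.y : (S : Subgroup G)) : G)⁻¹) :
    IsConj ((d.x ^ d.q : (S : Subgroup G)) : G) ((d.x ^ (1 : ℤ) * d.y : (S : Subgroup G)) : G) := by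
  rcases hQ 1 odd_one with h | h
  · exact h.isConj
  · refine h.isConj.trans ?_
    rw [← Subgroup.coe_inv]
    exact isConj_coe d.inv_ry_isConj

/-- The even part of `S` lies in `L` when the central involution moves. -/
theorem par_zero_le {L : Subgroup (S : Subgroup G)}
    (hmul : ∀ a ∈ d.par 0, ∀ b ∈ d.par 0, (a * b ∈ L ↔ (a ∈ L ↔ b ∈ L)))
    (hz : ∀ i : ℤ, Even i → (d.x ^ (2 * d.q) ∈ L ↔ d.x ^ i * d.y ∈ L)) : d.par 0 ≤ L := by
  have hzp : d.x ^ (2 * d.q) ∈ d.par 0 := d.r_mem_par.mpr (even_two_mul _)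
  have hzL : d.x ^ (2 * d.q) ∈ L := by
    have h := hmul _ hzp _ (d.ry_mem_par.mpr (by simp) : d.x ^ (0 : ℤ) * d.y ∈ d.par 0)
    rw [d.r_mul_ry, ← hz 0 Even.zero, ← hz (2 * d.q + 0) (by simp)] at h
    exact h.mpr Iff.rfl
  have hy : ∀ i : ℤ, Even i → d.x ^ i * d.y ∈ L := fun i hi => (hz i hi).mp hzL
  rw [d.par_eq_closure, Subgroup.closure_le]
  rintro g (rfl | rfl)
  · have := mul_mem (hy 2 even_two) (hy 0 Even.zero)
    rwa [d.ry_mul_ry, show (2 : ℤ) + 0 * (2 * d.q - 1) = 2 by ring] at this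
  · exact hy 0 Even.zero

/-- The odd part of `S` lies in `L` when an element of order four moves. -/
theorem par_one_le {L : Subgroup (S : Subgroup G)}
    (hmul : ∀ a ∈ d.par 1, ∀ b ∈ d.par 1, (a * b ∈ L ↔ (a ∈ L ↔ b ∈ L)))
    (hz : ∀ i : ℤ, Odd i → (d.x ^ d.q ∈ L ↔ d.x ^ i * d.y ∈ L)) : d.par 1 ≤ L := by
  have hzp : d.x ^ d.q ∈ d.par 1 := d.r_mem_par.mpr d.even_q
  have hzL : d.x ^ d.q ∈ L := by
    have h := hmul _ hzp _ (d.ry_mem_par.mpr (by simp) : d.x ^ (1 : ℤ) * d.y ∈ d.par 1)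
    rw [d.r_mul_ry, ← hz 1 odd_one, ← hz (d.q + 1) (d.even_q.add_odd odd_one)] at h
    exact h.mpr Iff.rfl
  have hy : ∀ i : ℤ, Odd i → d.x ^ i * d.y ∈ L := fun i hi => (hz i hi).mp hzL
  rw [d.par_eq_closure, Subgroup.closure_le]
  rintro g (rfl | rfl)
  · have := mul_mem (hy 3 (by decide)) (inv_mem (hy 1 odd_one))
    rwa [show d.x ^ (3 : ℤ) * d.y * (d.x ^ (1 : ℤ) * d.y)⁻¹ = d.x ^ (2 : ℤ) by
      rw [mul_inv_eq_iff_eq_mul, d.r_mul_ry]; norm_num] at this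
  · exact hy 1 odd_one

theorem kernel_no_index_two {ε : ℤ} {K : Subgroup G} [K.Normal]
    (hKS : ∀ s : (S : Subgroup G), (s : G) ∈ K ↔ s ∈ d.par ε)
    (hconj : ∀ L : Subgroup (S : Subgroup G),
      (∀ a ∈ d.par ε, ∀ b ∈ d.par ε, (a * b ∈ L ↔ (a ∈ L ↔ b ∈ L))) →
      (∀ a ∈ d.par ε, ∀ b ∈ d.par ε, OddConj (a : G) (b : G) → (a ∈ L ↔ b ∈ L)) → d.par ε ≤ L)
    (hodd : ∀ g : G, Odd (orderOf g) → g ∈ K) (H : Subgroup K) : H.index ≠ 2 := by
  intro hH
  obtain ⟨s, hs, hsH⟩ := exists_sylow_notMem S K H hH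
  set L : Subgroup (S : Subgroup G) := (H.map K.subtype).subgroupOf S
  have hL : ∀ (a : (S : Subgroup G)) (h : (a : G) ∈ K), a ∈ L ↔ (⟨(a : G), h⟩ : K) ∈ H := fun a h =>
    Subgroup.mem_subgroupOf.trans
      (Subgroup.mem_map_iff_mem (K := H) K.subtype_injective (x := (⟨(a : G), h⟩ : K)))
  have key := hconj L (fun a ha b hb => by
      rw [hL a ((hKS a).mpr ha), hL b ((hKS b).mpr hb), hL (a * b) ((hKS _).mpr (mul_mem ha hb))]
      exact Subgroup.mul_mem_iff_of_index_two hH (a := ⟨(a : G), (hKS a).mpr ha⟩)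
        (b := ⟨(b : G), (hKS b).mpr hb⟩))
    (fun a ha b hb h => by
      rw [hL a ((hKS a).mpr ha), hL b ((hKS b).mpr hb)]
      exact mem_iff_of_oddConj hodd hH h)
  exact hsH ((hL ⟨s, hs⟩ s.2).mp (key ((hKS ⟨s, hs⟩).mp s.2)))

variable {T : Subgroup G} {Q : Subgroup G}
include d

theorem type_six_six (hT : IsKleinFour T) (hTS : T ≤ S) (hQS : Q ≤ S) (eQ : Q ≃* QuaternionGroup 2)
    (h₁ : (Subgroup.centralizer (T : Set G)).relIndex (Subgroup.normalizer (T : Set G)) = 6)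
    (h₂ : (Q ⊔ Subgroup.centralizer (Q : Set G)).relIndex (Subgroup.normalizer (Q : Set G)) = 6)
    (H : Subgroup G) : H.index ≠ 2 := by
  intro hH
  obtain ⟨s, hs, hsH⟩ := exists_sylow_notMem' S H hH
  set L : Subgroup (S : Subgroup G) := H.subgroupOf S
  have hmul : ∀ a b : (S : Subgroup G), (a * b ∈ L ↔ (a ∈ L ↔ b ∈ L)) := fun a b =>
    Subgroup.mul_mem_iff_of_index_two hH
  have hc : ∀ a b : (S : Subgroup G), IsConj (a : G) b → (a ∈ L ↔ b ∈ L) := fun a b h =>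
    mem_iff_of_conj hH h
  have h0 := d.par_zero_le (L := L) (fun a _ b _ => hmul a b)
    (fun i hi => hc _ _ (d.oddConj_four hT hTS h₁ hi).isConj)
  have h1 := d.par_one_le (L := L) (fun a _ b _ => hmul a b) (fun i hi => by
    rcases d.oddConj_quat hQS eQ h₂ hi with h | h
    · exact hc _ _ h.isConj
    · rw [← Subgroup.coe_inv] at h
      exact (hc _ _ h.isConj).trans L.inv_mem_iff)
  refine hsH (show (⟨s, hs⟩ : (S : Subgroup G)) ∈ L from ?_)
  rw [d.eq_top_of_mem (H := L) (i := 1) (j := 0) odd_one ?_ (h0 (d.r_mem_par.mpr even_two))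
    (h0 (d.ry_mem_par.mpr (by simp)))]
  · exact Subgroup.mem_top _
  · have := mul_mem (h1 (d.ry_mem_par.mpr (by simp) : d.x ^ (1 : ℤ) * d.y ∈ d.par 1))
      (inv_mem (h0 (d.ry_mem_par.mpr (by simp) : d.x ^ (0 : ℤ) * d.y ∈ d.par 0)))
    rwa [show d.x ^ (1 : ℤ) * d.y * (d.x ^ (0 : ℤ) * d.y)⁻¹ = d.x ^ (1 : ℤ) by
      rw [mul_inv_eq_iff_eq_mul, d.r_mul_ry, add_zero]] at this

theorem type_two_six (hT : IsKleinFour T) (hTS : T ≤ S) (hQS : Q ≤ S) (eQ : Q ≃* QuaternionGroup 2)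
    (h₁ : (Subgroup.centralizer (T : Set G)).relIndex (Subgroup.normalizer (T : Set G)) = 2)
    (h₂ : (Q ⊔ Subgroup.centralizer (Q : Set G)).relIndex (Subgroup.normalizer (Q : Set G)) = 6) :
    (∃ K : Subgroup G, K.Normal ∧ K.index = 2 ∧ (∀ P : Sylow 2 ↥K, ∃ m : ℕ, 1 ≤ m ∧
      Nonempty ((P : Subgroup ↥K) ≃* QuaternionGroup (2 ^ m))) ∧ (∀ H : Subgroup ↥K, H.index ≠ 2)) ∧
    Cfsg.IsWeaklyClosed ((Subgroup.center (S : Subgroup G)).map (S : Subgroup G).subtype)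
      (S : Subgroup G) := by
  have hF : ∀ i, Even i → ActsLike (S : Subgroup G) (d.four i) := fun i hi =>
    d.actsLike_four hT hTS h₁ hi
  obtain ⟨K, hKn, hK2, hKS, hodd⟩ := d.exists_kernel (ε := 1) (Or.inr rfl) (fun _ => hF)
    (fun h => absurd h one_ne_zero)
  refine ⟨⟨K, hKn, hK2, fun P => ⟨n - 2, by have := d.hn; omega, ?_⟩,
    d.kernel_no_index_two hKS (fun L hmul hconj => ?_) hodd⟩, ?_⟩
  · obtain ⟨e1⟩ := sylow_iso_of_normal S K (d.par 1) hKS P
    obtain ⟨e2⟩ := d.par_one_iso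
    exact ⟨e1.trans e2⟩
  · refine d.par_one_le hmul fun i hi => ?_
    have hq : d.x ^ d.q ∈ d.par 1 := d.r_mem_par.mpr d.even_q
    have hy : d.x ^ i * d.y ∈ d.par 1 := d.ry_mem_par.mpr (hi.sub_odd odd_one)
    rcases d.oddConj_quat hQS eQ h₂ hi with h | h
    · exact hconj _ hq _ hy h
    · rw [← Subgroup.coe_inv] at h
      exact (hconj _ hq _ (inv_mem hy) h).trans L.inv_mem_iff
  · refine ⟨Subgroup.map_subtype_le _, fun g hg => ?_⟩
    have hmapZ : (Subgroup.center (S : Subgroup G)).map (S : Subgroup G).subtype =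
        Subgroup.zpowers ((d.x ^ (2 * d.q) : (S : Subgroup G)) : G) := by
      rw [d.center_eq, MonoidHom.map_zpowers]; rfl
    rw [hmapZ, MonoidHom.map_zpowers, Subgroup.zpowers_le] at hg
    rw [hmapZ, MonoidHom.map_zpowers]
    change g * ((d.x ^ (2 * d.q) : (S : Subgroup G)) : G) * g⁻¹ ∈ (S : Subgroup G) at hg
    show Subgroup.zpowers (g * ((d.x ^ (2 * d.q) : (S : Subgroup G)) : G) * g⁻¹) = _
    congr 1
    obtain ⟨v, hv, he⟩ := (d.par_invariant (ε := 1) (Or.inr rfl) (fun _ => hF)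
      (fun h => absurd h one_ne_zero) (d.x ^ (2 * d.q)).2 hg).mpr
      (Subgroup.mem_map_of_mem _ (d.r_mem_par.mpr (even_two_mul _)))
    have h2 : orderOf v = 2 := by
      rw [← Subgroup.orderOf_coe, show (v : G) = _ from he, ← MulAut.conj_apply, MulEquiv.orderOf_eq,
        d.orderOf_z]
    rw [← show (v : G) = _ from he]
    obtain ⟨k, rfl | rfl⟩ := hv
    · rw [d.zpow_eq_iff.mpr (d.orderOf_r_two.mp h2)]
    · exact absurd (d.orderOf_ry_two.mp h2) (by simp [parity_simps])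

theorem type_six_two (hT : IsKleinFour T) (hTS : T ≤ S) (hQS : Q ≤ S) (eQ : Q ≃* QuaternionGroup 2)
    (h₁ : (Subgroup.centralizer (T : Set G)).relIndex (Subgroup.normalizer (T : Set G)) = 6)
    (h₂ : (Q ⊔ Subgroup.centralizer (Q : Set G)).relIndex (Subgroup.normalizer (Q : Set G)) = 2) :
    ∃ K : Subgroup G, K.Normal ∧ K.index = 2 ∧ (∀ P : Sylow 2 ↥K, ∃ m : ℕ,
      Nonempty ((P : Subgroup ↥K) ≃* DihedralGroup m)) ∧ (∀ H : Subgroup ↥K, H.index ≠ 2) := by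
  obtain ⟨K, hKn, hK2, hKS, hodd⟩ := d.exists_kernel (ε := 0) (Or.inl rfl)
    (fun h => absurd h zero_ne_one) (fun _ i hi => d.actsLike_quat hQS eQ h₂ hi)
  refine ⟨K, hKn, hK2, fun P => ⟨2 ^ (n - 1), ?_⟩,
    d.kernel_no_index_two hKS (fun L hmul hconj => ?_) hodd⟩
  · obtain ⟨e1⟩ := sylow_iso_of_normal S K (d.par 0) hKS P
    obtain ⟨e2⟩ := d.par_zero_iso
    exact ⟨e1.trans e2⟩
  · exact d.par_zero_le hmul fun i hi => hconj _ (d.r_mem_par.mpr (even_two_mul _)) _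
      (d.ry_mem_par.mpr (by simpa using hi)) (d.oddConj_four hT hTS h₁ hi)

theorem type_two_two (hT : IsKleinFour T) (hTS : T ≤ S) (hQS : Q ≤ S) (eQ : Q ≃* QuaternionGroup 2)
    (h₁ : (Subgroup.centralizer (T : Set G)).relIndex (Subgroup.normalizer (T : Set G)) = 2)
    (h₂ : (Q ⊔ Subgroup.centralizer (Q : Set G)).relIndex (Subgroup.normalizer (Q : Set G)) = 2) :
    Cfsg.HasNormalPComplement 2 G := by
  have : Fact (Nat.Prime 2) := ⟨Nat.prime_two⟩
  refine CfsgLib.Transfer.hasNormalPComplement_of_no_fusion S fun a ha g hg => ?_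
  have := d.fusion (fun u v => u ∈ (S : Subgroup G) → ∃ z ∈ (S : Subgroup G), z * u * z⁻¹ = v)
    (fun u _ => ⟨1, one_mem _, by simp⟩)
    (fun u v w h1 h2 hu => by
      obtain ⟨y, hy, rfl⟩ := h1 hu
      obtain ⟨z, hz, rfl⟩ := h2 (mul_mem (mul_mem hy hu) (inv_mem hy))
      exact ⟨z * y, mul_mem hz hy, by group⟩)
    (fun u _ s hs _ => ⟨s, hs, rfl⟩)
    (fun i hi m hm u hu _ => by
      obtain ⟨s, hs, he⟩ := d.actsLike_four hT hTS h₁ hi m hm
      exact ⟨s, hs, (he u hu).symm⟩)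
    (fun i hi m hm u hu _ => by
      obtain ⟨s, hs, he⟩ := d.actsLike_quat hQS eQ h₂ hi m hm
      exact ⟨s, hs, (he u hu).symm⟩) ha hg
  exact this ha

end CfsgLib.SmallTwo.QD
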