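import Cfsg.Agent.Lib.SmallTwo.WRResults

/-!
The two possible values of the local indices in groups with wreathed Sylow 2-subgroups.
-/

set_option autoImplicit false

namespace CfsgLib.SmallTwo

open CfsgLib.Transfer

variable {G : Type*} [Group G] [Finite G]

theorem relIndex_two_pow {C K : Subgroup G} [hn : (C.subgroupOf K).Normal]
    (h : ∀ g ∈ K, Odd (orderOf g) → g ∈ C) : ∃ a, C.relIndex K = 2 ^ a := by
  have : Fact (Nat.Prime 2) := ⟨Nat.prime_two⟩
  obtain ⟨a, ha⟩ := IsPGroup.iff_card.mp (show IsPGroup 2 (K ⧸ C.subgroupOf K) from fun x => by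
    obtain ⟨g, rfl⟩ := QuotientGroup.mk'_surjective _ x
    obtain ⟨k, r, hr, hkr⟩ := Nat.exists_eq_two_pow_mul_odd (n := orderOf g) (orderOf_pos g).ne'
    refine ⟨k, ?_⟩
    rw [← map_pow]
    refine (QuotientGroup.eq_one_iff _).mpr (Subgroup.mem_subgroupOf.mpr (h _ (g ^ 2 ^ k).2 ?_))
    rw [Subgroup.orderOf_coe]
    exact hr.of_dvd_nat (orderOf_dvd_of_pow_eq_one (by rw [← pow_mul, ← hkr, pow_orderOf_eq_one])))
  exact ⟨a, by rw [Subgroup.relIndex, Subgroup.index_eq_card, ha]⟩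

theorem dvd_six_of {r a j o : ℕ} (hr : r = 2 ^ a * j) (hj : j ∣ 6) (hro : r ∣ 2 * o) (ho : Odd o) :
    r ∣ 6 := by
  have h1 : r ∣ 2 * (2 ^ a * 3) := by
    rw [hr, show 2 * (2 ^ a * 3) = 2 ^ a * 6 by ring]
    exact Nat.mul_dvd_mul_left _ hj
  have h2 : r ∣ 2 * Nat.gcd (2 ^ a * 3) o := by
    rw [← Nat.gcd_mul_left]; exact Nat.dvd_gcd h1 hro
  refine h2.trans ?_
  have h3 : Nat.gcd (2 ^ a * 3) o ∣ 3 :=
    Nat.Coprime.dvd_of_dvd_mul_left
      (Nat.Coprime.coprime_dvd_left (Nat.gcd_dvd_right _ _) ((ho.coprime_two_right).pow_right a))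
      (Nat.gcd_dvd_left _ _)
  rw [show 6 = 2 * 3 by norm_num]
  exact Nat.mul_dvd_mul_left 2 h3

namespace WR

variable {S : Sylow 2 G} {n : ℕ} (d : WR (S : Subgroup G) n)

theorem torsion_normalized {g : G} (hg : g ∈ Subgroup.normalizer (d.baseG : Set G)) :
    g ∈ Subgroup.normalizer (d.torsion.map (S : Subgroup G).subtype : Set G) := by
  refine Subgroup.mem_normalizer_fintype ?_
  rintro _ ⟨v, ⟨k, l, rfl⟩, rfl⟩
  show g * (d.u (d.c * k) (d.c * l) : G) * g⁻¹ ∈ _
  obtain ⟨w, ⟨i, j, rfl⟩, he⟩ := (Subgroup.mem_normalizer_iff.mp hg _).mp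
    (d.coe_mem_baseG.mpr (d.u_mem_base (d.c * k) (d.c * l)))
  have he' : (d.u i j : G) = g * (d.u (d.c * k) (d.c * l) : G) * g⁻¹ := he
  have hsq : d.u i j * d.u i j = 1 := Subtype.ext (by
    have e0 : d.u (d.c * k) (d.c * l) * d.u (d.c * k) (d.c * l) = 1 := by
      rw [d.u_mul_u, d.u_eq_one_iff]; exact ⟨⟨k, by ring⟩, ⟨l, by ring⟩⟩
    rw [Subgroup.coe_mul, he', conj_mul, ← Subgroup.coe_mul, e0, Subgroup.coe_one]
    group)
  rw [d.u_mul_u, d.u_eq_one_iff] at hsq
  obtain ⟨⟨p, hp⟩, ⟨r, hr⟩⟩ := hsq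
  refine ⟨d.u i j, ⟨p, r, ?_⟩, he'⟩
  rw [show i = d.c * p by linarith, show j = d.c * r by linarith]

theorem base_index_cases :
    (Subgroup.centralizer (d.baseG : Set G)).relIndex (Subgroup.normalizer (d.baseG : Set G)) = 2 ∨
    (Subgroup.centralizer (d.baseG : Set G)).relIndex (Subgroup.normalizer (d.baseG : Set G)) = 6 := by
  set C := Subgroup.centralizer (d.baseG : Set G) with hC
  set N := Subgroup.normalizer (d.baseG : Set G) with hN
  set T := d.torsion.map (S : Subgroup G).subtype with hT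
  have hn : (C.subgroupOf N).Normal := by
    rw [← Subgroup.normalizerMonoidHom_ker]; infer_instance
  have hCN : C ≤ N := Subgroup.centralizer_le_normalizer _
  -- the kernel of the action on the involutions
  set K := N ⊓ Subgroup.centralizer (T : Set G) with hK
  have hTB : T ≤ d.baseG := Subgroup.map_mono fun v ⟨k, l, hv⟩ => ⟨_, _, hv⟩
  have hCK : C ≤ K := le_inf hCN (Subgroup.centralizer_le hTB)
  have hn' : (C.subgroupOf K).Normal :=
    Subgroup.normal_subgroupOf_of_le_normalizer (inf_le_left.trans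
      ((Subgroup.normal_subgroupOf_iff_le_normalizer hCN).mp hn))
  obtain ⟨a, ha⟩ := relIndex_two_pow (hn := hn') fun g hg hodd => by
    refine d.fix_base hodd (Subgroup.mem_inf.mp hg).1 fun v hv => ?_
    exact mul_inv_eq_iff_eq_mul.mpr (Subgroup.mem_centralizer_iff.mp (Subgroup.mem_inf.mp hg).2 _
      (Subgroup.mem_map_of_mem _ hv)).symm
  have hj : K.relIndex N ∣ 6 := by
    let ψ : N →* MulAut T := T.normalizerMonoidHom.comp
      (Subgroup.inclusion fun g hg => d.torsion_normalized hg)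
    have e : ψ.ker = K.subgroupOf N := by
      ext g
      constructor
      · intro hg
        refine Subgroup.mem_subgroupOf.mpr (Subgroup.mem_inf.mpr
          ⟨g.2, Subgroup.mem_centralizer_iff.mpr fun v hv => ?_⟩)
        have := congrArg Subtype.val (DFunLike.congr_fun (MonoidHom.mem_ker.mp hg) ⟨v, hv⟩)
        exact (mul_inv_eq_iff_eq_mul.mp this).symm
      · intro hg
        refine MonoidHom.mem_ker.mpr (MulEquiv.ext fun v => Subtype.ext ?_)
        exact mul_inv_eq_iff_eq_mul.mpr (Subgroup.mem_centralizer_iff.mp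
          (Subgroup.mem_inf.mp (Subgroup.mem_subgroupOf.mp hg)).2 _ v.2).symm
    rw [Subgroup.relIndex, ← e, Subgroup.index_ker]
    refine (Subgroup.card_subgroup_dvd_card _).trans (card_mulAut_dvd_six T ?_)
    rw [hT, Subgroup.card_map_of_injective (S : Subgroup G).subtype_injective, d.card_torsion]
  have hS : (S : Subgroup G) ≤ N := fun s hs =>
    QD.conj_mem_map (s := ⟨s, hs⟩) fun v hv => d.base_normal.conj_mem v hv _
  have hro : C.relIndex N ∣ 2 * (S : Subgroup G).relIndex N := by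
    have h1 : d.baseG.relIndex (S : Subgroup G) = 2 := by
      rw [baseG, Subgroup.relIndex, Subgroup.subgroupOf,
        Subgroup.comap_map_eq_self_of_injective (S : Subgroup G).subtype_injective, d.index_base]
    refine dvd_trans ?_ (show d.baseG.relIndex (S : Subgroup G) * (S : Subgroup G).relIndex N ∣
      2 * (S : Subgroup G).relIndex N from Nat.mul_dvd_mul_right h1.dvd _)
    rw [Subgroup.relIndex_mul_relIndex d.baseG _ _ (Subgroup.map_subtype_le _) hS]
    refine Subgroup.relIndex_dvd_of_le_left _ fun v hv => Subgroup.mem_centralizer_iff.mpr fun w hw => ?_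
    obtain ⟨v, hv, rfl⟩ := hv
    obtain ⟨w, hw, rfl⟩ := hw
    exact congrArg (fun x : d.base => ((x : (S : Subgroup G)) : G))
      (d.isMulCommutative_base.is_comm.comm ⟨w, hw⟩ ⟨v, hv⟩)
  have ho : Odd ((S : Subgroup G).relIndex N) := by
    rw [← Nat.not_even_iff_odd, even_iff_two_dvd]
    exact fun h => S.not_dvd_index (h.trans (Subgroup.relIndex_dvd_index_of_le hS))
  have h6 := dvd_six_of (r := C.relIndex N) (a := a) (j := K.relIndex N)
    (by rw [← ha, Subgroup.relIndex_mul_relIndex _ _ _ hCK inf_le_left]) hj hro ho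
  obtain ⟨k, hk⟩ := IsPGroup.iff_orderOf.mp d.isPGroup d.z
  refine two_or_six (hn := hn) h6 (hS d.z.2) (fun hc => ?_) (k := k)
    (by rw [← Subgroup.coe_pow, ← hk, pow_orderOf_eq_one, Subgroup.coe_one])
  have hcm : d.z * d.u 1 0 = d.u 1 0 * d.z :=
    Subtype.ext (Subgroup.mem_centralizer_iff.mp hc _ (d.coe_mem_baseG.mpr (d.u_mem_base 1 0))).symm
  rw [d.z_mul_u, mul_left_inj, d.u_eq_iff] at hcm
  have := Int.le_of_dvd one_pos (by simpa using hcm.2)
  have := d.c_pos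
  omega

theorem exists_qz_of_map {e : ℤ} (φ : d.qz e →* (S : Subgroup G)) (hφ : Function.Injective φ) :
    ∃ e', φ.range = d.qz e' := by
  obtain ⟨Q, ⟨eQ⟩, hsup⟩ := d.qz_eq_sup e
  have hQ : Q ≤ d.qz e := hsup ▸ le_sup_left
  have hZ : Subgroup.center (S : Subgroup G) ≤ d.qz e := hsup ▸ le_sup_right
  have hna : ¬ IsMulCommutative φ.range := by
    intro hab
    have hw : d.u e (-e) * d.z ∈ d.qz e := d.uz_mem_qz.mpr ⟨0, by ring⟩
    have hc0 : d.u d.c 0 ∈ d.qz e := d.u_mem_qz.mpr (by simp)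
    have h1 := congrArg Subtype.val
      (hab.is_comm.comm ⟨φ ⟨_, hc0⟩, ⟨_, rfl⟩⟩ ⟨φ ⟨_, hw⟩, ⟨_, rfl⟩⟩)
    rw [Subgroup.coe_mul, Subgroup.coe_mul, ← map_mul, ← map_mul] at h1
    have h2 : Commute (d.u d.c 0) (d.u e (-e) * d.z) := congrArg Subtype.val (hφ h1)
    exact d.not_dvd_c (by simpa using d.commute_u_uz.mp h2)
  set Z' := ((Subgroup.center (S : Subgroup G)).subgroupOf (d.qz e)).map φ
  have hZle : Z' ≤ Subgroup.center (S : Subgroup G) := by
    rintro _ ⟨v, hv, rfl⟩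
    refine d.center_of_nonabelian φ.range hna ⟨⟨φ v, v, rfl⟩, Subgroup.mem_center_iff.mpr ?_, rfl⟩
    rintro ⟨_, w, rfl⟩
    refine Subtype.ext ?_
    rw [Subgroup.coe_mul, Subgroup.coe_mul, ← map_mul, ← map_mul]
    exact congrArg φ (Subtype.ext (Subgroup.mem_center_iff.mp hv (w : (S : Subgroup G))))
  have hZeq : Z' = Subgroup.center (S : Subgroup G) := by
    refine Subgroup.eq_of_le_of_card_ge hZle ?_
    rw [Subgroup.card_map_of_injective hφ, Nat.card_congr (Subgroup.subgroupOfEquivOfLe hZ).toEquiv]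
  let Q' := (Q.subgroupOf (d.qz e)).map φ
  have e' : Q' ≃* QuaternionGroup 2 :=
    ((Q.subgroupOf (d.qz e)).equivMapOfInjective φ hφ).symm.trans
      ((Subgroup.subgroupOfEquivOfLe hQ).trans eQ)
  obtain ⟨e₁, he₁⟩ := d.sup_center_eq_qz Q' e'
  refine ⟨e₁, ?_⟩
  rw [← he₁, ← hZeq, ← Subgroup.map_sup, ← Subgroup.subgroupOf_sup hQ hZ, ← hsup,
    Subgroup.subgroupOf_self, ← MonoidHom.range_eq_map]

theorem qz_sylow_dvd (e : ℤ) : ∃ o, Odd o ∧
    (d.qzG e).relIndex (Subgroup.normalizer (d.qzG e : Set G)) ∣ 2 * o := by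
  have : Fact (Nat.Prime 2) := ⟨Nat.prime_two⟩
  set E := d.qzG e with hE
  set N := Subgroup.normalizer (E : Set G)
  obtain ⟨T⟩ := (inferInstance : Nonempty (Sylow 2 N))
  have hEp : IsPGroup 2 (E.subgroupOf N) :=
    (S.2.to_le (Subgroup.map_subtype_le _)).comap_of_injective _ N.subtype_injective
  have hEn : (E.subgroupOf N).Normal := Subgroup.normal_subgroupOf_of_le_normalizer le_rfl
  have hET : E.subgroupOf N ≤ (T : Subgroup N) := hEp.le_sylow_of_normal T
  set TG := (T : Subgroup N).map N.subtype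
  have hETG : E ≤ TG := by
    intro v hv
    exact ⟨⟨v, Subgroup.le_normalizer hv⟩, hET hv, rfl⟩
  obtain ⟨P, hP⟩ := (T.2.map N.subtype : IsPGroup 2 TG).exists_le_sylow
  obtain ⟨g, hg⟩ := MulAction.exists_smul_eq G P S
  have hTS : TG.map (MulAut.conj g).toMonoidHom ≤ (S : Subgroup G) := by
    rw [← hg]; exact Subgroup.map_mono hP
  have hES' : E.map (MulAut.conj g).toMonoidHom ≤ (S : Subgroup G) := (Subgroup.map_mono hETG).trans hTS
  let φ : d.qz e →* (S : Subgroup G) :=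
    ((MulAut.conj g).toMonoidHom.comp ((S : Subgroup G).subtype.comp (d.qz e).subtype)).codRestrict _
      (fun v => hES' ⟨_, d.coe_mem_qzG.mpr v.2, rfl⟩)
  obtain ⟨e', he'⟩ := d.exists_qz_of_map φ (fun v w h => Subtype.ext (Subtype.ext
    ((MulAut.conj g).injective (congrArg Subtype.val h))))
  have hE' : E.map (MulAut.conj g).toMonoidHom = d.qzG e' := by
    rw [qzG, ← he']
    ext v
    constructor
    · rintro ⟨_, ⟨w, hw, rfl⟩, rfl⟩
      exact ⟨_, ⟨⟨w, hw⟩, rfl⟩, rfl⟩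
    · rintro ⟨_, ⟨w, rfl⟩, rfl⟩
      exact ⟨_, d.coe_mem_qzG.mpr w.2, rfl⟩
  have hTN : TG.map (MulAut.conj g).toMonoidHom ≤
      (Subgroup.normalizer (d.qz e' : Set (S : Subgroup G))).map (S : Subgroup G).subtype := by
    intro v hv
    refine ⟨⟨v, hTS hv⟩, ?_, rfl⟩
    obtain ⟨w, ⟨w', -, rfl⟩, rfl⟩ := hv
    have hn : MulAut.conj g (w' : G) ∈ Subgroup.normalizer (d.qzG e' : Set G) := by
      rw [← map_conj_eq_self_iff, ← hE', map_conj_mul, MulAut.conj_apply, inv_mul_cancel_right,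
        ← map_conj_mul, map_conj_eq_self_iff.mpr w'.2]
    have hm := (Subgroup.mem_subgroupOf (K := (S : Subgroup G)) (h := ⟨_, hTS ⟨_, ⟨w', ‹_›, rfl⟩, rfl⟩⟩)).mpr hn
    rw [qzG, Subgroup.subgroupOf_normalizer_eq (Subgroup.map_subtype_le _),
      Subgroup.subgroupOf, Subgroup.comap_map_eq_self_of_injective (S : Subgroup G).subtype_injective] at hm
    exact hm
  have hcard : Nat.card TG ≤ 2 * Nat.card E := by
    have h1 := Subgroup.card_le_of_le hTN
    rw [card_conj_map, Subgroup.card_map_of_injective (S : Subgroup G).subtype_injective] at h1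
    have h2 := Subgroup.card_mul_index
      ((d.qz e').subgroupOf (Subgroup.normalizer (d.qz e' : Set (S : Subgroup G))))
    rw [Nat.card_congr (Subgroup.subgroupOfEquivOfLe Subgroup.le_normalizer).toEquiv,
      ← Subgroup.relIndex, d.qz_relIndex e'] at h2
    have h3 : Nat.card E = Nat.card (d.qz e') := by
      rw [← card_conj_map g E, hE', qzG, Subgroup.card_map_of_injective (S : Subgroup G).subtype_injective]
    omega
  have hTGN : TG ≤ N := Subgroup.map_subtype_le _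
  have hmul := Subgroup.relIndex_mul_relIndex E TG N hETG hTGN
  refine ⟨TG.relIndex N, ?_, ?_⟩
  · rw [Subgroup.relIndex, Subgroup.subgroupOf,
      Subgroup.comap_map_eq_self_of_injective N.subtype_injective, ← Nat.not_even_iff_odd,
      even_iff_two_dvd]
    exact T.not_dvd_index
  · rw [← hmul]
    refine Nat.mul_dvd_mul_right ?_ _
    have h4 := Subgroup.card_mul_index (E.subgroupOf TG)
    rw [Nat.card_congr (Subgroup.subgroupOfEquivOfLe hETG).toEquiv, ← Subgroup.relIndex] at h4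
    have hpos : 0 < Nat.card E := Nat.card_pos
    have hle : E.relIndex TG ≤ 2 := by
      refine Nat.le_of_mul_le_mul_left ?_ hpos
      rw [h4]; linarith
    have hne : E.relIndex TG ≠ 0 := Subgroup.index_ne_zero_of_finite
    interval_cases E.relIndex TG <;> omega

theorem qz_cosets {e : ℤ} {v : (S : Subgroup G)} (hv : v ∈ d.qz e) (hv' : ¬ ∃ t, v = d.u t t) :
    ∃ (i : Fin 3) (t : ℤ),
      v = ![d.u d.c 0, d.u e (-e) * d.z, d.u e (-e) * d.z * d.u d.c 0] i * d.u t t := by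
  obtain ⟨p, r, ⟨⟨k, hk⟩, rfl⟩ | ⟨⟨k, hk⟩, rfl⟩⟩ := hv
  · rcases Int.even_or_odd' k with ⟨l, rfl | rfl⟩
    · exact absurd ⟨p, d.u_eq_iff.mpr ⟨by simp, -l, by linarith⟩⟩ hv'
    · refine ⟨0, r, ?_⟩
      show _ = d.u d.c 0 * d.u r r
      rw [d.u_mul_u, zero_add, d.u_eq_iff]
      exact ⟨⟨l, by linarith⟩, by simp⟩
  · rcases Int.even_or_odd' k with ⟨l, rfl | rfl⟩
    · refine ⟨1, r + e, ?_⟩
      show _ = d.u e (-e) * d.z * d.u (r + e) (r + e)
      rw [d.uz_mul_u, mul_left_inj, d.u_eq_iff]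
      exact ⟨⟨l, by linarith⟩, ⟨0, by ring⟩⟩
    · refine ⟨2, r + e - d.c, ?_⟩
      show _ = d.u e (-e) * d.z * d.u d.c 0 * d.u (r + e - d.c) (r + e - d.c)
      rw [d.uz_mul_u, d.uz_mul_u, mul_left_inj, d.u_eq_iff]
      exact ⟨⟨l + 1, by linarith⟩, ⟨0, by ring⟩⟩

theorem qz_index_cases (e : ℤ) :
    (d.qzG e ⊔ Subgroup.centralizer (d.qzG e : Set G)).relIndex
      (Subgroup.normalizer (d.qzG e : Set G)) = 2 ∨
    (d.qzG e ⊔ Subgroup.centralizer (d.qzG e : Set G)).relIndex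
      (Subgroup.normalizer (d.qzG e : Set G)) = 6 := by
  classical
  set E := d.qzG e with hEdef
  set N := Subgroup.normalizer (E : Set G) with hN
  set EC := E ⊔ Subgroup.centralizer (E : Set G) with hEC
  set A := (d.qz e ⊓ d.base).map (S : Subgroup G).subtype with hA
  set K := N ⊓ Subgroup.normalizer (A : Set G) with hK
  have hn : (EC.subgroupOf N).Normal := sup_centralizer_normal _
  have hECN : EC ≤ N := sup_le Subgroup.le_normalizer (Subgroup.centralizer_le_normalizer _)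
  have hECK : EC ≤ K := by
    refine le_inf hECN (sup_le ?_ fun c hc => Subgroup.mem_normalizer_fintype ?_)
    · rintro _ ⟨v, hv, rfl⟩
      exact QD.conj_mem_map fun w hw => Subgroup.mem_inf.mpr
        ⟨mul_mem (mul_mem hv hw.1) (inv_mem hv), d.base_normal.conj_mem w hw.2 v⟩
    · rintro _ ⟨w, hw, rfl⟩
      show c * (w : G) * c⁻¹ ∈ A
      rw [← Subgroup.mem_centralizer_iff.mp hc _ (d.coe_mem_qzG.mpr hw.1), mul_inv_cancel_right]
      exact ⟨w, hw, rfl⟩
  have hn' : (EC.subgroupOf K).Normal :=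
    Subgroup.normal_subgroupOf_of_le_normalizer (inf_le_left.trans
      ((Subgroup.normal_subgroupOf_iff_le_normalizer hECN).mp hn))
  have hc0 : d.u d.c 0 ∈ d.qz e := d.u_mem_qz.mpr (by simp)
  obtain ⟨a, ha⟩ := relIndex_two_pow (hn := hn') fun g hg hodd => by
    obtain ⟨w, hw, he⟩ := (Subgroup.mem_normalizer_iff.mp (Subgroup.mem_inf.mp hg).2 _).mp
      (Subgroup.mem_map_of_mem (S : Subgroup G).subtype
        (Subgroup.mem_inf.mpr ⟨hc0, d.u_mem_base d.c 0⟩))
    exact Subgroup.mem_sup_right (d.qz_centralize (Subgroup.mem_inf.mp hg).1 hodd hw.1 hw.2 he)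
  have hj : K.relIndex N ≤ 3 := by
    have hclass : ∀ x : N, ∃ (i : Fin 3) (t : ℤ),
        (x : G) * (d.u d.c 0 : G) * (x : G)⁻¹ =
          ((![d.u d.c 0, d.u e (-e) * d.z, d.u e (-e) * d.z * d.u d.c 0] i * d.u t t :
            (S : Subgroup G)) : G) := by
      intro x
      obtain ⟨w, hw, he⟩ := d.qz_conj_mem x.2 hc0
      obtain ⟨i, t, hit⟩ := d.qz_cosets hw (fun ⟨t, ht⟩ => by
        subst ht
        obtain ⟨t', ht'⟩ := d.qz_diag_mem (inv_mem x.2) t
        rw [he] at ht'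
        have : d.u t' t' = d.u d.c 0 := Subtype.ext (by rw [ht']; group)
        obtain ⟨⟨p, hp⟩, ⟨r, hr⟩⟩ := d.u_eq_iff.mp this
        exact d.not_dvd_c ⟨r - p, by linarith⟩)
      exact ⟨i, t, by rw [← he, hit]⟩
    choose f t hf using hclass
    rw [Subgroup.relIndex, Subgroup.index_eq_card]
    refine (Nat.card_le_card_of_injective (fun x : N ⧸ K.subgroupOf N => f x.out) fun x y hxy => ?_).trans
      (by simp)
    rw [← x.out_eq, ← y.out_eq]
    refine QuotientGroup.eq.mpr (Subgroup.mem_subgroupOf.mpr ?_)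
    have hxy' : f x.out = f y.out := hxy
    set g := x.out
    set g' := y.out
    have hk : ((g⁻¹ * g' : N) : G) ∈ N := SetLike.coe_mem _
    refine Subgroup.mem_inf.mpr ⟨hk, ?_⟩
    set k : G := ((g⁻¹ * g' : N) : G) with hkdef
    obtain ⟨r, hr⟩ := d.qz_diag_mem (inv_mem g.2) (t g' - t g)
    have hku : k * (d.u d.c 0 : G) * k⁻¹ = ((d.u d.c 0 * d.u r r : (S : Subgroup G)) : G) := by
      have h1 : k * (d.u d.c 0 : G) * k⁻¹ = (g : G)⁻¹ * ((g' : G) * (d.u d.c 0 : G) * (g' : G)⁻¹) * g := by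
        rw [hkdef, Subgroup.coe_mul, Subgroup.coe_inv]; group
      rw [h1, hf g', ← hxy', Subgroup.coe_mul, Subgroup.coe_mul, hr]
      have h2 := hf g
      rw [Subgroup.coe_mul] at h2
      have h3 : (d.u (t g') (t g') : G) = (d.u (t g) (t g) : G) * (d.u (t g' - t g) (t g' - t g) : G) := by
        rw [← Subgroup.coe_mul, d.u_mul_u, add_sub_cancel]
      rw [h3, ← mul_assoc (_ : G) (d.u (t g) (t g) : G), ← h2]
      group
    refine Subgroup.mem_normalizer_fintype ?_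
    rintro _ ⟨v, hv, rfl⟩
    obtain ⟨p, q, rfl⟩ := hv.2
    obtain ⟨l, hl⟩ := d.u_mem_qz.mp hv.1
    obtain ⟨r', hr'⟩ := d.qz_diag_mem hk q
    refine ⟨(d.u d.c 0 * d.u r r) ^ l * d.u r' r', Subgroup.mem_inf.mpr ⟨?_, ?_⟩, ?_⟩
    · exact mul_mem (zpow_mem (mul_mem hc0 (d.u_mem_qz.mpr (by simp))) l) (d.u_mem_qz.mpr (by simp))
    · exact mul_mem (zpow_mem (mul_mem (d.u_mem_base _ _) (d.u_mem_base _ _)) l) (d.u_mem_base _ _)
    · show (((d.u d.c 0 * d.u r r) ^ l * d.u r' r' : (S : Subgroup G)) : G) = k * (d.u p q : G) * k⁻¹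
      have e3 : d.u p q = d.u d.c 0 ^ l * d.u q q := by
        rw [d.u_zpow, d.u_mul_u, d.u_eq_iff]
        exact ⟨⟨0, by linarith⟩, ⟨0, by ring⟩⟩
      rw [e3, Subgroup.coe_mul, Subgroup.coe_zpow, ← hku, Subgroup.coe_mul, Subgroup.coe_zpow,
        ← conj_mul, ← conj_zpow, hr']
  have hj6 : K.relIndex N ∣ 6 := by
    have : K.relIndex N ≠ 0 := Subgroup.index_ne_zero_of_finite
    interval_cases K.relIndex N <;> omega
  obtain ⟨o, ho, hEo⟩ := d.qz_sylow_dvd e
  have hro : EC.relIndex N ∣ 2 * o :=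
    (Subgroup.relIndex_dvd_of_le_left _ le_sup_left).trans hEo
  have h6 := dvd_six_of (r := EC.relIndex N) (a := a) (j := K.relIndex N)
    (by rw [← ha, Subgroup.relIndex_mul_relIndex _ _ _ hECK inf_le_left]) hj6 hro ho
  obtain ⟨q, hq, hc⟩ := d.exists_quarter
  obtain ⟨k, hk⟩ := IsPGroup.iff_orderOf.mp d.isPGroup (d.u q 0)
  exact two_or_six (hn := hn) h6 (QD.conj_mem_map fun v hv => d.conj_q_qz hc hv) (d.u_q_notMem hc)
    (k := k) (by rw [← Subgroup.coe_pow, ← hk, pow_orderOf_eq_one, Subgroup.coe_one])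

end WR

end CfsgLib.SmallTwo
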