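import Cfsg.Agent.Lib.SmallTwo.WRResults

/-!
Wreathed Sylow 2-subgroups: the quaternion fusion type.
-/

set_option autoImplicit false

namespace CfsgLib.SmallTwo.WR

open CfsgLib.Transfer

section Intrinsic

variable {S : Type*} [Group S] [Finite S] {n : ℕ} (d : WR S n)

theorem u_mem_quat {a b : ℤ} : d.u a b ∈ d.quat ↔ 2 * d.c ∣ a + b := by
  refine ⟨?_, fun h => ⟨a, b, Or.inl ⟨h, rfl⟩⟩⟩
  rintro ⟨i, j, ⟨h, he⟩ | ⟨h, he⟩⟩
  · obtain ⟨⟨p, hp⟩, ⟨r, hr⟩⟩ := d.u_eq_iff.mp he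
    obtain ⟨k, hk⟩ := h
    exact ⟨k + p + r, by linarith⟩
  · exact absurd he (d.u_ne_uz _ _ _ _)

theorem uz_mem_quat {a b : ℤ} : d.u a b * d.z ∈ d.quat ↔ 2 * d.c ∣ a + b - d.c := by
  refine ⟨?_, fun h => ⟨a, b, Or.inr ⟨h, rfl⟩⟩⟩
  rintro ⟨i, j, ⟨h, he⟩ | ⟨h, he⟩⟩
  · exact absurd he.symm (d.u_ne_uz _ _ _ _)
  · obtain ⟨⟨p, hp⟩, ⟨r, hr⟩⟩ := d.u_eq_iff.mp (mul_right_cancel he)
    obtain ⟨k, hk⟩ := h
    exact ⟨k + p + r, by linarith⟩

theorem quat_relIndex : d.quat.index = 2 ^ n := by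
  have h := Subgroup.card_mul_index d.quat
  rw [d.card_quat, d.card, show 2 ^ (2 * n + 1) = 2 ^ (n + 1) * 2 ^ n by rw [← pow_add]; ring_nf] at h
  exact Nat.eq_of_mul_eq_mul_left (by positivity) h

theorem commutator_mem_quat (a s : S) : a⁻¹ * (s * a * s⁻¹) ∈ d.quat := by
  have h : a⁻¹ * (s * a * s⁻¹) ∈ commutator S := by
    have := Subgroup.commutator_mem_commutator (Subgroup.mem_top a⁻¹) (Subgroup.mem_top s)
    rw [commutatorElement_def, inv_inv] at this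
    rwa [show a⁻¹ * (s * a * s⁻¹) = a⁻¹ * s * a * s⁻¹ by group]
  rw [d.commutator_eq] at h
  exact Subgroup.zpowers_le.mpr (d.u_mem_quat.mpr (by simp)) h

/-- A noncentral element of `qz e` is determined modulo `quat` by its square. -/
theorem qz_class {e : ℤ} {a b : S} (ha : a ∈ d.qz e) (hb : b ∈ d.qz e)
    (ha' : ¬ ∃ t, a = d.u t t) (hb' : ¬ ∃ t, b = d.u t t) (hab : a * a = b * b) :
    a⁻¹ * b ∈ d.quat := by
  have key : ∀ v ∈ d.qz e, (¬ ∃ t, v = d.u t t) →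
      ∃ σ : ℤ, v * v = d.u (σ + d.c) (σ + d.c) ∧ (d.u σ 0)⁻¹ * v ∈ d.quat := by
    rintro _ ⟨p, r, ⟨⟨k, hk⟩, rfl⟩ | ⟨⟨k, hk⟩, rfl⟩⟩ hv
    · obtain ⟨l, rfl⟩ : Odd k := by
        refine Int.not_even_iff_odd.mp fun ⟨l, hl⟩ => hv ⟨p, d.u_eq_iff.mpr ⟨by simp, -l, ?_⟩⟩
        rw [hl] at hk; linarith
      refine ⟨p + r, ?_, ?_⟩
      · rw [d.u_mul_u, d.u_eq_iff]
        exact ⟨⟨l, by linarith⟩, ⟨-l - 1, by linarith⟩⟩
      · rw [d.u_inv, d.u_mul_u, d.u_mem_quat]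
        exact ⟨0, by ring⟩
    · refine ⟨p + r + d.c, ?_, ?_⟩
      · rw [d.uz_mul_uz, d.u_eq_iff]
        exact ⟨⟨-1, by ring⟩, ⟨-1, by ring⟩⟩
      · rw [d.u_inv, d.u_mul_uz, d.uz_mem_quat]
        exact ⟨-1, by ring⟩
  obtain ⟨σ, hσ, hσ'⟩ := key a ha ha'
  obtain ⟨τ, hτ, hτ'⟩ := key b hb hb'
  rw [hσ, hτ, d.u_eq_iff] at hab
  have e0 : d.u σ 0 = d.u τ 0 := d.u_eq_iff.mpr ⟨by simpa using hab.1, by simp⟩
  have := mul_mem (inv_mem hσ') (e0 ▸ hτ' : (d.u σ 0)⁻¹ * b ∈ d.quat)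
  rwa [show ((d.u σ 0)⁻¹ * a)⁻¹ * ((d.u σ 0)⁻¹ * b) = a⁻¹ * b by group] at this

/-- The part of `quat ⊓ qz e` inside the base is cyclic of order four. -/
theorem quat_qz_base {e q a b : ℤ} (hc : d.c = 2 * q) (h1 : d.u a b ∈ d.quat) (h2 : d.u a b ∈ d.qz e) :
    ∃ k : ℤ, d.u a b = d.u q (-q) ^ k := by
  obtain ⟨l, hl⟩ := d.u_mem_quat.mp h1
  obtain ⟨k, hk⟩ := d.u_mem_qz.mp h2
  refine ⟨k + 2 * l, ?_⟩
  rw [d.u_zpow, d.u_eq_iff]
  have h3 : 2 * a = 2 * ((k + 2 * l) * q) := by linear_combination hl + hk + (k + 2 * l) * hc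
  exact ⟨⟨0, by linarith⟩, ⟨l, by linarith⟩⟩

/-- Generators of `quat`. -/
theorem quat_le {L : Subgroup S} (h : ∀ e : ℤ, d.u e (d.c - e) * d.z ∈ L) : d.quat ≤ L := by
  have h1 : d.u 1 (-1) ∈ L := by
    have := mul_mem (h 1) (inv_mem (h 0))
    rw [d.uz_inv, d.uz_mul_uz] at this
    rwa [show (1 : ℤ) + -0 = 1 by ring, show d.c - 1 + -(d.c - 0) = -1 by ring] at this
  rintro g ⟨i, j, ⟨⟨p, hp⟩, rfl⟩ | ⟨⟨p, hp⟩, rfl⟩⟩
  · rw [show d.u i j = d.u 1 (-1) ^ i by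
      rw [d.u_zpow, d.u_eq_iff]; exact ⟨⟨0, by ring⟩, ⟨p, by linarith⟩⟩]
    exact zpow_mem h1 i
  · rw [show d.u i j * d.z = d.u i (d.c - i) * d.z by
      rw [mul_left_inj, d.u_eq_iff]; exact ⟨⟨0, by ring⟩, ⟨p, by linarith⟩⟩]
    exact h i

end Intrinsic

variable {G : Type*} [Group G] [Finite G] {S : Sylow 2 G} {n : ℕ} (d : WR (S : Subgroup G) n)

/-- All of the normalizer of `qz e` centralizes the centre when the local index is six. -/
theorem qz_fix_all {e : ℤ}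
    (h : (d.qzG e ⊔ Subgroup.centralizer (d.qzG e : Set G)).relIndex
      (Subgroup.normalizer (d.qzG e : Set G)) = 6)
    {m : G} (hm : m ∈ Subgroup.normalizer (d.qzG e : Set G)) (t : ℤ) :
    m * (d.u t t : G) * m⁻¹ = d.u t t := by
  set N := Subgroup.normalizer (d.qzG e : Set G)
  set EC := d.qzG e ⊔ Subgroup.centralizer (d.qzG e : Set G) with hEC
  set K' := N ⊓ Subgroup.centralizer ({(d.u 1 1 : G)} : Set G)
  have hcen : ∀ (v : (S : Subgroup G)) (r : ℤ), (v : G) * (d.u r r : G) = (d.u r r : G) * v := fun v r => by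
    rw [← Subgroup.coe_mul, ← Subgroup.coe_mul,
      Subgroup.mem_center_iff.mp (d.mem_center_iff.mpr ⟨r, rfl⟩) v]
  have hECN : EC ≤ N := sup_le Subgroup.le_normalizer (Subgroup.centralizer_le_normalizer _)
  have hECK : EC ≤ K' := by
    refine le_inf hECN (sup_le ?_ ?_)
    · rintro _ ⟨v, -, rfl⟩
      exact Subgroup.mem_centralizer_singleton_iff.mpr (hcen v 1)
    · intro c hc
      exact Subgroup.mem_centralizer_singleton_iff.mpr
        (Subgroup.mem_centralizer_iff.mp hc _ (d.coe_mem_qzG.mpr (d.u_mem_qz.mpr (by simp)))).symm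
  have hn : (EC.subgroupOf N).Normal := sup_centralizer_normal _
  have hn' : (EC.subgroupOf K').Normal :=
    Subgroup.normal_subgroupOf_of_le_normalizer (inf_le_left.trans
      ((Subgroup.normal_subgroupOf_iff_le_normalizer hECN).mp hn))
  have hmul : EC.relIndex K' * K'.relIndex N = 6 :=
    (Subgroup.relIndex_mul_relIndex _ _ _ hECK inf_le_left).trans h
  obtain ⟨g, hg, hodd, hgEC⟩ := exists_odd_notMem h
  have hgK : g ∈ K' := Subgroup.mem_inf.mpr ⟨hg, Subgroup.mem_centralizer_singleton_iff.mpr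
    (mul_inv_eq_iff_eq_mul.mp (d.qz_fix_diag hg hodd 1))⟩
  obtain ⟨q, hq, hc⟩ := d.exists_quarter
  have hsK : (d.u q 0 : G) ∈ K' := Subgroup.mem_inf.mpr
    ⟨QD.conj_mem_map fun v hv => d.conj_q_qz hc hv, Subgroup.mem_centralizer_singleton_iff.mpr (hcen _ 1)⟩
  obtain ⟨k, hk⟩ := IsPGroup.iff_orderOf.mp d.isPGroup (d.u q 0)
  rcases two_or_six (hn := hn') (Dvd.intro _ hmul) hsK (d.u_q_notMem hc) (k := k)
    (by rw [← Subgroup.coe_pow, ← hk, pow_orderOf_eq_one, Subgroup.coe_one]) with h2 | h6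
  · exfalso
    have hsq : g * g ∈ EC :=
      Subgroup.mul_self_mem_of_index_two (H := EC.subgroupOf K') h2 ⟨g, hgK⟩
    obtain ⟨r, hr⟩ := hodd
    refine hgEC ?_
    have := pow_mem hsq (r + 1)
    rwa [← pow_two, ← pow_mul, show 2 * (r + 1) = orderOf g + 1 by omega, pow_succ, pow_orderOf_eq_one,
      one_mul] at this
  · have h1 : K'.relIndex N = 1 := by rw [h6] at hmul; omega
    have hmK := (Subgroup.mem_inf.mp (Subgroup.relIndex_eq_one.mp h1 hm)).2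
    have e1 : d.u t t = d.u 1 1 ^ t := by rw [d.u_zpow, mul_one]
    rw [e1, Subgroup.coe_zpow, ← conj_zpow,
      mul_inv_eq_iff_eq_mul.mpr (Subgroup.mem_centralizer_singleton_iff.mp hmK)]

theorem qz_six {e₀ : ℤ}
    (h : (d.qzG e₀ ⊔ Subgroup.centralizer (d.qzG e₀ : Set G)).relIndex
      (Subgroup.normalizer (d.qzG e₀ : Set G)) = 6) (e : ℤ) :
    (d.qzG e ⊔ Subgroup.centralizer (d.qzG e : Set G)).relIndex
      (Subgroup.normalizer (d.qzG e : Set G)) = 6 := by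
  obtain ⟨s, -, hs⟩ := d.qzG_conj e₀ e
  set f := (MulAut.conj s).toMonoidHom
  have hinj : Function.Injective f := (MulAut.conj s).injective
  have hN : (Subgroup.normalizer (d.qzG e₀ : Set G)).map f = Subgroup.normalizer (d.qzG e : Set G) := by
    rw [← hs]; exact Subgroup.map_equiv_normalizer_eq _ (MulAut.conj s)
  have hC : (Subgroup.centralizer (d.qzG e₀ : Set G)).map f =
      Subgroup.centralizer (d.qzG e : Set G) := by
    rw [← hs]
    ext g
    constructor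
    · rintro ⟨c, hc, rfl⟩
      refine Subgroup.mem_centralizer_iff.mpr ?_
      rintro _ ⟨a, ha, rfl⟩
      show f a * f c = f c * f a
      rw [← map_mul, ← map_mul, Subgroup.mem_centralizer_iff.mp hc a ha]
    · intro hg
      refine ⟨(MulAut.conj s).symm g, Subgroup.mem_centralizer_iff.mpr fun a ha => hinj ?_,
        MulEquiv.apply_symm_apply _ _⟩
      rw [map_mul, map_mul, show f ((MulAut.conj s).symm g) = g from MulEquiv.apply_symm_apply _ _]
      exact Subgroup.mem_centralizer_iff.mp hg _ ⟨a, ha, rfl⟩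
  rw [← hN, ← hC, ← hs, ← Subgroup.map_sup, Subgroup.relIndex_map_map_of_injective _ _ hinj, h]

/-- Fusion preserves cosets of `quat`. -/
theorem quat_invariant (hB : ActsLike (S : Subgroup G) d.baseG)
    (hE : ∀ e, (d.qzG e ⊔ Subgroup.centralizer (d.qzG e : Set G)).relIndex
      (Subgroup.normalizer (d.qzG e : Set G)) = 6) {a g : G}
    (ha : a ∈ (S : Subgroup G)) (hg : g * a * g⁻¹ ∈ (S : Subgroup G)) :
    a⁻¹ * (g * a * g⁻¹) ∈ d.quat.map (S : Subgroup G).subtype := by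
  set M := d.quat.map (S : Subgroup G).subtype with hM
  have hS : ∀ b ∈ (S : Subgroup G), ∀ s ∈ (S : Subgroup G), b⁻¹ * (s * b * s⁻¹) ∈ M := by
    intro b hb s hs
    exact ⟨_, d.commutator_mem_quat ⟨b, hb⟩ ⟨s, hs⟩, rfl⟩
  refine d.fusion (fun u v => u⁻¹ * v ∈ M) (fun u => by rw [inv_mul_cancel]; exact one_mem _)
    (fun u v w h1 h2 => by
      have := mul_mem h1 h2
      rwa [mul_assoc, mul_inv_cancel_left] at this) hS
    (fun m hm b hb => ?_) (fun e m hm b hb => ?_) ha hg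
  · obtain ⟨s, hs, he⟩ := hB m hm
    rw [he b hb]
    exact hS b (Subgroup.map_subtype_le _ hb) s hs
  · obtain ⟨v, hv, rfl⟩ := hb
    have hfix : ∀ {x : G}, x ∈ Subgroup.normalizer (d.qzG e : Set G) →
        ∀ t, x * (d.u t t : G) * x⁻¹ = d.u t t := fun hx t => d.qz_fix_all (hE e) hx t
    by_cases hd : ∃ t, v = d.u t t
    · obtain ⟨t, rfl⟩ := hd
      have := hfix hm t
      show (d.u t t : G)⁻¹ * (m * (d.u t t : G) * m⁻¹) ∈ M
      rw [this, inv_mul_cancel]; exact one_mem _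
    · obtain ⟨w, hw, hwe⟩ := d.qz_conj_mem hm hv
      show (v : G)⁻¹ * (m * (v : G) * m⁻¹) ∈ M
      rw [← hwe]
      have hw' : ¬ ∃ t, w = d.u t t := by
        rintro ⟨t, rfl⟩
        refine hd ⟨t, Subtype.ext ?_⟩
        have h1 := hfix (inv_mem hm) t
        rw [hwe] at h1
        rw [hwe, ← h1]; group
      have hsq : v * v = w * w := by
        obtain ⟨t, ht⟩ : ∃ t, v * v = d.u t t := by
          obtain ⟨p, r, ⟨⟨k, hk⟩, rfl⟩ | ⟨-, rfl⟩⟩ := hv
          · exact ⟨2 * p, by rw [d.u_mul_u, d.u_eq_iff]; exact ⟨⟨0, by ring⟩, ⟨-k, by linarith⟩⟩⟩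
          · exact ⟨p + r, by rw [d.uz_mul_uz, d.u_eq_iff]; exact ⟨⟨0, by ring⟩, ⟨0, by ring⟩⟩⟩
        refine Subtype.ext ?_
        rw [Subgroup.coe_mul, Subgroup.coe_mul, hwe, conj_mul, ← Subgroup.coe_mul, ht, hfix hm t]
      exact ⟨_, d.qz_class hv hw hd hw' hsq, rfl⟩

/-- Every element of `Z(S)` is fixed by fusion in the quaternion type. -/
theorem center_fixed (hB : ActsLike (S : Subgroup G) d.baseG)
    (hE : ∀ e, (d.qzG e ⊔ Subgroup.centralizer (d.qzG e : Set G)).relIndex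
      (Subgroup.normalizer (d.qzG e : Set G)) = 6) {t : ℤ} {g : G}
    (hg : g * (d.u t t : G) * g⁻¹ ∈ (S : Subgroup G)) : g * (d.u t t : G) * g⁻¹ = d.u t t := by
  have hS : ∀ (r : ℤ), ∀ s ∈ (S : Subgroup G), s * (d.u r r : G) * s⁻¹ = d.u r r := fun r s hs => by
    exact mul_inv_eq_iff_eq_mul.mpr (congrArg Subtype.val
      (Subgroup.mem_center_iff.mp (d.mem_center_iff.mpr ⟨r, rfl⟩) ⟨s, hs⟩))
  refine (d.fusion (fun u v => ∀ r : ℤ, u = (d.u r r : G) → v = u) (fun u _ _ => rfl)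
    (fun u v w h1 h2 r hr => (h2 r ((h1 r hr).trans hr)).trans (h1 r hr))
    (fun b _ s hs r hr => by rw [hr]; exact hS r s hs)
    (fun m hm b hb r hr => ?_) (fun e m hm b hb r hr => by rw [hr]; exact d.qz_fix_all (hE e) hm r)
    (d.u t t).2 hg) t rfl
  obtain ⟨s, hs, he⟩ := hB m hm
  rw [he b hb, hr]
  exact hS r s hs

theorem quat_le_of_movers
    (hB : ActsLike (S : Subgroup G) d.baseG)
    (hE : ∀ e, (d.qzG e ⊔ Subgroup.centralizer (d.qzG e : Set G)).relIndex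
      (Subgroup.normalizer (d.qzG e : Set G)) = 6)
    {L : Subgroup (S : Subgroup G)}
    (hmul : ∀ a ∈ d.quat, ∀ b ∈ d.quat, (a * b ∈ L ↔ (a ∈ L ↔ b ∈ L)))
    (hconj : ∀ a ∈ d.quat, ∀ b ∈ d.quat, OddConj (a : G) (b : G) → (a ∈ L ↔ b ∈ L)) :
    d.quat ≤ L := by
  refine d.quat_le fun e => ?_
  have : ((d.qzG e ⊔ Subgroup.centralizer (d.qzG e : Set G)).subgroupOf
      (Subgroup.normalizer (d.qzG e : Set G))).Normal := sup_centralizer_normal _
  obtain ⟨g, hg, hodd, hgEC⟩ := exists_odd_notMem (hE e)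
  have hgC : g ∉ Subgroup.centralizer (d.qzG e : Set G) := fun h => hgEC (Subgroup.mem_sup_right h)
  obtain ⟨q, hq, hc⟩ := d.exists_quarter
  have hinv : ∀ {a b : (S : Subgroup G)} {x : G}, a ∈ d.quat → (b : G) = x * (a : G) * x⁻¹ → b ∈ d.quat := by
    intro a b x ha hb
    obtain ⟨w, hw, he⟩ := d.quat_invariant hB hE a.2 (g := x) (hb ▸ b.2)
    have : b = a * w := Subtype.ext (by
      rw [Subgroup.coe_mul, show (w : G) = _ from he, mul_inv_cancel_left]; exact hb)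
    exact this ▸ mul_mem ha hw
  set v := d.u q (-q) with hv
  have hvq : v ∈ d.quat := d.u_mem_quat.mpr (by simp)
  have hvE : v ∈ d.qz e := d.u_mem_qz.mpr ⟨1, by linarith⟩
  obtain ⟨w₁, hw₁E, hw₁⟩ := d.qz_conj_mem hg hvE
  have hw₁q : w₁ ∈ d.quat := hinv hvq hw₁
  -- `g` moves `v` out of the base
  have hout : ∀ (x : G), x ∈ Subgroup.normalizer (d.qzG e : Set G) → Odd (orderOf x) →
      x ∉ Subgroup.centralizer (d.qzG e : Set G) →
      ∀ w : (S : Subgroup G), (w : G) = x * (v : G) * x⁻¹ → w ∉ d.base := by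
    intro x hx hxo hxC w hw hwb
    obtain ⟨w', hw'E, hw'b, hw'⟩ := d.qz_mover_out hx hxo hxC
    have e1 : v = d.u d.c 0 * d.u (-q) (-q) := by
      rw [hv, d.u_mul_u]
      congr 1 <;> linarith
    have e2 : w = w' * d.u (-q) (-q) := Subtype.ext (by
      rw [hw, e1, Subgroup.coe_mul, Subgroup.coe_mul, hw', ← conj_mul, d.qz_fix_all (hE e) hx (-q)])
    rw [e2, d.base.mul_mem_cancel_right (d.u_mem_base _ _)] at hwb
    exact hw'b hwb
  have hw₁b : w₁ ∉ d.base := hout g hg hodd hgC w₁ hw₁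
  have hstat : v ∈ L ↔ w₁ ∈ L := hconj _ hvq _ hw₁q ⟨g, hodd, hw₁.symm⟩
  set x := v * w₁
  have hxq : x ∈ d.quat := mul_mem hvq hw₁q
  have hxL : x ∈ L := (hmul _ hvq _ hw₁q).mpr hstat
  obtain ⟨w₂, hw₂E, hw₂⟩ := d.qz_conj_mem hg (mul_mem hvE hw₁E : x ∈ d.qz e)
  have hw₂q : w₂ ∈ d.quat := hinv hxq hw₂
  have hw₂L : w₂ ∈ L := (hconj _ hxq _ hw₂q ⟨g, hodd, hw₂.symm⟩).mp hxL
  have hxb : x ∉ d.base := fun h => hw₁b (by
    have := mul_mem (inv_mem (d.u_mem_base q (-q))) h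
    rwa [inv_mul_cancel_left] at this)
  have hζ : v ^ (2 : ℤ) ∈ L := by
    rw [show v ^ (2 : ℤ) = v * v by rw [zpow_two]]
    exact (hmul _ hvq _ hvq).mpr Iff.rfl
  have hvL : v ∈ L := by
    by_contra hvL
    -- an element of `⟨v⟩ ∩ L` is central
    have hcenL : ∀ y ∈ d.base, y ∈ d.quat → y ∈ d.qz e → y ∈ L → ∃ t, y = d.u t t := by
      rintro _ ⟨a, b, rfl⟩ hyq hyE hyL
      obtain ⟨k, hk⟩ := d.quat_qz_base hc hyq hyE
      rcases Int.even_or_odd' k with ⟨l, rfl | rfl⟩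
      · refine ⟨2 * l * q, ?_⟩
        rw [hk, d.u_zpow, d.u_eq_iff]
        exact ⟨⟨0, by ring⟩, ⟨-l, by linear_combination (2 * l) * hc⟩⟩
      · exfalso
        refine hvL ?_
        have h1 : v ^ (2 * l) ∈ L := by rw [zpow_mul]; exact zpow_mem hζ l
        have := mul_mem (inv_mem h1) (hk ▸ hyL)
        rwa [← hv, zpow_add, zpow_one, inv_mul_cancel_left] at this
    by_cases hw₂b : w₂ ∈ d.base
    · obtain ⟨t, rfl⟩ := hcenL _ hw₂b hw₂q hw₂E hw₂L
      refine hxb ?_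
      have : x = d.u t t := Subtype.ext (by
        calc (x : G) = g⁻¹ * (g * (x : G) * g⁻¹) * g⁻¹⁻¹ := by group
          _ = g⁻¹ * (d.u t t : G) * g⁻¹⁻¹ := by rw [← hw₂]
          _ = _ := d.qz_fix_all (hE e) (inv_mem hg) t)
      exact this ▸ d.u_mem_base t t
    · have hyb : x⁻¹ * w₂ ∈ d.base := by
        rw [Subgroup.mul_mem_iff_of_index_two d.index_base, Subgroup.inv_mem_iff]
        exact iff_of_false hxb hw₂b
      obtain ⟨t, ht⟩ := hcenL _ hyb (mul_mem (inv_mem hxq) hw₂q)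
        (mul_mem (inv_mem (mul_mem hvE hw₁E)) hw₂E) (mul_mem (inv_mem hxL) hw₂L)
      -- so `g` fixes `x`, and `g * g` maps `v` back into the base
      obtain ⟨k, hk⟩ := IsPGroup.iff_orderOf.mp d.isPGroup (d.u t t)
      have hfixx : g * (x : G) * g⁻¹ = x := by
        refine fix_step hodd (d.qz_fix_all (hE e) hg t) (k := k) ?_ ?_
        · rw [← Subgroup.coe_pow, ← hk, pow_orderOf_eq_one, Subgroup.coe_one]
        · rw [← hw₂, ← Subgroup.coe_mul, ← ht, mul_inv_cancel_left]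
      set y : (S : Subgroup G) := w₁⁻¹ * v * w₁
      have hy : (y : G) = g * g * (v : G) * (g * g)⁻¹ := by
        have h1 : (g * (v : G) * g⁻¹) * (g * (w₁ : G) * g⁻¹) = (v : G) * (w₁ : G) := by
          rw [conj_mul]; exact hfixx
        rw [← hw₁] at h1
        show ((w₁⁻¹ * v * w₁ : (S : Subgroup G)) : G) = _
        rw [Subgroup.coe_mul, Subgroup.coe_mul, Subgroup.coe_inv]
        calc (w₁ : G)⁻¹ * v * w₁ = (w₁ : G)⁻¹ * ((w₁ : G) * (g * (w₁ : G) * g⁻¹)) := by rw [h1, mul_assoc]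
          _ = g * (w₁ : G) * g⁻¹ := inv_mul_cancel_left _ _
          _ = g * g * (v : G) * (g * g)⁻¹ := by rw [hw₁]; group
      have hyb' : y ∈ d.base := by
        have := d.base_normal.conj_mem v (d.u_mem_base _ _) w₁⁻¹
        rwa [inv_inv] at this
      have hodd2 : Odd (orderOf (g * g)) := by
        rw [← pow_two]; exact hodd.of_dvd_nat (orderOf_pow_dvd 2)
      by_cases hggC : g * g ∈ Subgroup.centralizer (d.qzG e : Set G)
      · obtain ⟨r, hr⟩ := hodd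
        refine hgC ?_
        have := pow_mem hggC (r + 1)
        rwa [← pow_two, ← pow_mul, show 2 * (r + 1) = orderOf g + 1 by omega, pow_succ,
          pow_orderOf_eq_one, one_mul] at this
      · exact hout (g * g) (mul_mem hg hg) hodd2 hggC y hy hyb'
  have hw₁L : w₁ ∈ L := hstat.mp hvL
  -- `u e (c - e) * z` differs from `w₁` by a power of `v`
  set w := d.u e (d.c - e) * d.z
  have hwq : w ∈ d.quat := d.uz_mem_quat.mpr ⟨0, by ring⟩
  have hwE : w ∈ d.qz e := d.uz_mem_qz.mpr ⟨-1, by ring⟩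
  have hb : w₁⁻¹ * w ∈ d.base := by
    rw [Subgroup.mul_mem_iff_of_index_two d.index_base, Subgroup.inv_mem_iff]
    exact iff_of_false hw₁b (d.uz_notMem _ _)
  obtain ⟨a, b, hab⟩ := hb
  obtain ⟨k, hk⟩ := d.quat_qz_base (e := e) (a := a) (b := b) hc (hab ▸ mul_mem (inv_mem hw₁q) hwq)
    (hab ▸ mul_mem (inv_mem hw₁E) hwE)
  rw [show w = w₁ * v ^ k by rw [hv, ← hk, ← hab, mul_inv_cancel_left]]
  exact mul_mem hw₁L (zpow_mem hvL k)

include d

theorem type_two_six {e₀ : ℤ}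
    (hU : (Subgroup.centralizer (d.baseG : Set G)).relIndex (Subgroup.normalizer (d.baseG : Set G)) = 2)
    (hE₀ : (d.qzG e₀ ⊔ Subgroup.centralizer (d.qzG e₀ : Set G)).relIndex
      (Subgroup.normalizer (d.qzG e₀ : Set G)) = 6) :
    (∃ K : Subgroup G, K.Normal ∧ K.index = 2 ^ n ∧ (∀ P : Sylow 2 ↥K, ∃ m : ℕ, 1 ≤ m ∧
      Nonempty ((P : Subgroup ↥K) ≃* QuaternionGroup (2 ^ m))) ∧ (∀ H : Subgroup ↥K, H.index ≠ 2)) ∧
    (∀ Z₀ : Subgroup G, Z₀ ≤ ((Subgroup.center (S : Subgroup G)).map (S : Subgroup G).subtype) →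
      Cfsg.IsWeaklyClosed Z₀ (S : Subgroup G)) ∧
    Nat.card {C : ConjClasses G // ∃ t : G, orderOf t = 2 ∧ ConjClasses.mk t = C} = 2 := by
  have hB := d.actsLike_base hU
  have hE := d.qz_six hE₀
  refine ⟨?_, fun Z₀ hZ₀ => ⟨hZ₀.trans (Subgroup.map_subtype_le _), fun g hg => ?_⟩, ?_⟩
  · obtain ⟨K, hKn, hKi, hKS, hodd⟩ := exists_normal_of_focal S (d.quat.map (S : Subgroup G).subtype)
      (Subgroup.map_subtype_le _) (fun a ha g hg => d.quat_invariant hB hE ha hg)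
    have hKS' : ∀ s : (S : Subgroup G), (s : G) ∈ K ↔ s ∈ d.quat := fun s =>
      (hKS s s.2).trans (Subgroup.mem_map_iff_mem (S : Subgroup G).subtype_injective)
    refine ⟨K, hKn, ?_, fun P => ⟨n - 1, by have := d.hn; omega, ?_⟩,
      no_index_two_of_kernel (M := d.quat) hKS'
        (fun L hmul hconj => d.quat_le_of_movers hB hE hmul hconj) hodd⟩
    · rw [hKi, Subgroup.relIndex, Subgroup.subgroupOf,
        Subgroup.comap_map_eq_self_of_injective (S : Subgroup G).subtype_injective, d.quat_relIndex]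
    · obtain ⟨e1⟩ := sylow_iso_of_normal S K d.quat hKS' P
      obtain ⟨e2⟩ := d.quat_iso
      exact ⟨e1.trans e2⟩
  · have key : ∀ v ∈ Z₀, g * v * g⁻¹ = v := by
      intro v hv
      obtain ⟨w, hw, rfl⟩ := hZ₀ hv
      obtain ⟨t, rfl⟩ := d.mem_center_iff.mp hw
      exact d.center_fixed hB hE (hg ⟨_, hv, rfl⟩)
    ext v
    refine ⟨?_, fun hv => ⟨v, hv, key v hv⟩⟩
    rintro ⟨w, hw, rfl⟩
    show g * w * g⁻¹ ∈ Z₀
    rw [key w hw]; exact hw
  · have hz := d.qz_mover hE₀ (sup_centralizer_normal _)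
    have hne : ¬ IsConj (d.u d.c d.c : G) (d.u d.c 0 : G) := fun h => by
      obtain ⟨g, hg⟩ := isConj_iff.mp h
      have h1 := d.center_fixed hB hE (t := d.c) (g := g) (hg ▸ (d.u d.c 0).2)
      rw [hg] at h1
      exact d.not_dvd_c (by simpa using (d.u_eq_iff.mp (Subtype.ext h1 : d.u d.c 0 = d.u d.c d.c)).2)
    have key := two_classes_of S (k := 1) (a := (d.u d.c d.c : G)) (b := (d.u d.c 0 : G))
      (by rw [pow_one]; exact d.orderOf_b) (by rw [pow_one]; exact d.orderOf_a) hne (fun s hs h2 => by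
        rw [pow_one] at h2
        rcases d.sylow_involution hs h2 with h | h | h
        · exact Or.inr (h.trans hz.symm)
        · exact Or.inr h
        · exact Or.inl h)
    simpa only [pow_one] using key

end CfsgLib.SmallTwo.WR
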