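import Cfsg.Agent.Lib.ZStar.TwoElement
import Cfsg.Agent.Lib.SmallTwo.WRIndices
import Cfsg.Agent.Lib.SmallTwo.WRQuat
import Cfsg.Agent.Lib.SmallTwo.QDResults

/-!
Central elements of a Sylow 2-subgroup fixed by fusion are central modulo the odd core.
-/

set_option autoImplicit false

namespace CfsgLib.SmallTwo

open CfsgLib.Transfer

variable {G : Type*} [Group G] [Finite G]

/-- All elements of `Z` are fixed by fusion in `S`. -/
def FixedByFusion (S Z : Subgroup G) : Prop :=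
  ∀ t ∈ Z, ∀ g : G, g * t * g⁻¹ ∈ S → g * t * g⁻¹ = t

/-- The centre of a Sylow 2-subgroup, seen in the group. -/
def centerIn (S : Subgroup G) : Subgroup G := (Subgroup.center S).map S.subtype

theorem centerIn_le (S : Subgroup G) : centerIn S ≤ S := Subgroup.map_subtype_le _

theorem fixed_of_weaklyClosed (S : Sylow 2 G)
    (hW : ∀ Z₀ : Subgroup G, Z₀ ≤ centerIn (S : Subgroup G) → Cfsg.IsWeaklyClosed Z₀ (S : Subgroup G)) :
    FixedByFusion (S : Subgroup G) (centerIn (S : Subgroup G)) := by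
  have : Fact (Nat.Prime 2) := ⟨Nat.prime_two⟩
  intro t ht g hg
  set T := Subgroup.zpowers t with hT
  have hTS : T ≤ (S : Subgroup G) := (Subgroup.zpowers_le.mpr ht).trans (centerIn_le _)
  have hn : g ∈ Subgroup.normalizer (T : Set G) := map_conj_eq_self_iff.mp
    ((hW T (Subgroup.zpowers_le.mpr ht)).2 g (by
      rw [hT, MonoidHom.map_zpowers, Subgroup.zpowers_le]; exact hg))
  set N := Subgroup.normalizer (T : Set G)
  set φ := T.normalizerMonoidHom
  have hSC : (S : Subgroup G) ≤ Subgroup.centralizer (T : Set G) := by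
    intro s hs
    obtain ⟨v, hv, rfl⟩ := ht
    rw [hT]
    refine Subgroup.mem_centralizer_iff.mpr ?_
    rintro _ ⟨k, rfl⟩
    have h := congrArg Subtype.val
      (Subgroup.mem_center_iff.mp (zpow_mem hv k) ⟨s, hs⟩)
    simpa using h.symm
  have hodd : ¬ 2 ∣ φ.ker.index := by
    intro h
    rw [Subgroup.normalizerMonoidHom_ker, ← Subgroup.relIndex] at h
    exact S.not_dvd_index ((h.trans (Subgroup.relIndex_dvd_index_of_le
      (Subgroup.centralizer_le_normalizer _))).trans (Subgroup.index_dvd_of_le hSC))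
  have hcyc : IsCyclic T := by rw [hT]; infer_instance
  obtain ⟨j, hj⟩ := IsPGroup.iff_card.mp
    ((isPGroup_mulAut_cyclic (S.2.to_le hTS) hcyc).to_subgroup φ.range)
  have hker : φ.ker.index = 1 := by
    rw [Subgroup.index_ker, hj] at hodd ⊢
    rcases Nat.eq_zero_or_pos j with h0 | h0
    · rw [h0, pow_zero]
    · exact absurd (dvd_pow_self 2 h0.ne') hodd
  have hmem : (⟨g, hn⟩ : N) ∈ φ.ker := (Subgroup.index_eq_one.mp hker).symm ▸ Subgroup.mem_top _
  exact congrArg Subtype.val (DFunLike.congr_fun (MonoidHom.mem_ker.mp hmem)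
    ⟨t, Subgroup.mem_zpowers t⟩)

theorem commutatorsInCore_of_fixed (S : Sylow 2 G) {Z : Subgroup G} (hZS : Z ≤ (S : Subgroup G))
    (hfix : FixedByFusion (S : Subgroup G) Z) {t : G} (ht : t ∈ Z) : CfsgLib.ZStar.CommutatorsInCore t :=
  CfsgLib.ZStar.commutatorsInCore_of_powers S ⟨hZS ht, fun k g h => hfix _ (pow_mem ht k) g h⟩

theorem normal_core_sup_of_fixed (S : Sylow 2 G) {Z : Subgroup G} (hZS : Z ≤ (S : Subgroup G))
    (hfix : FixedByFusion (S : Subgroup G) Z) : (Cfsg.oddCore G ⊔ Z).Normal := by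
  have hO : (Cfsg.pPrimeCore 2 G).Normal := pPrimeCore_normal 2 G
  refine ⟨fun v hv g => ?_⟩
  obtain ⟨o, ho, t, ht, rfl⟩ := Subgroup.mem_sup_of_normal_left.mp hv
  rw [show g * (o * t) * g⁻¹ = g * o * g⁻¹ * ((t * g * t⁻¹ * g⁻¹)⁻¹ * t) by group]
  exact mul_mem (Subgroup.mem_sup_left (hO.conj_mem o ho g))
    (mul_mem (Subgroup.mem_sup_left (inv_mem (commutatorsInCore_of_fixed S hZS hfix ht g)))
      (Subgroup.mem_sup_right ht))

theorem core_mul_centralizer_of_fixed (S : Sylow 2 G) {Z : Subgroup G} (hZS : Z ≤ (S : Subgroup G))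
    (hfix : FixedByFusion (S : Subgroup G) Z) (h : G) :
    ∃ o ∈ Cfsg.oddCore G, ∃ c ∈ Subgroup.centralizer (Z : Set G), h = o * c := by
  have hO : (Cfsg.pPrimeCore 2 G).Normal := pPrimeCore_normal 2 G
  have hn := normal_core_sup_of_fixed S hZS hfix
  set Q := Z.map (MulAut.conj h).toMonoidHom
  have hQN : Q ≤ (S : Subgroup G) ⊔ Cfsg.oddCore G := by
    rintro _ ⟨t, ht, rfl⟩
    exact sup_le le_sup_right (hZS.trans le_sup_left) (hn.conj_mem t (Subgroup.mem_sup_right ht) h)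
  have := Fintype.ofFinite G
  obtain ⟨c, hc, hcS⟩ := CfsgLib.ZStar.exists_conj_mem_sylow S (N := (S : Subgroup G) ⊔ Cfsg.oddCore G)
    le_sup_left hQN ((S.2.to_le hZS).map _)
  obtain ⟨s, hs, o, ho, rfl⟩ := Subgroup.mem_sup_of_normal_right.mp hc
  refine ⟨o⁻¹, inv_mem ho, o * h, Subgroup.mem_centralizer_iff.mpr fun t ht => ?_, by group⟩
  have h1 := hcS _ ⟨t, ht, rfl⟩
  have h2 : o * h * t * (o * h)⁻¹ ∈ (S : Subgroup G) := by
    have := mul_mem (mul_mem (inv_mem hs) h1) hs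
    rw [show s⁻¹ * (s * o * (MulAut.conj h).toMonoidHom t * (s * o)⁻¹) * s = o * h * t * (o * h)⁻¹ by
      simp only [MulEquiv.coe_toMonoidHom, MulAut.conj_apply]; group] at this
    exact this
  exact (mul_inv_eq_iff_eq_mul.mp (hfix t ht _ h2)).symm

theorem isolated_eq_self {S : Sylow 2 G} {z : G} (hzS : z ∈ (S : Subgroup G))
    (hz : Cfsg.IsIsolatedInvolution z) : z ∈ centerIn (S : Subgroup G) := by
  refine ⟨⟨z, hzS⟩, Subgroup.mem_center_iff.mpr fun s => Subtype.ext ?_, rfl⟩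
  exact mul_inv_eq_iff_eq_mul.mp (CfsgLib.Invol.isolated_eq_of_mem_twoGroup hz S.2 hzS (s : G)
    (mul_mem (mul_mem s.2 hzS) (inv_mem s.2)))

theorem QD.fixed_of_isolated {S : Sylow 2 G} {n : ℕ} (d : QD (S : Subgroup G) n) {z : G}
    (hzS : z ∈ (S : Subgroup G)) (hz : Cfsg.IsIsolatedInvolution z) :
    FixedByFusion (S : Subgroup G) (centerIn (S : Subgroup G)) := by
  have hzc := isolated_eq_self hzS hz
  have hcard : Nat.card (centerIn (S : Subgroup G)) = 2 := by
    rw [centerIn, Subgroup.card_map_of_injective (S : Subgroup G).subtype_injective, d.card_center]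
  have hcases : ∀ t ∈ centerIn (S : Subgroup G), t = 1 ∨ t = z := by
    intro t ht
    have hgen : Subgroup.zpowers z = centerIn (S : Subgroup G) :=
      Subgroup.eq_of_le_of_card_ge (Subgroup.zpowers_le.mpr hzc) (by rw [hcard, Nat.card_zpowers, hz.1])
    rw [← hgen] at ht
    obtain ⟨k, rfl⟩ := ht
    rcases Int.even_or_odd' k with ⟨l, rfl | rfl⟩
    · left
      show z ^ (2 * l) = 1
      rw [zpow_mul, zpow_ofNat, ← hz.1, pow_orderOf_eq_one, one_zpow]
    · right
      show z ^ (2 * l + 1) = z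
      rw [zpow_add, zpow_mul, zpow_ofNat, ← hz.1, pow_orderOf_eq_one, one_zpow, one_mul, zpow_one]
  intro t ht g hg
  rcases hcases t ht with rfl | rfl
  · group
  · exact CfsgLib.Invol.isolated_eq_of_mem_twoGroup hz S.2 hzS g hg

theorem WR.center_fixed_of_acts {S : Sylow 2 G} {n : ℕ} (d : WR (S : Subgroup G) n)
    (hB : ActsLike (S : Subgroup G) d.baseG) (hQ : ∀ e, ActsLike (S : Subgroup G) (d.qzG e))
    {t : ℤ} {g : G} (hg : g * (d.u t t : G) * g⁻¹ ∈ (S : Subgroup G)) :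
    g * (d.u t t : G) * g⁻¹ = d.u t t := by
  have hS : ∀ (r : ℤ), ∀ s ∈ (S : Subgroup G), s * (d.u r r : G) * s⁻¹ = d.u r r := fun r s hs => by
    exact mul_inv_eq_iff_eq_mul.mpr (congrArg Subtype.val
      (Subgroup.mem_center_iff.mp (d.mem_center_iff.mpr ⟨r, rfl⟩) ⟨s, hs⟩))
  refine (d.fusion (fun u v => ∀ r : ℤ, u = (d.u r r : G) → v = u) (fun u _ _ => rfl)
    (fun u v w h1 h2 r hr => (h2 r ((h1 r hr).trans hr)).trans (h1 r hr))
    (fun b _ s hs r hr => by rw [hr]; exact hS r s hs)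
    (fun m hm b hb r hr => ?_) (fun e m hm b hb r hr => ?_) (d.u t t).2 hg) t rfl
  · obtain ⟨s, hs, he⟩ := hB m hm
    rw [he b hb, hr]; exact hS r s hs
  · obtain ⟨s, hs, he⟩ := hQ e m hm
    rw [he b hb, hr]; exact hS r s hs

theorem WR.fixed_of_isolated {S : Sylow 2 G} {n : ℕ} (d : WR (S : Subgroup G) n) {z : G}
    (hzS : z ∈ (S : Subgroup G)) (hz : Cfsg.IsIsolatedInvolution z) :
    FixedByFusion (S : Subgroup G) (centerIn (S : Subgroup G)) := by
  obtain ⟨v, hv, hve⟩ := isolated_eq_self hzS hz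
  obtain ⟨k, rfl⟩ := d.mem_center_iff.mp hv
  have hve' : (d.u k k : G) = z := hve
  have h2 : orderOf (d.u k k) = 2 := by rw [← Subgroup.orderOf_coe, hve', hz.1]
  obtain ⟨hk, -⟩ := d.orderOf_u_two h2
  obtain ⟨l, hl, hkl⟩ := d.u_half_cases hk
  have hzc : z = (d.u d.c d.c : G) := by
    rcases hl with rfl | rfl
    · exfalso
      have : d.u k k = 1 := d.u_eq_one_iff.mpr ⟨by simpa using hkl, by simpa using hkl⟩
      rw [this, orderOf_one] at h2
      omega
    · rw [← hve', d.u_eq_iff.mpr ⟨by simpa using hkl, by simpa using hkl⟩]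
  have hU : (Subgroup.centralizer (d.baseG : Set G)).relIndex (Subgroup.normalizer (d.baseG : Set G)) = 2 := by
    refine d.base_index_cases.resolve_right fun h6 => ?_
    obtain ⟨g, hg⟩ := isConj_iff.mp (d.base_movers h6).1.isConj.symm
    rw [← hzc] at hg
    have := CfsgLib.Invol.isolated_eq_of_mem_twoGroup hz S.2 hzS g (hg ▸ (d.u d.c 0).2)
    rw [hg, hzc] at this
    exact d.not_dvd_c (by simpa using (d.u_eq_iff.mp (Subtype.ext this : d.u d.c 0 = d.u d.c d.c)).2)
  have hB := d.actsLike_base hU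
  intro t ht g hg
  obtain ⟨w, hw, rfl⟩ := ht
  obtain ⟨r, rfl⟩ := d.mem_center_iff.mp hw
  rcases d.qz_index_cases 0 with h2 | h6
  · exact d.center_fixed_of_acts hB (d.actsLike_qz h2) hg
  · exact d.center_fixed hB (d.qz_six h6) hg

end CfsgLib.SmallTwo
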