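import Cfsg.Agent.Lib.SmallTwo.QDLocal
import Cfsg.Agent.Lib.SmallTwo.WreathedAut

/-!
Local conditions in groups with wreathed Sylow 2-subgroups.
-/

set_option autoImplicit false

namespace CfsgLib.SmallTwo

open CfsgLib.Transfer

variable {G : Type*} [Group G] [Finite G]

/-- An automorphism of odd order acting on `a` by a fixed 2-element is trivial on `a`. -/
theorem fix_step {g a e : G} (hg : Odd (orderOf g)) (he : g * e * g⁻¹ = e) {k : ℕ}
    (he2 : e ^ 2 ^ k = 1) (ha : g * a * g⁻¹ = a * e) : g * a * g⁻¹ = a := by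
  have hit : ∀ t : ℕ, g ^ t * a * (g ^ t)⁻¹ = a * e ^ t := by
    intro t
    induction t with
    | zero => simp
    | succ t ih =>
      calc g ^ (t + 1) * a * (g ^ (t + 1))⁻¹ = g * (g ^ t * a * (g ^ t)⁻¹) * g⁻¹ := by
            rw [pow_succ']; group
        _ = g * a * g⁻¹ * (g * e * g⁻¹) ^ t := by rw [ih, conj_pow]; group
        _ = _ := by rw [ha, he, pow_succ', ← mul_assoc]
  have h1 := hit (orderOf g)
  rw [pow_orderOf_eq_one, one_mul, inv_one, mul_one] at h1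
  have h2 : e ^ orderOf g = 1 := by simpa using h1.symm
  have h3 : orderOf e = 1 := Nat.eq_one_of_dvd_coprimes (hg.coprime_two_left.pow_left k)
    (orderOf_dvd_of_pow_eq_one he2) (orderOf_dvd_of_pow_eq_one h2)
  rw [orderOf_eq_one_iff.mp h3, mul_one] at ha
  exact ha

/-- An element of odd order normalizing a cyclic 2-group centralizes it. -/
theorem fix_cyclic {g a : G} (hg : Odd (orderOf g)) {k : ℕ} (ha : orderOf a = 2 ^ k)
    (hn : g ∈ Subgroup.normalizer (Subgroup.zpowers a : Set G)) : g * a * g⁻¹ = a := by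
  have : Fact (Nat.Prime 2) := ⟨Nat.prime_two⟩
  have hp : IsPGroup 2 (MulAut (Subgroup.zpowers a)) :=
    isPGroup_mulAut_cyclic (IsPGroup.of_card (by rw [Nat.card_zpowers, ha])) inferInstance
  set φ := (Subgroup.zpowers a).normalizerMonoidHom ⟨g, hn⟩ with hφ
  obtain ⟨j, hj⟩ := IsPGroup.iff_orderOf.mp hp φ
  have h1 : orderOf φ ∣ orderOf g := by
    rw [← Subgroup.orderOf_mk g hn]
    exact orderOf_map_dvd _ _
  have h2 : φ = 1 := by
    rw [← orderOf_eq_one_iff]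
    exact Nat.eq_one_of_dvd_coprimes (hg.coprime_two_left.pow_left j) (hj ▸ dvd_rfl) h1
  exact congrArg Subtype.val (DFunLike.congr_fun h2 ⟨a, Subgroup.mem_zpowers a⟩)

theorem actsLike_of_centralizer {S E : Subgroup G}
    (h : (Subgroup.centralizer (E : Set G)).relIndex (Subgroup.normalizer (E : Set G)) = 2)
    {s : G} (hs : s ∈ S) (hsN : s ∈ Subgroup.normalizer (E : Set G))
    (hsC : s ∉ Subgroup.centralizer (E : Set G)) : ActsLike S E := by
  intro m hm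
  rcases index_two_cases h hsN hsC hm with hc | hc
  · exact ⟨1, one_mem _, fun a ha => by
      rw [← Subgroup.mem_centralizer_iff.mp hc a ha]; group⟩
  · refine ⟨s, hs, fun a ha => ?_⟩
    have := Subgroup.mem_centralizer_iff.mp hc a ha
    calc m * a * m⁻¹ = s * (s⁻¹ * m * a) * m⁻¹ := by group
      _ = _ := by rw [← this]; group

theorem inner_of_mem_sup {E : Subgroup G} {g : G}
    (hg : g ∈ E ⊔ Subgroup.centralizer (E : Set G)) :
    ∃ a ∈ E, ∀ v ∈ E, g * v * g⁻¹ = a * v * a⁻¹ := by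
  have hg' : g ∈ ((Subgroup.centralizer (E : Set G) ⊔ E : Subgroup G) : Set G) := by
    rw [sup_comm]; exact hg
  rw [Subgroup.coe_mul_of_left_le_normalizer_right _ _ (centralizer_le_normalizer' E)] at hg'
  obtain ⟨c, hc, a, ha, rfl⟩ := hg'
  refine ⟨a, ha, fun v hv => ?_⟩
  have := Subgroup.mem_centralizer_iff.mp hc _ (mul_mem (mul_mem ha hv) (inv_mem ha))
  calc c * a * v * (c * a)⁻¹ = c * (a * v * a⁻¹) * c⁻¹ := by group
    _ = a * v * a⁻¹ := by rw [← this, mul_inv_cancel_right]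

theorem actsLike_of_sup {S E : Subgroup G} (hES : E ≤ S)
    (h : (E ⊔ Subgroup.centralizer (E : Set G)).relIndex (Subgroup.normalizer (E : Set G)) = 2)
    {s : G} (hs : s ∈ S) (hsN : s ∈ Subgroup.normalizer (E : Set G))
    (hsC : s ∉ E ⊔ Subgroup.centralizer (E : Set G)) : ActsLike S E := by
  intro m hm
  rcases index_two_cases h hsN hsC hm with hc | hc
  · obtain ⟨a, ha, hact⟩ := inner_of_mem_sup hc
    exact ⟨a, hES ha, hact⟩
  · obtain ⟨a, ha, hact⟩ := inner_of_mem_sup hc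
    refine ⟨s * a, mul_mem hs (hES ha), fun v hv => ?_⟩
    calc m * v * m⁻¹ = s * (s⁻¹ * m * v * (s⁻¹ * m)⁻¹) * s⁻¹ := by group
      _ = _ := by rw [hact v hv]; group

namespace WR

section Intrinsic

variable {S : Type*} [Group S] [Finite S] {n : ℕ} (d : WR S n)

theorem conj_q_qz {q : ℤ} (hc : d.c = 2 * q) {e : ℤ} {g : S} (hg : g ∈ d.qz e) :
    d.u q 0 * g * (d.u q 0)⁻¹ ∈ d.qz e := by
  obtain ⟨a, b, ⟨⟨p, hp⟩, rfl⟩ | ⟨⟨p, hp⟩, rfl⟩⟩ := hg
  · rw [d.u_mul_u, d.u_inv, d.u_mul_u, d.u_mem_qz]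
    exact ⟨p, by linarith⟩
  · rw [d.conj_uz, d.uz_mem_qz]
    exact ⟨p + 1, by linarith⟩

/-- Inner automorphisms of `qz e` keep the difference of exponents of the outer generator. -/
theorem qz_inner_diff {e : ℤ} {a : S} (ha : a ∈ d.qz e) :
    ∃ i j : ℤ, a * (d.u e (-e) * d.z) * a⁻¹ = d.u i j * d.z ∧ 2 * d.c ∣ i - j - 2 * e := by
  obtain ⟨p, r, ⟨⟨k, hk⟩, rfl⟩ | ⟨⟨k, hk⟩, rfl⟩⟩ := ha
  · exact ⟨_, _, d.conj_uz p r e (-e), k, by linarith⟩
  · refine ⟨-e + (p - r), e + (r - p), ?_, k, by linarith⟩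
    rw [show d.u p r * d.z * (d.u e (-e) * d.z) * (d.u p r * d.z)⁻¹ =
      d.u p r * (d.z * d.u e (-e)) * (d.u p r)⁻¹ by group, d.z_mul_u, d.conj_uz]

/-- A quaternion subgroup generates, with the centre, one of the groups `qz e`. -/
theorem sup_center_eq_qz (Q : Subgroup S) (eQ : Q ≃* QuaternionGroup 2) :
    ∃ e : ℤ, Q ⊔ Subgroup.center S = d.qz e := by
  have h4 : ∀ g ∈ Q, g * g * (g * g) = 1 := fun g hg => by
    have h : ∀ a : QuaternionGroup 2, a * a * (a * a) = 1 := by decide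
    have := congrArg eQ.symm (h (eQ ⟨g, hg⟩))
    simp only [map_mul, MulEquiv.symm_apply_apply, map_one] at this
    exact congrArg Subtype.val this
  have hinv : ∀ g ∈ Q, ∀ w ∈ Q, w * g * w⁻¹ = g ∨ w * g * w⁻¹ = g⁻¹ := by
    intro g hg w hw
    have h : ∀ a b : QuaternionGroup 2, b * a * b⁻¹ = a ∨ b * a * b⁻¹ = a⁻¹ := by decide
    refine (h (eQ ⟨g, hg⟩) (eQ ⟨w, hw⟩)).imp (fun h1 => ?_) (fun h1 => ?_) <;>
    · simp only [← map_inv, ← map_mul] at h1
      exact congrArg Subtype.val (eQ.injective h1)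
  have hnab : ∃ g ∈ Q, ∃ w ∈ Q, g * w ≠ w * g := by
    refine ⟨(eQ.symm (QuaternionGroup.a 1) : Q), SetLike.coe_mem _,
      (eQ.symm (QuaternionGroup.xa 0) : Q), SetLike.coe_mem _, fun h => ?_⟩
    rw [← Subgroup.coe_mul, ← Subgroup.coe_mul] at h
    have := Subtype.ext h
    rw [← map_mul, ← map_mul] at this
    exact absurd (eQ.symm.injective this) (by decide)
  obtain ⟨i, j, hw⟩ : ∃ i j : ℤ, d.u i j * d.z ∈ Q := by
    by_contra hcon
    push Not at hcon
    obtain ⟨g, hg, w, hw, hne⟩ := hnab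
    obtain ⟨a, b, rfl | rfl⟩ := d.cases' g
    · obtain ⟨a', b', rfl | rfl⟩ := d.cases' w
      · exact hne (by rw [d.u_mul_u, d.u_mul_u, add_comm a, add_comm b])
      · exact hcon _ _ hw
    · exact hcon _ _ hg
  have hbase : ∀ a b : ℤ, d.u a b ∈ Q → d.c ∣ a - b := by
    intro a b hab
    rcases hinv _ hab _ hw with h | h
    · have : Commute (d.u a b) (d.u i j * d.z) := (mul_inv_eq_iff_eq_mul.mp h).symm
      exact (dvd_mul_left _ 2).trans (d.commute_u_uz.mp this)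
    · rw [show d.u i j * d.z * d.u a b * (d.u i j * d.z)⁻¹ =
        d.u i j * (d.z * d.u a b * d.z⁻¹) * (d.u i j)⁻¹ by group, d.conj_z, d.u_mul_u, d.u_inv,
        d.u_mul_u, d.u_inv, d.u_eq_iff] at h
      obtain ⟨r, hr⟩ := h.2
      have h1 := h4 _ hab
      rw [d.u_mul_u, d.u_mul_u, d.u_eq_one_iff] at h1
      obtain ⟨k, hk⟩ := h1.1
      exact ⟨k - 2 * r, by linarith⟩
  obtain ⟨e, he⟩ : ∃ e : ℤ, i - j = 2 * e := by
    have h1 := h4 _ hw
    rw [d.uz_mul_uz, d.u_mul_u, d.u_eq_one_iff] at h1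
    obtain ⟨k, hk⟩ := h1.1
    obtain ⟨q, -, hc⟩ := d.exists_quarter
    refine ⟨q * k - j, ?_⟩
    have h2 : 2 * (i + j) = 2 * (2 * (q * k)) := by linear_combination hk + (2 * k) * hc
    linarith
  refine ⟨e, le_antisymm (sup_le ?_ ?_) ?_⟩
  · intro g hg
    obtain ⟨a, b, rfl | rfl⟩ := d.cases' g
    · exact d.u_mem_qz.mpr (hbase a b hg)
    · rw [d.uz_mem_qz]
      have h := mul_mem hg (inv_mem hw)
      rw [d.uz_inv, d.uz_mul_uz] at h
      obtain ⟨k, hk⟩ := hbase _ _ h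
      exact ⟨k, by linarith⟩
  · intro g hg
    obtain ⟨k, rfl⟩ := d.mem_center_iff.mp hg
    exact d.u_mem_qz.mpr (by simp)
  · obtain ⟨a, b, hab, habne⟩ : ∃ a b : ℤ, d.u a b ∈ Q ∧ ¬ 2 * d.c ∣ a - b := by
      by_contra hcon
      push Not at hcon
      obtain ⟨g, hg, w, hw', hne⟩ := hnab
      have hdec : ∀ v ∈ Q, ∃ t : ℤ, v = d.u t t ∨ v = d.u t t * (d.u i j * d.z) := by
        intro v hv
        obtain ⟨a, b, rfl | rfl⟩ := d.cases' v
        · exact ⟨a, Or.inl (d.u_eq_iff.mpr ⟨by simp, dvd_sub_comm.mp (hcon _ _ hv)⟩)⟩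
        · have h := mul_mem hv (inv_mem hw)
          rw [d.uz_inv, d.uz_mul_uz] at h
          refine ⟨a + -i, Or.inr ?_⟩
          rw [d.u_mul_uz, mul_left_inj, d.u_eq_iff]
          refine ⟨by simp, ?_⟩
          have := dvd_sub_comm.mp (hcon _ _ h)
          rwa [show b - (a + -i + j) = b + -j - (a + -i) by ring]
      have hcc : ∀ (t : ℤ) (v : S), Commute (d.u t t) v := fun t v =>
        (Subgroup.mem_center_iff.mp (d.mem_center_iff.mpr ⟨t, rfl⟩) v).symm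
      obtain ⟨t, rfl | rfl⟩ := hdec g hg <;> obtain ⟨t', rfl | rfl⟩ := hdec w hw'
      · exact hne (hcc _ _).eq
      · exact hne (hcc _ _).eq
      · exact hne (hcc _ _).eq.symm
      · exact hne (((hcc t _).mul_left ((hcc t' _).symm.mul_right (Commute.refl _))).eq)
    have hu : ∀ a' b' : ℤ, d.c ∣ a' - b' → d.u a' b' ∈ Q ⊔ Subgroup.center S := by
      intro a' b' ⟨k, hk⟩
      obtain ⟨r, hr⟩ := hbase a b hab
      obtain ⟨l, rfl⟩ : Odd r := by
        refine Int.not_even_iff_odd.mp fun ⟨l, hl⟩ => habne ⟨l, ?_⟩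
        rw [hr, hl]; ring
      rw [show d.u a' b' = d.u a b ^ k * d.u (a' - k * a) (a' - k * a) by
        rw [d.u_zpow, d.u_mul_u, d.u_eq_iff]
        exact ⟨⟨0, by ring⟩, ⟨k * l, by linear_combination -hk + k * hr⟩⟩]
      exact mul_mem (zpow_mem (Subgroup.mem_sup_left hab) k)
        (Subgroup.mem_sup_right (d.mem_center_iff.mpr ⟨_, rfl⟩))
    rintro g ⟨a', b', ⟨h, rfl⟩ | ⟨⟨k, hk⟩, rfl⟩⟩
    · exact hu a' b' h
    · rw [show d.u a' b' * d.z = d.u (a' - i) (b' - j) * (d.u i j * d.z) by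
        rw [d.u_mul_uz, sub_add_cancel, sub_add_cancel]]
      exact mul_mem (hu _ _ ⟨k, by linarith⟩) (Subgroup.mem_sup_left hw)

theorem involution_cases {t : S} (ht : orderOf t = 2) :
    IsConj t (d.u 0 0 * d.z) ∨ IsConj t (d.u d.c 0) ∨ IsConj t (d.u d.c d.c) := by
  obtain ⟨i, j, rfl | rfl⟩ := d.cases' t
  · obtain ⟨hi, hj⟩ := d.orderOf_u_two ht
    obtain ⟨⟨k, hk, hi'⟩, ⟨l, hl, hj'⟩⟩ := And.intro (d.u_half_cases hi) (d.u_half_cases hj)
    have e : d.u i j = d.u (d.c * k) (d.c * l) := d.u_eq_iff.mpr ⟨hi', hj'⟩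
    rcases hk with rfl | rfl <;> rcases hl with rfl | rfl <;> simp only [mul_zero, mul_one] at e
    · rw [e, d.u_zero, orderOf_one] at ht
      omega
    · exact Or.inr (Or.inl (by rw [e]; exact (isConj_iff.mpr ⟨d.z, d.conj_z _ _⟩)))
    · exact Or.inr (Or.inl (by rw [e]))
    · exact Or.inr (Or.inr (by rw [e]))
  · refine Or.inl (IsConj.symm (isConj_iff.mpr ⟨d.u i 0, ?_⟩))
    rw [d.conj_uz, mul_left_inj, d.u_eq_iff]
    refine ⟨by simp, ?_⟩
    rw [show (0 : ℤ) + (0 - i) - j = -(i + j) by ring, dvd_neg]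
    exact d.orderOf_uz_two.mp ht

end Intrinsic

end WR

end CfsgLib.SmallTwo
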