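import Cfsg.Agent.Lib.SmallTwo.DihedralModel
import Cfsg.Agent.Lib.SmallTwo.WRLocal
import Cfsg.Agent.Lib.Transfer.Frobenius
import Cfsg.Prelude.Def_TwoFusion

/-!
Fusion in groups with dihedral Sylow 2-subgroups.
-/

set_option autoImplicit false

namespace CfsgLib.SmallTwo.Dih

open CfsgLib.Transfer

variable {G : Type*} [Group G] [Finite G]

/-- A property of subsets of `S` preserved by `S` and by the normalizers of centric subgroups with
automorphism group not a `p`-group is preserved by all fusion in `S`. -/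
theorem fusion_set {p : ℕ} [Fact p.Prime] (S : Sylow p G) (P : Set G → Prop)
    (hP : ∀ A, P A → A ⊆ ((S : Subgroup G) : Set G))
    (hS : ∀ A, P A → ∀ s ∈ (S : Subgroup G), P (rconj s A))
    (hE : ∀ E : Subgroup G, E ≤ (S : Subgroup G) →
      (∀ s ∈ (S : Subgroup G), s ∈ Subgroup.centralizer (E : Set G) → s ∈ E) →
      ¬ IsPGroup p (MulAut E) →
      ∀ m ∈ Subgroup.normalizer (E : Set G), ∀ A, P A → A ⊆ (E : Set G) → P (rconj m A))
    {A : Set G} {g : G} (hA : P A) (hg : rconj g A ⊆ ((S : Subgroup G) : Set G)) : P (rconj g A) := by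
  have key : ∀ (A : Set G) (g : G), Chain (fun D _ => IsTameInter S D) A g → P A → P (rconj g A) := by
    intro A g h
    induction h with
    | nil A =>
      intro hA
      have : rconj (1 : G) A = A := by ext a; simp [rconj]
      rwa [this]
    | @cons A x k D hD hx hAD _ ih =>
      intro hA
      have hstep : P (rconj x A) := by
        rcases tame_step S hD hx with ⟨s, hs, h⟩ | ⟨E, hDE, hES, hEc, hEA, m, hm, h⟩
        · have : rconj x A = rconj s A := Set.image_congr fun a ha => (h a (hAD ha)).symm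
          rw [this]; exact hS A hA s hs
        · have : rconj x A = rconj m A := Set.image_congr fun a ha => (h a (hAD ha)).symm
          rw [this]; exact hE E hES hEc hEA m hm A hA (hAD.trans hDE)
      have := ih hstep
      have e : rconj k (rconj x A) = rconj (x * k) A := by
        simp only [rconj, Set.image_image]
        exact Set.image_congr fun a _ => by group
      rwa [e] at this
  exact key A g (alperin_set S (hP A hA) hg) hA

theorem exists_odd_of_three_dvd {N K : Subgroup G} [(K.subgroupOf N).Normal] (h : 3 ∣ K.relIndex N) :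
    ∃ g ∈ N, Odd (orderOf g) ∧ g ∉ K := by
  have : Fact (Nat.Prime 3) := ⟨Nat.prime_three⟩
  obtain ⟨x, hx⟩ := exists_prime_orderOf_dvd_card' (G := N ⧸ K.subgroupOf N) 3 (by
    rwa [← Subgroup.index_eq_card, ← Subgroup.relIndex])
  obtain ⟨y, rfl⟩ := QuotientGroup.mk'_surjective _ x
  obtain ⟨k, r, hr, hkr⟩ := Nat.exists_eq_two_pow_mul_odd (n := orderOf y) (orderOf_pos y).ne'
  refine ⟨((y ^ 2 ^ k : N) : G), (y ^ 2 ^ k).2, ?_, fun hmem => ?_⟩
  · rw [Subgroup.orderOf_coe]
    refine hr.of_dvd_nat (orderOf_dvd_of_pow_eq_one ?_)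
    rw [← pow_mul, ← hkr, pow_orderOf_eq_one]
  · have h1 : (QuotientGroup.mk' (K.subgroupOf N) y) ^ 2 ^ k = 1 := by
      rw [← map_pow]; exact (QuotientGroup.eq_one_iff _).mpr hmem
    have h2 := orderOf_dvd_of_pow_eq_one h1
    rw [hx] at h2
    exact absurd (Nat.prime_three.dvd_of_dvd_pow h2) (by norm_num)

theorem zmod_two_ne : ∀ a b : ZMod 2, a ≠ b → b = a + 1 := by decide

theorem zmod_two_cases : ∀ a : ZMod 2, a = 0 ∨ a = 1 := by decide

theorem centralizer_normalized (U : Subgroup G) :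
    Subgroup.normalizer (U : Set G) ≤ Subgroup.normalizer (Subgroup.centralizer (U : Set G) : Set G) := by
  intro g hg
  refine Subgroup.mem_normalizer_fintype fun c hc => Subgroup.mem_centralizer_iff.mpr fun a ha => ?_
  have h1 := Subgroup.mem_centralizer_iff.mp hc _ ((Subgroup.mem_normalizer_iff.mp (inv_mem hg) a).mp ha)
  calc a * (g * c * g⁻¹) = g * (g⁻¹ * a * g⁻¹⁻¹ * c) * g⁻¹ := by group
    _ = g * (c * (g⁻¹ * a * g⁻¹⁻¹)) * g⁻¹ := by rw [h1]
    _ = _ := by group

theorem actsLike_of_normalizer_eq {S U : Subgroup G}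
    (h : Subgroup.normalizer (U : Set G) =
      Subgroup.centralizer (U : Set G) ⊔ (S ⊓ Subgroup.normalizer (U : Set G))) :
    ActsLike S U := by
  intro m hm
  have hm' : m ∈ ((Subgroup.centralizer (U : Set G) ⊔ (S ⊓ Subgroup.normalizer (U : Set G)) :
      Subgroup G) : Set G) := h ▸ hm
  rw [Subgroup.coe_mul_of_right_le_normalizer_left _ _
    (inf_le_right.trans (centralizer_normalized U))] at hm'
  obtain ⟨c, hc, s, hs, rfl⟩ := hm'
  refine ⟨s, hs.1, fun a ha => ?_⟩
  have := Subgroup.mem_centralizer_iff.mp hc _ ((Subgroup.mem_normalizer_iff.mp hs.2 a).mp ha)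
  calc c * s * a * (c * s)⁻¹ = c * (s * a * s⁻¹) * c⁻¹ := by group
    _ = s * a * s⁻¹ := by rw [← this, mul_inv_cancel_right]

/-- A Sylow 2-subgroup identified with a dihedral group of order `4 * 2 ^ k`. -/
structure Frame (S : Sylow 2 G) (h : ℕ) where
  k : ℕ
  hk : h = 2 ^ k
  e : (S : Subgroup G) ≃* DihedralGroup (2 * h)

theorem frame_exists (S : Sylow 2 G) {m : ℕ} (hm : 2 ≤ m)
    (eS : (S : Subgroup G) ≃* DihedralGroup m) : ∃ h, m = 2 * h ∧ Nonempty (Frame S h) := by
  obtain ⟨a, ha⟩ := IsPGroup.iff_card.mp S.2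
  have hc : 2 * m = 2 ^ a := by
    rw [← ha, Nat.card_congr eS.toEquiv, DihedralGroup.nat_card]
  have hdvd : m ∣ 2 ^ a := hc ▸ Dvd.intro_left 2 rfl
  obtain ⟨b, -, rfl⟩ := (Nat.dvd_prime_pow Nat.prime_two).mp hdvd
  obtain ⟨b, rfl⟩ : ∃ c, b = c + 1 := by
    refine ⟨b - 1, (Nat.sub_add_cancel ?_).symm⟩
    by_contra hb
    rw [show b = 0 by omega, pow_zero] at hm
    omega
  rw [pow_succ'] at eS
  exact ⟨2 ^ b, pow_succ' 2 b, ⟨⟨b, rfl, eS⟩⟩⟩

namespace Frame

variable {S : Sylow 2 G} {h : ℕ} (d : Frame S h)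

include d in
theorem neZero : NeZero h := ⟨by rw [d.hk]; positivity⟩

/-- The embedding of the model. -/
def ι : DihedralGroup (2 * h) →* G := (S : Subgroup G).subtype.comp d.e.symm.toMonoidHom

theorem ι_injective : Function.Injective d.ι :=
  (S : Subgroup G).subtype_injective.comp d.e.symm.injective

theorem ι_mem (v : DihedralGroup (2 * h)) : d.ι v ∈ (S : Subgroup G) := (d.e.symm v).2

theorem exists_ι {g : G} (hg : g ∈ (S : Subgroup G)) : ∃ v, d.ι v = g :=
  ⟨d.e ⟨g, hg⟩, congrArg Subtype.val (d.e.symm_apply_apply ⟨g, hg⟩)⟩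

/-- The four-groups in `G`. -/
def fourG (i : ZMod (2 * h)) : Subgroup G := (four h i).map d.ι

theorem fourG_le (i : ZMod (2 * h)) : d.fourG i ≤ (S : Subgroup G) := by
  rintro _ ⟨v, -, rfl⟩; exact d.ι_mem v

theorem ι_mem_fourG {i : ZMod (2 * h)} {v : DihedralGroup (2 * h)} :
    d.ι v ∈ d.fourG i ↔ v ∈ four h i :=
  Subgroup.mem_map_iff_mem d.ι_injective

theorem map_conj_map (X : Subgroup (DihedralGroup (2 * h))) (v : DihedralGroup (2 * h)) :
    (X.map d.ι).map (MulAut.conj (d.ι v)).toMonoidHom = (X.map (MulAut.conj v).toMonoidHom).map d.ι := by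
  rw [Subgroup.map_map, Subgroup.map_map]
  congr 1
  ext a
  simp [MulAut.conj_apply]

theorem klein_fourG (i : ZMod (2 * h)) : IsKleinFour (d.fourG i) := by
  have := d.neZero
  let e := (four h i).equivMapOfInjective _ d.ι_injective
  exact { card_four := (Nat.card_congr e.toEquiv).symm.trans (klein_four i).card_four
          exponent_two := (Monoid.exponent_eq_of_mulEquiv e).symm.trans (klein_four i).exponent_two }

theorem eq_fourG {U : Subgroup G} (hUS : U ≤ (S : Subgroup G)) (hU : IsKleinFour U) :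
    ∃ i, U = d.fourG i := by
  have := d.neZero
  have hU' : (U.comap d.ι).map d.ι = U := Subgroup.map_comap_eq_self (fun g hg => by
    obtain ⟨v, hv⟩ := d.exists_ι (hUS hg)
    exact ⟨v, hv⟩)
  let e : U.comap d.ι ≃* U :=
    ((U.comap d.ι).equivMapOfInjective _ d.ι_injective).trans (MulEquiv.subgroupCongr hU')
  have : IsKleinFour (U.comap d.ι) :=
    { card_four := (Nat.card_congr e.toEquiv).trans hU.card_four
      exponent_two := (Monoid.exponent_eq_of_mulEquiv e).trans hU.exponent_two }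
  obtain ⟨i, hi⟩ := four_eq_of_klein (U.comap d.ι)
  exact ⟨i, by rw [fourG, ← hi, hU']⟩

theorem fourG_conj {i j : ZMod (2 * h)} (hij : χ h i = χ h j) :
    ∃ s ∈ (S : Subgroup G), (d.fourG i).map (MulAut.conj s).toMonoidHom = d.fourG j := by
  have := d.neZero
  obtain ⟨v, hv⟩ := four_conj hij
  exact ⟨d.ι v, d.ι_mem v, by rw [fourG, d.map_conj_map, hv]; rfl⟩

include d in
theorem centric_four {E : Subgroup G} (hES : E ≤ (S : Subgroup G))
    (hEc : ∀ s ∈ (S : Subgroup G), s ∈ Subgroup.centralizer (E : Set G) → s ∈ E)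
    (hEA : ¬ IsPGroup 2 (MulAut E)) : ∃ i, E = d.fourG i := by
  have := d.neZero
  have hE' : (E.comap d.ι).map d.ι = E := Subgroup.map_comap_eq_self (fun g hg => by
    obtain ⟨v, hv⟩ := d.exists_ι (hES hg)
    exact ⟨v, hv⟩)
  obtain ⟨i, hi⟩ := centric_cases d.hk (E.comap d.ι)
    (fun v hv => hEc _ (d.ι_mem v) (Subgroup.mem_centralizer_iff.mpr fun a ha => by
      obtain ⟨u, rfl⟩ := d.exists_ι (hES ha)
      rw [← map_mul, ← map_mul, Subgroup.mem_centralizer_iff.mp hv u ha]))
    (fun hp => hEA (isPGroup_mulAut_congr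
      (((E.comap d.ι).equivMapOfInjective _ d.ι_injective).trans (MulEquiv.subgroupCongr hE')) hp))
  exact ⟨i, by rw [fourG, ← hi, hE']⟩

include d in
theorem card_sylow : Nat.card (S : Subgroup G) = 4 * h := by
  rw [Nat.card_congr d.e.toEquiv, DihedralGroup.nat_card]; ring

include d in
theorem even_h (h1 : h ≠ 1) : ∃ l, h = l + l := by
  have hk := d.hk
  rcases hk' : d.k with _ | c
  · rw [hk', pow_zero] at hk; exact absurd hk h1
  · rw [hk', pow_succ] at hk; exact ⟨2 ^ c, by omega⟩

include d in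
theorem χ_h (h1 : h ≠ 1) : χ h (h : ZMod (2 * h)) = 0 := by
  obtain ⟨l, hl⟩ := d.even_h h1
  rw [map_natCast, hl, Nat.cast_add]
  exact CharTwo.add_self_eq_zero _

theorem fourG_eq_S (h1 : h = 1) (i : ZMod (2 * h)) : d.fourG i = (S : Subgroup G) := by
  refine Subgroup.eq_of_le_of_card_ge (d.fourG_le i) ?_
  rw [(d.klein_fourG i).card_four, d.card_sylow, h1]

theorem mover {i : ZMod (2 * h)} (h1 : h ≠ 1) :
    ∃ s ∈ (S : Subgroup G), s ∈ Subgroup.normalizer (d.fourG i : Set G) ∧
      s ∉ Subgroup.centralizer (d.fourG i : Set G) := by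
  have := d.neZero
  obtain ⟨l, hl⟩ := d.even_h h1
  have hll : (l : ZMod (2 * h)) + l = h := by rw [← Nat.cast_add, ← hl]
  refine ⟨d.ι (DihedralGroup.r (l : ZMod (2 * h))), d.ι_mem _, ?_, ?_⟩
  · refine Subgroup.mem_normalizer_fintype ?_
    rintro _ ⟨v, hv, rfl⟩
    rw [← map_inv, ← map_mul, ← map_mul]
    refine d.ι_mem_fourG.mpr ?_
    have e : ∀ x : ZMod (2 * h), x - h = x + h := fun x => by rw [sub_eq_add_neg, neg_h]
    rcases mem_four.mp hv with rfl | rfl | rfl | rfl
    · rw [r_conj_r]; exact mem_four.mpr (Or.inl rfl)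
    · rw [r_conj_r]; exact mem_four.mpr (Or.inr (Or.inl rfl))
    · rw [r_conj_sr, hll, e]; exact mem_four.mpr (Or.inr (Or.inr (Or.inr rfl)))
    · rw [r_conj_sr, hll, add_sub_cancel_right]; exact mem_four.mpr (Or.inr (Or.inr (Or.inl rfl)))
  · intro hc
    have h2 := Subgroup.mem_centralizer_iff.mp hc _
      (d.ι_mem_fourG.mpr (mem_four.mpr (Or.inr (Or.inr (Or.inl rfl)))) :
        d.ι (DihedralGroup.sr i) ∈ d.fourG i)
    rw [← map_mul, ← map_mul] at h2
    have h3 := d.ι_injective h2
    rw [DihedralGroup.sr_mul_r, DihedralGroup.r_mul_sr, DihedralGroup.sr.injEq] at h3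
    refine h_ne_zero (h := h) ?_
    rw [← hll]
    calc (l : ZMod (2 * h)) + l = i + l - (i - l) := by abel
      _ = 0 := by rw [h3, sub_self]

theorem index_cases (i : ZMod (2 * h)) :
    Subgroup.normalizer (d.fourG i : Set G) = Subgroup.centralizer (d.fourG i : Set G) ⊔
        ((S : Subgroup G) ⊓ Subgroup.normalizer (d.fourG i : Set G)) ∧
      (Subgroup.centralizer (d.fourG i : Set G)).relIndex (Subgroup.normalizer (d.fourG i : Set G)) =
        (if h = 1 then 1 else 2) ∨
    (Subgroup.centralizer (d.fourG i : Set G)).relIndex (Subgroup.normalizer (d.fourG i : Set G)) =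
        (if h = 1 then 3 else 6) := by
  have := d.neZero
  set U := d.fourG i
  obtain ⟨hn, h6⟩ := relIndex_four_dvd U (d.klein_fourG i).card_four
  by_cases h1 : h = 1
  · simp only [h1, ↓reduceIte]
    have hUS : U = (S : Subgroup G) := d.fourG_eq_S h1 i
    have hSC : (S : Subgroup G) ≤ Subgroup.centralizer (U : Set G) := by
      intro s hs
      refine Subgroup.mem_centralizer_iff.mpr fun a ha => ?_
      have := d.klein_fourG i
      exact congrArg Subtype.val (mul_comm_of_exponent_two (G := U) IsKleinFour.exponent_two ⟨a, ha⟩ ⟨s, hUS ▸ hs⟩)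
    have hodd : ¬ 2 ∣ (Subgroup.centralizer (U : Set G)).relIndex (Subgroup.normalizer (U : Set G)) :=
      fun h2 => S.not_dvd_index ((h2.trans (Subgroup.relIndex_dvd_index_of_le
        (Subgroup.centralizer_le_normalizer _))).trans (Subgroup.index_dvd_of_le hSC))
    set r := (Subgroup.centralizer (U : Set G)).relIndex (Subgroup.normalizer (U : Set G)) with hr
    have hle := Nat.le_of_dvd (by norm_num) h6
    by_cases hr1 : r = 1
    · refine Or.inl ⟨le_antisymm (le_sup_of_le_left (Subgroup.relIndex_eq_one.mp hr1)) ?_, hr1⟩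
      exact sup_le (Subgroup.centralizer_le_normalizer _) inf_le_right
    · refine Or.inr ?_
      interval_cases r <;> omega
  · simp only [h1, ↓reduceIte]
    obtain ⟨s, hs, hsN, hsC⟩ := d.mover (i := i) h1
    obtain ⟨j, hj⟩ := IsPGroup.iff_orderOf.mp S.2 ⟨s, hs⟩
    rcases two_or_six (hn := hn) h6 hsN hsC (k := j)
      (by rw [← hj, Subgroup.orderOf_mk, pow_orderOf_eq_one]) with h2 | h2
    · refine Or.inl ⟨le_antisymm (fun m hm => ?_) (sup_le (Subgroup.centralizer_le_normalizer _) inf_le_right), h2⟩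
      rcases index_two_cases h2 hsN hsC hm with hc | hc
      · exact Subgroup.mem_sup_left hc
      · have := mul_mem (Subgroup.mem_sup_right (Subgroup.mem_inf.mpr ⟨hs, hsN⟩) :
          s ∈ Subgroup.centralizer (U : Set G) ⊔ ((S : Subgroup G) ⊓ Subgroup.normalizer (U : Set G)))
          (Subgroup.mem_sup_left hc)
        rwa [mul_inv_cancel_left] at this
    · exact Or.inr h2

theorem exists_odd {i : ZMod (2 * h)}
    (hi : (Subgroup.centralizer (d.fourG i : Set G)).relIndex (Subgroup.normalizer (d.fourG i : Set G)) =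
      (if h = 1 then 3 else 6)) :
    ∃ g ∈ Subgroup.normalizer (d.fourG i : Set G), Odd (orderOf g) ∧
      g ∉ Subgroup.centralizer (d.fourG i : Set G) := by
  have := (relIndex_four_dvd (d.fourG i) (d.klein_fourG i).card_four).1
  refine exists_odd_of_three_dvd ?_
  rw [hi]
  split_ifs <;> norm_num

theorem all_eq_iff (d : Frame S h) {m : ℕ} (eS : (S : Subgroup G) ≃* DihedralGroup m) :
    Cfsg.HasNormalPComplement 2 G ↔ ∀ U : Subgroup G, U ≤ S → IsKleinFour U →
      Subgroup.normalizer (U : Set G) =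
        Subgroup.centralizer (U : Set G) ⊔ ((S : Subgroup G) ⊓ Subgroup.normalizer (U : Set G)) := by
  have : Fact (Nat.Prime 2) := ⟨Nat.prime_two⟩
  constructor
  · intro hnpc U hUS hU
    obtain ⟨i, rfl⟩ := d.eq_fourG hUS hU
    rcases d.index_cases i with ⟨he, -⟩ | h6
    · exact he
    · exfalso
      obtain ⟨g, hg, hodd, hgC⟩ := d.exists_odd h6
      exact hgC (pAutomizers_of_hasNormalPComplement hnpc _ (S.2.to_le (d.fourG_le i)) g hg
        hodd.coprime_two_right)
  · intro hall
    refine hasNormalPComplement_of_no_fusion S fun a ha g hg => ?_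
    refine fusion_invariant S
      (fun u v => u ∈ (S : Subgroup G) → ∃ z ∈ (S : Subgroup G), z * u * z⁻¹ = v)
      (fun u _ => ⟨1, one_mem _, by simp⟩)
      (fun u v w h1 h2 hu => by
        obtain ⟨y, hy, rfl⟩ := h1 hu
        obtain ⟨z, hz, rfl⟩ := h2 (mul_mem (mul_mem hy hu) (inv_mem hy))
        exact ⟨z * y, mul_mem hz hy, by group⟩)
      (fun u _ s hs _ => ⟨s, hs, rfl⟩) (fun E hES hEc hEA m hm u hu _ => ?_) ha hg ha
    obtain ⟨i, rfl⟩ := d.centric_four hES hEc hEA
    obtain ⟨s, hs, he⟩ :=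
      actsLike_of_normalizer_eq (hall _ (d.fourG_le i) (d.klein_fourG i)) m hm
    exact ⟨s, hs, (he u hu).symm⟩

theorem exists_index_two_of_acts {i₀ : ZMod (2 * h)}
    (hi₀ : ActsLike (S : Subgroup G) (d.fourG i₀)) : ∃ K : Subgroup G, K.index = 2 := by
  have := d.neZero
  have : Fact (Nat.Prime 2) := ⟨Nat.prime_two⟩
  set ε : ZMod 2 := χ h i₀ + 1
  set M := (par h ε).map d.ι with hM
  have hMS : M ≤ (S : Subgroup G) := by rintro _ ⟨v, -, rfl⟩; exact d.ι_mem v
  have hmem : ∀ v, d.ι v ∈ M ↔ v ∈ par h ε := fun v => Subgroup.mem_map_iff_mem d.ι_injective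
  have hS : ∀ b ∈ (S : Subgroup G), ∀ s ∈ (S : Subgroup G), s * b * s⁻¹ ∈ M ↔ b ∈ M := by
    intro b hb s hs
    obtain ⟨u, rfl⟩ := d.exists_ι hb
    obtain ⟨t, rfl⟩ := d.exists_ι hs
    have h2 := index_par (h := h) ε
    rw [← map_inv, ← map_mul, ← map_mul, hmem, hmem, Subgroup.mul_mem_iff_of_index_two h2,
      Subgroup.mul_mem_iff_of_index_two h2, Subgroup.inv_mem_iff]
    by_cases hA : t ∈ par h ε <;> simp [hA]
  have hcases : ∀ i, ActsLike (S : Subgroup G) (d.fourG i) ∨ d.fourG i ≤ M := by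
    intro i
    by_cases h1 : h = 1
    · exact Or.inl (by rw [(d.fourG_eq_S h1 i).trans (d.fourG_eq_S h1 i₀).symm]; exact hi₀)
    by_cases hp : χ h i₀ = χ h i
    · obtain ⟨s, hs, he⟩ := d.fourG_conj hp
      exact Or.inl (he ▸ hi₀.map hs)
    · refine Or.inr (Subgroup.map_mono ?_)
      have hi : χ h i = ε := zmod_two_ne _ _ hp
      intro v hv
      rcases mem_four.mp hv with rfl | rfl | rfl | rfl
      · exact r_mem_par.mpr (map_zero _)
      · exact r_mem_par.mpr (d.χ_h h1)
      · exact sr_mem_par.mpr hi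
      · exact sr_mem_par.mpr (by rw [map_add, d.χ_h h1, add_zero, hi])
  obtain ⟨K, -, hK, -⟩ := exists_index_two S M hMS (by
    rw [Subgroup.relIndex, show M.subgroupOf (S : Subgroup G) = (par h ε).comap d.e.toMonoidHom by
      ext s
      rw [Subgroup.mem_subgroupOf, Subgroup.mem_comap]
      exact ((congrArg (fun q : (S : Subgroup G) => (q : G)) (d.e.symm_apply_apply s)).symm ▸
        hmem (d.e s))]
    rw [Subgroup.index_comap_of_surjective _ d.e.surjective, index_par])
    (fun a ha g hg => by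
      refine fusion_invariant S (fun u v => v ∈ M ↔ u ∈ M) (fun _ => Iff.rfl)
        (fun _ _ _ h1 h2 => h2.trans h1) hS (fun E hES hEc hEA m hm b hb => ?_) ha hg
      obtain ⟨i, rfl⟩ := d.centric_four hES hEc hEA
      rcases hcases i with hact | hle
      · obtain ⟨s, hs, he⟩ := hact m hm
        rw [he b hb]; exact hS b (hES hb) s hs
      · exact iff_of_true (hle ((Subgroup.mem_normalizer_iff.mp hm b).mp hb)) (hle hb))
  exact ⟨K, hK⟩

theorem ι_isConj {u v : DihedralGroup (2 * h)} (huv : IsConj u v) : IsConj (d.ι u) (d.ι v) :=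
  d.ι.map_isConj huv

/-- If all four-groups are moved, all involutions are conjugate. -/
theorem one_class_of_moves
    (hall : ∀ i, (Subgroup.centralizer (d.fourG i : Set G)).relIndex
      (Subgroup.normalizer (d.fourG i : Set G)) = (if h = 1 then 3 else 6))
    {a b : G} (ha : orderOf a = 2) (hb : orderOf b = 2) : IsConj a b := by
  have := d.neZero
  have key : ∀ t : G, orderOf t = 2 → IsConj t (d.ι (DihedralGroup.r (h : ZMod (2 * h)))) := by
    intro t ht
    obtain ⟨s, hs, hts⟩ := exists_conj_mem S (k := 1) (by rw [pow_one]; exact ht)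
    obtain ⟨g, hg⟩ := isConj_iff.mp hts
    refine hts.trans ?_
    obtain ⟨v, rfl⟩ := d.exists_ι hs
    have hv : orderOf v = 2 := by
      rw [← orderOf_injective d.ι d.ι_injective v, ← hg, ← MulAut.conj_apply, MulEquiv.orderOf_eq, ht]
    rcases v with i | i
    · have h2 : DihedralGroup.r i * DihedralGroup.r i = 1 := by
        rw [← pow_two]
        exact orderOf_dvd_iff_pow_eq_one.mp hv.dvd
      rw [DihedralGroup.r_mul_r, DihedralGroup.one_def, DihedralGroup.r.injEq] at h2
      rcases eq_zero_or_h h2 with rfl | rfl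
      · rw [← DihedralGroup.one_def, orderOf_one] at hv; omega
      · exact IsConj.refl _
    · obtain ⟨m, hm, hodd, hmC⟩ := d.exists_odd (hall i)
      obtain ⟨e, he⟩ := four_moves (d.klein_fourG i).card_four hm hodd hmC
        (d.ι_mem_fourG.mpr (mem_four.mpr (Or.inr (Or.inr (Or.inl rfl)))))
        (d.ι_mem_fourG.mpr (mem_four.mpr (Or.inr (Or.inl rfl))))
        (fun e => by have := d.ι_injective (e.trans (map_one d.ι).symm); cases this)
        (fun e => by
          have := d.ι_injective (e.trans (map_one d.ι).symm)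
          rw [DihedralGroup.one_def, DihedralGroup.r.injEq] at this
          exact h_ne_zero this)
      exact isConj_iff.mpr ⟨_, he⟩
  exact (key a ha).trans (key b hb).symm

theorem no_isolated_of_one_class (hone : ∀ a b : G, orderOf a = 2 → orderOf b = 2 → IsConj a b)
    (d : Frame S h) (z : G) : ¬ Cfsg.IsIsolatedInvolution z := by
  have := d.neZero
  intro hz
  set c := d.ι (DihedralGroup.r (h : ZMod (2 * h)))
  set t := d.ι (DihedralGroup.sr 0)
  have hc : orderOf c = 2 := by
    rw [orderOf_injective d.ι d.ι_injective]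
    refine orderOf_eq_prime (by rw [pow_two, DihedralGroup.r_mul_r, h_add_h, DihedralGroup.r_zero])
      fun e => ?_
    rw [DihedralGroup.one_def, DihedralGroup.r.injEq] at e
    exact h_ne_zero e
  have ht : orderOf t = 2 := by rw [orderOf_injective d.ι d.ι_injective, DihedralGroup.orderOf_sr]
  obtain ⟨g, hg⟩ := isConj_iff.mp (hone z c hz.1 hc)
  obtain ⟨u, hu⟩ := isConj_iff.mp (hone z t hz.1 ht)
  have hcomm : Commute c t := by
    show d.ι _ * d.ι _ = d.ι _ * d.ι _
    rw [← map_mul, ← map_mul, DihedralGroup.r_mul_sr, DihedralGroup.sr_mul_r, sub_eq_add_neg, neg_h]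
  have e1 : g⁻¹ * t * g = (g⁻¹ * u) * z * (g⁻¹ * u)⁻¹ := by rw [← hu]; group
  have h2 := hz.2 (g⁻¹ * u) (by
    rw [← e1]
    show z * (g⁻¹ * t * g) = g⁻¹ * t * g * z
    calc z * (g⁻¹ * t * g) = g⁻¹ * ((g * z * g⁻¹) * t) * g := by group
      _ = g⁻¹ * (t * (g * z * g⁻¹)) * g := by rw [hg, hcomm.eq]
      _ = _ := by group)
  rw [← e1] at h2
  have h3 : t = c := by
    rw [← hg]
    calc t = g * (g⁻¹ * t * g) * g⁻¹ := by group
      _ = g * z * g⁻¹ := by rw [h2]
  have := d.ι_injective h3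
  cases this

theorem no_index_two_of_one_class (hone : ∀ a b : G, orderOf a = 2 → orderOf b = 2 → IsConj a b)
    (d : Frame S h) (H : Subgroup G) : H.index ≠ 2 := by
  have := d.neZero
  intro hH
  obtain ⟨s, hs, hsH⟩ := exists_sylow_notMem' S H hH
  have horder : ∀ i, orderOf (d.ι (DihedralGroup.sr i)) = 2 := fun i => by
    rw [orderOf_injective d.ι d.ι_injective, DihedralGroup.orderOf_sr]
  have hc : orderOf (d.ι (DihedralGroup.r (h : ZMod (2 * h)))) = 2 := by
    rw [orderOf_injective d.ι d.ι_injective]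
    refine orderOf_eq_prime (by rw [pow_two, DihedralGroup.r_mul_r, h_add_h, DihedralGroup.r_zero])
      fun e => ?_
    rw [DihedralGroup.one_def, DihedralGroup.r.injEq] at e
    exact h_ne_zero e
  have hsame : ∀ a b : G, orderOf a = 2 → orderOf b = 2 → (a ∈ H ↔ b ∈ H) := fun a b ha hb =>
    mem_iff_of_conj hH (hone a b ha hb)
  have hin : ∀ i, d.ι (DihedralGroup.sr i) ∈ H := by
    intro i
    have hm := Subgroup.mul_mem_iff_of_index_two hH (a := d.ι (DihedralGroup.r (h : ZMod (2 * h))))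
      (b := d.ι (DihedralGroup.sr i))
    rw [← map_mul, DihedralGroup.r_mul_sr] at hm
    exact (hsame _ _ (horder _) (horder i)).mp (hm.mpr (hsame _ _ hc (horder i)))
  refine hsH ?_
  obtain ⟨v, rfl⟩ := d.exists_ι hs
  rcases v with i | i
  · rw [show DihedralGroup.r i = DihedralGroup.sr 0 * DihedralGroup.sr i by
      rw [DihedralGroup.sr_mul_sr, sub_zero], map_mul]
    exact mul_mem (hin 0) (hin i)
  · exact hin i

theorem classes_of_fours (d : Frame S h) (h1 : h ≠ 1) :
    ∃ U₁ U₂ : Subgroup G, IsKleinFour U₁ ∧ IsKleinFour U₂ ∧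
      ¬ (∃ x : G, U₁.map (MulAut.conj x).toMonoidHom = U₂) ∧
      ∀ V : Subgroup G, IsKleinFour V → (∃ x : G, V.map (MulAut.conj x).toMonoidHom = U₁) ∨
        (∃ x : G, V.map (MulAut.conj x).toMonoidHom = U₂) := by
  have := d.neZero
  have : Fact (Nat.Prime 2) := ⟨Nat.prime_two⟩
  refine ⟨d.fourG 0, d.fourG 1, d.klein_fourG 0, d.klein_fourG 1, ?_, fun V hV => ?_⟩
  · rintro ⟨x, hx⟩
    set M := (par h 0).map d.ι
    let P : Set G → Prop := fun A => A ⊆ (M : Set G) ∧ ∃ W : Subgroup G, A = W ∧ Nat.card W = 4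
    have hMS : M ≤ (S : Subgroup G) := by rintro _ ⟨v, -, rfl⟩; exact d.ι_mem v
    have hrconj : ∀ (m : G) (W : Subgroup G), rconj m (W : Set G) =
        (W.map (MulAut.conj m⁻¹).toMonoidHom : Set G) := by
      intro m W
      rw [Subgroup.coe_map]
      refine Set.image_congr fun a _ => ?_
      simp [MulAut.conj_apply]
    have key := fusion_set S P (fun A hA => hA.1.trans hMS) (fun A hA s hs => ?_)
      (fun E hES hEc hEA m hm A hA hAE => ?_) (A := (d.fourG 0 : Set G)) (g := x⁻¹) ⟨?_, d.fourG 0, rfl,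
        (d.klein_fourG 0).card_four⟩ (by rw [hrconj, inv_inv, hx]; exact d.fourG_le 1)
    · rw [hrconj, inv_inv, hx] at key
      have h2 := key.1 (d.ι_mem_fourG.mpr (mem_four.mpr (Or.inr (Or.inr (Or.inl rfl)))) :
        d.ι (DihedralGroup.sr 1) ∈ d.fourG 1)
      have h3 := (Subgroup.mem_map_iff_mem d.ι_injective).mp h2
      rw [sr_mem_par, map_one] at h3
      exact one_ne_zero h3
    · obtain ⟨hAM, W, rfl, hW⟩ := hA
      refine ⟨?_, _, hrconj s W, (card_conj_map _ W).trans hW⟩
      rintro _ ⟨a, ha, rfl⟩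
      obtain ⟨v, hv, rfl⟩ := hAM ha
      obtain ⟨t, rfl⟩ := d.exists_ι hs
      simp only [SetLike.mem_coe, ← map_inv, ← map_mul]
      refine Subgroup.mem_map_of_mem _ ?_
      have hn : (par h 0).Normal := Subgroup.normal_of_index_eq_two (index_par 0)
      simpa using hn.conj_mem v hv t⁻¹
    · obtain ⟨i, rfl⟩ := d.centric_four hES hEc hEA
      obtain ⟨hAM, W, rfl, hW⟩ := hA
      have hWE : W = d.fourG i :=
        Subgroup.eq_of_le_of_card_ge hAE (by rw [(d.klein_fourG i).card_four, hW])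
      subst hWE
      rw [hrconj, map_conj_eq_self_iff.mpr (inv_mem hm)]
      exact ⟨hAM, _, rfl, hW⟩
    · rintro _ ⟨v, hv, rfl⟩
      refine Subgroup.mem_map_of_mem _ ?_
      rcases mem_four.mp hv with rfl | rfl | rfl | rfl
      · exact r_mem_par.mpr (map_zero _)
      · exact r_mem_par.mpr (d.χ_h h1)
      · exact sr_mem_par.mpr (map_zero _)
      · exact sr_mem_par.mpr (by rw [map_add, d.χ_h h1, map_zero, add_zero])
  · have hp : IsPGroup 2 V := IsPGroup.of_card (n := 2) hV.card_four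
    obtain ⟨Q, hQ⟩ := hp.exists_le_sylow
    obtain ⟨g, hg⟩ := MulAction.exists_smul_eq G Q S
    let e := V.equivMapOfInjective (MulAut.conj g).toMonoidHom (MulAut.conj g).injective
    have hK : IsKleinFour (V.map (MulAut.conj g).toMonoidHom) :=
      { card_four := (Nat.card_congr e.toEquiv).symm.trans hV.card_four
        exponent_two := (Monoid.exponent_eq_of_mulEquiv e).symm.trans hV.exponent_two }
    obtain ⟨i, hi⟩ := d.eq_fourG (by rw [← hg]; exact Subgroup.map_mono hQ) hK
    rcases zmod_two_cases (χ h i) with h3 | h3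
    · obtain ⟨s, -, hs⟩ := d.fourG_conj (i := i) (j := 0) (by rw [h3, map_zero])
      exact Or.inl ⟨s * g, by rw [← map_conj_mul, hi, hs]⟩
    · obtain ⟨s, -, hs⟩ := d.fourG_conj (i := i) (j := 1) (by rw [h3, map_one])
      exact Or.inr ⟨s * g, by rw [← map_conj_mul, hi, hs]⟩

end Frame

end CfsgLib.SmallTwo.Dih
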