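import Mathlib
import Cfsg.Agent.Lib.SmallTwo.WreathedAut
import Cfsg.Agent.Lib.Fusion.CyclicIndexTwo

/-!
Four-subgroups, self-centralizing subgroups and maximal subgroups of the dihedral group of order
`4 * h`.
-/

set_option autoImplicit false

namespace CfsgLib.SmallTwo.Dih

variable {h : ℕ}

/-- Parity of an exponent. -/
def χ (h : ℕ) : ZMod (2 * h) →+* ZMod 2 := ZMod.castHom (dvd_mul_right 2 h) (ZMod 2)

theorem h_add_h : (h : ZMod (2 * h)) + h = 0 := by
  rw [← Nat.cast_add, ← two_mul, ZMod.natCast_self]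

theorem neg_h : -(h : ZMod (2 * h)) = h := neg_eq_of_add_eq_zero_right h_add_h

theorem χ_two_mul (i : ZMod (2 * h)) : χ h (i + i) = 0 := by
  rw [map_add]
  exact CharTwo.add_self_eq_zero _

theorem eq_zero_or_h [NeZero h] {i : ZMod (2 * h)} (hi : i + i = 0) : i = 0 ∨ i = (h : ZMod (2 * h)) := by
  have h1 : ((i.val + i.val : ℕ) : ZMod (2 * h)) = 0 := by simpa using hi
  rw [ZMod.natCast_eq_zero_iff] at h1
  obtain ⟨c, hc⟩ := h1
  have hlt := ZMod.val_lt i
  have hc2 : c < 2 := by
    by_contra hcon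
    have : 2 * h * 2 ≤ 2 * h * c := Nat.mul_le_mul_left _ (by omega)
    omega
  interval_cases c
  · exact Or.inl (by rw [← ZMod.natCast_zmod_val i, show i.val = 0 by omega, Nat.cast_zero])
  · exact Or.inr (by rw [← ZMod.natCast_zmod_val i, show i.val = h by omega])

theorem exists_double [NeZero h] {i j : ZMod (2 * h)} (hij : χ h i = χ h j) :
    ∃ k, i = j + (k + k) := by
  obtain ⟨a, ha⟩ : ∃ a : ℕ, i - j = (a : ZMod (2 * h)) := ⟨_, (ZMod.natCast_zmod_val _).symm⟩
  have h0 : ((a : ℕ) : ZMod 2) = 0 := by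
    rw [← map_natCast (χ h), ← ha, map_sub, hij, sub_self]
  rw [ZMod.natCast_eq_zero_iff] at h0
  obtain ⟨b, rfl⟩ := h0
  refine ⟨(b : ZMod (2 * h)), ?_⟩
  rw [← Nat.cast_add, ← two_mul, ← ha]
  abel

theorem r_conj_sr (j i : ZMod (2 * h)) :
    DihedralGroup.r j * DihedralGroup.sr i * (DihedralGroup.r j)⁻¹ = DihedralGroup.sr (i - (j + j)) := by
  rw [DihedralGroup.inv_r, DihedralGroup.r_mul_sr, DihedralGroup.sr_mul_r]
  congr 1; abel

theorem sr_conj_r (j i : ZMod (2 * h)) :
    DihedralGroup.sr j * DihedralGroup.r i * (DihedralGroup.sr j)⁻¹ = DihedralGroup.r (-i) := by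
  rw [DihedralGroup.inv_sr, DihedralGroup.sr_mul_r, DihedralGroup.sr_mul_sr]
  congr 1; abel

theorem r_conj_r (j i : ZMod (2 * h)) :
    DihedralGroup.r j * DihedralGroup.r i * (DihedralGroup.r j)⁻¹ = DihedralGroup.r i := by
  rw [DihedralGroup.inv_r, DihedralGroup.r_mul_r, DihedralGroup.r_mul_r]
  congr 1; abel

/-- The four-group `{1, z, sr i, sr (i + h)}`. -/
def four (h : ℕ) (i : ZMod (2 * h)) : Subgroup (DihedralGroup (2 * h)) where
  carrier := {g | g = DihedralGroup.r 0 ∨ g = DihedralGroup.r (h : ZMod (2 * h)) ∨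
    g = DihedralGroup.sr i ∨ g = DihedralGroup.sr (i + (h : ZMod (2 * h)))}
  one_mem' := Or.inl (DihedralGroup.one_def)
  mul_mem' := by
    have e : i + h + h = i := by rw [add_assoc, h_add_h, add_zero]
    have e1 : i - h = i + h := by rw [sub_eq_add_neg, neg_h]
    have e2 : ∀ x : ZMod (2 * h), x - h = x + h := fun x => by rw [sub_eq_add_neg, neg_h]
    rintro a b (rfl | rfl | rfl | rfl) (rfl | rfl | rfl | rfl) <;>
      simp [DihedralGroup.r_mul_r, DihedralGroup.r_mul_sr, DihedralGroup.sr_mul_r,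
        DihedralGroup.sr_mul_sr, h_add_h, e, e1, neg_h]
  inv_mem' := by
    rintro a (rfl | rfl | rfl | rfl) <;>
      simp [DihedralGroup.inv_r, DihedralGroup.inv_sr, neg_h]

theorem mem_four {i : ZMod (2 * h)} {g : DihedralGroup (2 * h)} :
    g ∈ four h i ↔ g = DihedralGroup.r 0 ∨ g = DihedralGroup.r (h : ZMod (2 * h)) ∨
      g = DihedralGroup.sr i ∨ g = DihedralGroup.sr (i + (h : ZMod (2 * h))) := Iff.rfl

theorem h_ne_zero [NeZero h] : (h : ZMod (2 * h)) ≠ 0 := by
  intro e
  rw [ZMod.natCast_eq_zero_iff] at e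
  have := Nat.le_of_dvd (Nat.pos_of_neZero h) e
  have := Nat.pos_of_neZero h
  omega

theorem four_mul_self {i : ZMod (2 * h)} {g : DihedralGroup (2 * h)} (hg : g ∈ four h i) : g * g = 1 := by
  rcases mem_four.mp hg with rfl | rfl | rfl | rfl <;>
    simp [DihedralGroup.r_mul_r, DihedralGroup.sr_mul_sr, h_add_h]

theorem card_four [NeZero h] (i : ZMod (2 * h)) : Nat.card (four h i) = 4 := by
  have e : (four h i : Set (DihedralGroup (2 * h))) =
      {DihedralGroup.r 0, DihedralGroup.r (h : ZMod (2 * h)), DihedralGroup.sr i,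
        DihedralGroup.sr (i + (h : ZMod (2 * h)))} := by
    ext g; simp [mem_four]
  show Nat.card ↥(four h i : Set (DihedralGroup (2 * h))) = 4
  rw [e, Nat.card_coe_set_eq, Set.ncard_insert_of_notMem, Set.ncard_insert_of_notMem,
    Set.ncard_pair]
  · simp [h_ne_zero]
  · simp [DihedralGroup.r.injEq]
  · simp [Ne.symm h_ne_zero, -DihedralGroup.r_zero]

theorem klein_four [NeZero h] (i : ZMod (2 * h)) : IsKleinFour (four h i) := by
  refine { card_four := card_four i, exponent_two := ?_ }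
  have hdvd : Monoid.exponent (four h i) ∣ 2 :=
    Monoid.exponent_dvd_of_forall_pow_eq_one fun g => Subtype.ext (by
      simpa [pow_two] using four_mul_self g.2)
  rcases (Nat.dvd_prime Nat.prime_two).mp hdvd with h1 | h1
  · have hc := card_four i
    have := Monoid.exp_eq_one_iff.mp h1
    rw [Nat.card_of_subsingleton (1 : four h i)] at hc
    omega
  · exact h1

theorem four_conj [NeZero h] {i j : ZMod (2 * h)} (hij : χ h i = χ h j) :
    ∃ g, (four h i).map (MulAut.conj g).toMonoidHom = four h j := by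
  obtain ⟨k, rfl⟩ := exists_double hij
  refine ⟨DihedralGroup.r k, ?_⟩
  have key : ∀ v, v ∈ four h (j + (k + k)) →
      DihedralGroup.r k * v * (DihedralGroup.r k)⁻¹ ∈ four h j := by
    intro v hv
    rcases mem_four.mp hv with rfl | rfl | rfl | rfl
    · rw [r_conj_r]; exact mem_four.mpr (Or.inl rfl)
    · rw [r_conj_r]; exact mem_four.mpr (Or.inr (Or.inl rfl))
    · rw [r_conj_sr, add_sub_cancel_right]; exact mem_four.mpr (Or.inr (Or.inr (Or.inl rfl)))
    · rw [r_conj_sr, show j + (k + k) + h - (k + k) = j + h by abel]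
      exact mem_four.mpr (Or.inr (Or.inr (Or.inr rfl)))
  refine Subgroup.eq_of_le_of_card_ge (by rintro _ ⟨v, hv, rfl⟩; exact key v hv) ?_
  rw [Subgroup.card_map_of_injective (MulAut.conj _).injective, card_four, card_four]

theorem four_eq_of_klein [NeZero h] (T : Subgroup (DihedralGroup (2 * h))) [IsKleinFour T] :
    ∃ i, T = four h i := by
  have hsq : ∀ g ∈ T, g * g = 1 := fun g hg =>
    congrArg Subtype.val (IsKleinFour.mul_self (⟨g, hg⟩ : T))
  have hr : ∀ k, DihedralGroup.r k ∈ T → k = 0 ∨ k = (h : ZMod (2 * h)) := by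
    intro k hk
    have := hsq _ hk
    rw [DihedralGroup.r_mul_r, DihedralGroup.one_def, DihedralGroup.r.injEq] at this
    exact eq_zero_or_h this
  obtain ⟨i, hi⟩ : ∃ i, DihedralGroup.sr i ∈ T := by
    by_contra hcon
    push Not at hcon
    have hsub : (T : Set (DihedralGroup (2 * h))) ⊆
        {DihedralGroup.r 0, DihedralGroup.r (h : ZMod (2 * h))} := by
      rintro (k | k) hk
      · rcases hr k hk with rfl | rfl <;> simp
      · exact absurd hk (hcon k)
    have h1 := Set.ncard_le_ncard hsub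
    rw [← Nat.card_coe_set_eq, show Nat.card ↥(T : Set (DihedralGroup (2 * h))) = 4 from IsKleinFour.card_four] at h1
    have h2 := Set.ncard_insert_le (DihedralGroup.r 0)
      ({DihedralGroup.r (h : ZMod (2 * h))} : Set (DihedralGroup (2 * h)))
    rw [Set.ncard_singleton] at h2
    omega
  refine ⟨i, Subgroup.eq_of_le_of_card_ge ?_ (by rw [card_four, IsKleinFour.card_four])⟩
  rintro (k | k) hk
  · rcases hr k hk with rfl | rfl
    · exact mem_four.mpr (Or.inl rfl)
    · exact mem_four.mpr (Or.inr (Or.inl rfl))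
  · have := mul_mem hi hk
    rw [DihedralGroup.sr_mul_sr] at this
    rcases hr _ this with e | e
    · rw [sub_eq_zero.mp e]; exact mem_four.mpr (Or.inr (Or.inr (Or.inl rfl)))
    · rw [sub_eq_iff_eq_add'.mp e]; exact mem_four.mpr (Or.inr (Or.inr (Or.inr rfl)))

theorem centralizer_four [NeZero h] (i : ZMod (2 * h)) :
    Subgroup.centralizer (four h i : Set (DihedralGroup (2 * h))) = four h i := by
  refine le_antisymm ?_ fun g hg => Subgroup.mem_centralizer_iff.mpr fun v hv => ?_
  · intro g hg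
    have hc := Subgroup.mem_centralizer_iff.mp hg _
      (mem_four.mpr (Or.inr (Or.inr (Or.inl rfl))) : DihedralGroup.sr i ∈ four h i)
    rcases g with k | k
    · rw [DihedralGroup.sr_mul_r, DihedralGroup.r_mul_sr, DihedralGroup.sr.injEq] at hc
      have e : k + k = 0 := by
        calc k + k = i + k - (i - k) := by abel
          _ = 0 := by rw [hc, sub_self]
      rcases eq_zero_or_h e with rfl | rfl
      · exact mem_four.mpr (Or.inl rfl)
      · exact mem_four.mpr (Or.inr (Or.inl rfl))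
    · rw [DihedralGroup.sr_mul_sr, DihedralGroup.sr_mul_sr, DihedralGroup.r.injEq] at hc
      have e : (k - i) + (k - i) = 0 := by
        nth_rewrite 1 [hc]
        abel
      rcases eq_zero_or_h e with e' | e'
      · rw [sub_eq_zero.mp e']; exact mem_four.mpr (Or.inr (Or.inr (Or.inl rfl)))
      · rw [sub_eq_iff_eq_add'.mp e']; exact mem_four.mpr (Or.inr (Or.inr (Or.inr rfl)))
  · have := four_mul_self (mul_mem hv hg)
    have hv' := four_mul_self hv
    have hg' := four_mul_self hg
    calc v * g = v * g * ((g * v) * (v * g)⁻¹) := by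
          rw [mul_inv_rev, show g * v * (g⁻¹ * v⁻¹) = g * v * (g * v) by
            rw [inv_eq_of_mul_eq_one_right hg', inv_eq_of_mul_eq_one_right hv'],
            four_mul_self (mul_mem hg hv), mul_one]
      _ = g * v := by
          rw [mul_inv_rev, inv_eq_of_mul_eq_one_right hg', inv_eq_of_mul_eq_one_right hv']
          calc v * g * (g * v * (g * v)) = v * (g * g) * v * (g * v) := by group
            _ = g * v := by rw [hg', mul_one, hv', one_mul]

/-- The index two subgroup of even rotations and reflections of parity `ε`. -/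
def par (h : ℕ) (ε : ZMod 2) : Subgroup (DihedralGroup (2 * h)) where
  carrier := {g | (∃ i, g = DihedralGroup.r i ∧ χ h i = 0) ∨ (∃ i, g = DihedralGroup.sr i ∧ χ h i = ε)}
  one_mem' := Or.inl ⟨0, DihedralGroup.one_def, map_zero _⟩
  mul_mem' := by
    rintro a b (⟨i, rfl, hi⟩ | ⟨i, rfl, hi⟩) (⟨j, rfl, hj⟩ | ⟨j, rfl, hj⟩)
    · exact Or.inl ⟨_, DihedralGroup.r_mul_r .., by rw [map_add, hi, hj, add_zero]⟩
    · exact Or.inr ⟨_, DihedralGroup.r_mul_sr .., by rw [map_sub, hi, hj, sub_zero]⟩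
    · exact Or.inr ⟨_, DihedralGroup.sr_mul_r .., by rw [map_add, hi, hj, add_zero]⟩
    · exact Or.inl ⟨_, DihedralGroup.sr_mul_sr .., by rw [map_sub, hi, hj, sub_self]⟩
  inv_mem' := by
    rintro a (⟨i, rfl, hi⟩ | ⟨i, rfl, hi⟩)
    · exact Or.inl ⟨_, DihedralGroup.inv_r .., by rw [map_neg, hi, neg_zero]⟩
    · exact Or.inr ⟨_, DihedralGroup.inv_sr .., hi⟩

theorem sr_mem_par {ε : ZMod 2} {i : ZMod (2 * h)} : DihedralGroup.sr i ∈ par h ε ↔ χ h i = ε := by
  refine ⟨?_, fun hi => Or.inr ⟨i, rfl, hi⟩⟩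
  rintro (⟨j, e, -⟩ | ⟨j, e, hj⟩)
  · cases e
  · rw [DihedralGroup.sr.injEq] at e; rw [e]; exact hj

theorem r_mem_par {ε : ZMod 2} {i : ZMod (2 * h)} : DihedralGroup.r i ∈ par h ε ↔ χ h i = 0 := by
  refine ⟨?_, fun hi => Or.inl ⟨i, rfl, hi⟩⟩
  rintro (⟨j, e, hj⟩ | ⟨j, e, -⟩)
  · rw [DihedralGroup.r.injEq] at e; rw [e]; exact hj
  · cases e

theorem index_par (ε : ZMod 2) : (par h ε).index = 2 := by
  have two : ∀ a : ZMod 2, Xor (a + 1 = 0) (a = 0) := by decide
  have twoε : ∀ a ε : ZMod 2, Xor (a + 1 = ε) (a = ε) := by decide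
  rw [Subgroup.index_eq_two_iff]
  refine ⟨DihedralGroup.r 1, fun g => ?_⟩
  rcases g with i | i
  · rw [DihedralGroup.r_mul_r, r_mem_par, r_mem_par, map_add, map_one]
    exact two _
  · rw [DihedralGroup.sr_mul_r, sr_mem_par, sr_mem_par, map_add, map_one]
    exact twoε _ _

/-- A self-centralizing subgroup with automorphism group not a 2-group is a four-group. -/
theorem centric_cases [NeZero h] {k : ℕ} (hk : h = 2 ^ k) (X : Subgroup (DihedralGroup (2 * h)))
    (hC : Subgroup.centralizer (X : Set (DihedralGroup (2 * h))) ≤ X)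
    (hA : ¬ IsPGroup 2 (MulAut X)) : ∃ i, X = four h i := by
  have hP : IsPGroup 2 (DihedralGroup (2 * h)) := IsPGroup.of_card (n := k + 2) (by
    rw [DihedralGroup.nat_card, hk]; ring)
  have hXp : IsPGroup 2 X := hP.to_subgroup X
  set R := Subgroup.zpowers (DihedralGroup.r 1 : DihedralGroup (2 * h)) with hR
  have hRmem : ∀ g : DihedralGroup (2 * h), g ∈ R ↔ ∃ i, g = DihedralGroup.r i := by
    intro g
    refine ⟨?_, ?_⟩
    · rintro ⟨t, rfl⟩
      exact ⟨(t : ZMod (2 * h)), DihedralGroup.r_one_zpow t⟩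
    · rintro ⟨i, rfl⟩
      exact ⟨(i.val : ℤ), by simp⟩
  by_cases hy : X ≤ R
  · exact absurd (isPGroup_mulAut_cyclic hXp (Subgroup.isCyclic_of_le hy)) hA
  obtain ⟨w, hwX, hwR⟩ := Set.not_subset.mp hy
  obtain ⟨i, rfl⟩ : ∃ i, w = DihedralGroup.sr i := by
    rcases w with j | j
    · exact absurd ((hRmem _).mpr ⟨j, rfl⟩) hwR
    · exact ⟨j, rfl⟩
  refine ⟨i, ?_⟩
  have hz : DihedralGroup.r (h : ZMod (2 * h)) ∈ X := by
    refine hC (Subgroup.mem_centralizer_iff.mpr fun v _ => ?_)
    rcases v with j | j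
    · rw [DihedralGroup.r_mul_r, DihedralGroup.r_mul_r, add_comm]
    · rw [DihedralGroup.sr_mul_r, DihedralGroup.r_mul_sr, sub_eq_add_neg, neg_h]
  by_cases hsmall : ∀ j, DihedralGroup.r j ∈ X → j + j = 0
  · refine Subgroup.eq_of_le_of_card_ge ?_ ?_
    · rintro (j | j) hj
      · rcases eq_zero_or_h (hsmall j hj) with rfl | rfl
        · exact mem_four.mpr (Or.inl rfl)
        · exact mem_four.mpr (Or.inr (Or.inl rfl))
      · have := mul_mem hwX hj
        rw [DihedralGroup.sr_mul_sr] at this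
        rcases eq_zero_or_h (hsmall _ this) with e | e
        · rw [sub_eq_zero.mp e]; exact mem_four.mpr (Or.inr (Or.inr (Or.inl rfl)))
        · rw [sub_eq_iff_eq_add'.mp e]; exact mem_four.mpr (Or.inr (Or.inr (Or.inr rfl)))
    · refine Subgroup.card_le_of_le ?_
      intro g hg
      rcases mem_four.mp hg with rfl | rfl | rfl | rfl
      · rw [← DihedralGroup.one_def]; exact one_mem _
      · exact hz
      · exact hwX
      · have := mul_mem hwX hz
        rwa [DihedralGroup.sr_mul_r] at this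
  · exfalso
    push Not at hsmall
    obtain ⟨j, hj, hjj⟩ := hsmall
    set A := R.subgroupOf X with hAdef
    have hidxR : R.index = 2 := by
      have h1 := Subgroup.card_mul_index R
      rw [hR, Nat.card_zpowers, DihedralGroup.orderOf_r_one, DihedralGroup.nat_card,
        show 2 * (2 * h) = 2 * h * 2 by ring] at h1
      exact Nat.eq_of_mul_eq_mul_left (Nat.pos_of_neZero _) h1
    have hidx : A.index = 2 := by
      have hn : R.Normal := Subgroup.normal_of_index_eq_two hidxR
      refine ((Nat.dvd_prime Nat.prime_two).mp ?_).resolve_left fun e => hy ?_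
      · exact dvd_trans (Subgroup.relIndex_dvd_index_of_normal R X) hidxR.dvd
      · exact Subgroup.relIndex_eq_one.mp e
    have hAcyc : IsCyclic A :=
      isCyclic_of_injective ((X.subtype.comp A.subtype).codRestrict R (fun v => v.2))
        (fun v v' e => Subtype.ext (Subtype.ext (congrArg (fun u : R => (u : DihedralGroup (2 * h))) e)))
    obtain ⟨⟨r0, hr0⟩, hgen⟩ := IsCyclic.exists_generator (α := A)
    have hzp : Subgroup.zpowers r0 = A := by
      refine le_antisymm (Subgroup.zpowers_le.mpr hr0) fun v hv => ?_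
      obtain ⟨t, ht⟩ := hgen ⟨v, hv⟩
      exact ⟨t, congrArg Subtype.val ht⟩
    obtain ⟨l, hl⟩ := IsPGroup.iff_orderOf.mp hXp r0
    have hl2 : 2 ≤ l := by
      by_contra hlt
      obtain ⟨t, ht⟩ := hzp.ge (show (⟨DihedralGroup.r j, hj⟩ : X) ∈ A from (hRmem _).mpr ⟨j, rfl⟩)
      have h2 : r0 ^ 2 = 1 := by
        rw [← orderOf_dvd_iff_pow_eq_one, hl]
        exact (pow_dvd_pow 2 (show l ≤ 1 by omega)).trans (pow_one 2).dvd
      have h3 : (⟨DihedralGroup.r j, hj⟩ : X) * ⟨DihedralGroup.r j, hj⟩ = 1 := by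
        rw [← ht]
        show r0 ^ t * r0 ^ t = 1
        rw [← zpow_add, ← two_mul, zpow_mul, zpow_ofNat, h2, one_zpow]
      have h4 := congrArg Subtype.val h3
      rw [Subgroup.coe_mul, Subgroup.coe_one, DihedralGroup.r_mul_r, DihedralGroup.one_def,
        DihedralGroup.r.injEq] at h4
      exact hjj h4
    refine hA (CfsgLib.Fusion.isPGroup_mulAut_of_cyclic_index_two r0 hl (by omega) (hzp ▸ hidx) ?_)
    intro v hv
    rw [hzp] at hv
    have hv' : (v : DihedralGroup (2 * h)) ∉ R := hv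
    rcases hvv : (v : DihedralGroup (2 * h)) with t | t
    · exact absurd ((hRmem _).mpr ⟨t, hvv⟩) hv'
    · rw [← Subgroup.orderOf_coe, hvv, DihedralGroup.orderOf_sr]
      calc 2 < 2 ^ 2 := by norm_num
        _ ≤ _ := Nat.pow_le_pow_right two_pos hl2

end CfsgLib.SmallTwo.Dih
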