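import Cfsg.Agent.Lib.Transfer.Alperin
import Cfsg.Agent.Lib.Transfer.Focal

/-!
Fusion in a Sylow 2-subgroup: reduction to centric subgroups whose automorphism group is not a
2-group, invariants of fusion and subgroups of index two.
-/

set_option autoImplicit false

namespace CfsgLib.SmallTwo

open CfsgLib.Transfer
open scoped commutatorElement

variable {G : Type*} [Group G] [Finite G] {p : ℕ}

/-- A step of Alperin's theorem acts like an element of `S`, or like an element normalizing a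
centric subgroup whose automorphism group is not a `p`-group. -/
theorem tame_step [Fact p.Prime] (S : Sylow p G) {D : Subgroup G} (hD : IsTameInter S D) {x : G}
    (hx : x ∈ Subgroup.normalizer (D : Set G)) :
    (∃ s ∈ (S : Subgroup G), ∀ a ∈ D, s⁻¹ * a * s = x⁻¹ * a * x) ∨
    ∃ E : Subgroup G, D ≤ E ∧ E ≤ (S : Subgroup G) ∧
      (∀ s ∈ (S : Subgroup G), s ∈ Subgroup.centralizer (E : Set G) → s ∈ E) ∧
      ¬ IsPGroup p (MulAut E) ∧
      ∃ n ∈ Subgroup.normalizer (E : Set G), ∀ a ∈ D, n⁻¹ * a * n = x⁻¹ * a * x := by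
  obtain ⟨Q, hDPQ, hPfull, -⟩ := hD
  set N := Subgroup.normalizer (D : Set G) with hN
  set C := Subgroup.centralizer (D : Set G) with hC
  have hCN : C ≤ N := Subgroup.centralizer_le_normalizer _
  set W := (S : Subgroup G) ⊓ C with hW
  set NS := (S : Subgroup G) ⊓ N with hNS
  have hDS : D ≤ (S : Subgroup G) := hDPQ.le.trans inf_le_left
  have hCn : ∀ g ∈ N, ∀ c ∈ C, g * c * g⁻¹ ∈ C := by
    intro g hg c hc
    refine Subgroup.mem_centralizer_iff.mpr fun a ha => ?_
    have hg' := (Subgroup.mem_normalizer_iff.mp (inv_mem hg) a).mp ha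
    rw [inv_inv] at hg'
    have := Subgroup.mem_centralizer_iff.mp hc _ hg'
    calc a * (g * c * g⁻¹) = g * (g⁻¹ * a * g * c) * g⁻¹ := by group
      _ = g * (c * (g⁻¹ * a * g)) * g⁻¹ := by rw [this]
      _ = g * c * g⁻¹ * a := by group
  -- `W` is a Sylow subgroup of `C`
  have hWC : ¬ p ∣ W.relIndex C := by
    have hdiv : W.relIndex C ∣ NS.relIndex N := by
      have hn : (C.subgroupOf N).Normal := ⟨fun c hc g => hCn g g.2 c hc⟩
      have h := CfsgLib.Transfer.relIndex_dvd_index_of_normal (NS.subgroupOf N) (C.subgroupOf N)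
      rw [Subgroup.relIndex_subgroupOf hCN, ← Subgroup.relIndex] at h
      have e : W.relIndex C = NS.relIndex C := by
        rw [hW, hNS, Subgroup.inf_relIndex_right, ← Subgroup.inf_relIndex_right ((S : Subgroup G) ⊓ N) C,
          inf_assoc, inf_eq_right.mpr hCN, Subgroup.inf_relIndex_right]
      rwa [e]
    exact fun h => hPfull (h.trans hdiv)
  -- Frattini
  have hWp : IsPGroup p W := S.2.to_le inf_le_left
  obtain ⟨c, hc, hcW⟩ := exists_conj_le_of_not_dvd_relIndex (inf_le_right : W ≤ C) hWp hWC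
    (Y := W.map (MulAut.conj x⁻¹).toMonoidHom) (by
      rintro _ ⟨w, hw, rfl⟩
      exact hCn _ (inv_mem hx) w hw.2)
    (isPGroup_conj_map hWp _)
  rw [map_conj_mul] at hcW
  have hn0 : c * x⁻¹ ∈ Subgroup.normalizer (W : Set G) := map_conj_eq_self_iff.mp
    (Subgroup.eq_of_le_of_card_ge hcW (card_conj_map _ W).ge)
  set n := x * c⁻¹ with hn
  have hnW : n ∈ Subgroup.normalizer (W : Set G) := by
    have := inv_mem hn0
    rwa [mul_inv_rev, inv_inv] at this
  have hnD : n ∈ N := mul_mem hx (hCN (inv_mem hc))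
  have hact : ∀ a ∈ D, n⁻¹ * a * n = x⁻¹ * a * x := by
    intro a ha
    have hxa : x⁻¹ * a * x ∈ D := by
      have := (Subgroup.mem_normalizer_iff.mp (inv_mem hx) a).mp ha
      rwa [inv_inv] at this
    calc n⁻¹ * a * n = c * (x⁻¹ * a * x) * c⁻¹ := by rw [hn]; group
      _ = x⁻¹ * a * x := by
        rw [← Subgroup.mem_centralizer_iff.mp hc _ hxa, mul_inv_cancel_right]
  set E := D ⊔ W with hE
  have hES : E ≤ (S : Subgroup G) := sup_le hDS inf_le_left
  have hnE : ∀ g ∈ N, g ∈ Subgroup.normalizer (W : Set G) → g ∈ Subgroup.normalizer (E : Set G) := by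
    intro g hg hgW
    rw [← map_conj_eq_self_iff, hE, Subgroup.map_sup, map_conj_eq_self_iff.mpr hg,
      map_conj_eq_self_iff.mpr hgW]
  by_cases hA : IsPGroup p (MulAut E)
  · refine Or.inl ?_
    -- the image of `n` in `MulAut E` comes from `S`
    set M := N ⊓ Subgroup.normalizer (W : Set G) with hM
    have hNSM : NS ≤ M := by
      refine le_inf inf_le_right fun s hs => ?_
      refine Subgroup.mem_normalizer_fintype fun w hw => ?_
      exact Subgroup.mem_inf.mpr ⟨mul_mem (mul_mem hs.1 hw.1) (inv_mem hs.1), hCn s hs.2 w hw.2⟩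
    have hME : M ≤ Subgroup.normalizer (E : Set G) := fun g hg => hnE g hg.1 hg.2
    set θ : M →* MulAut E := E.normalizerMonoidHom.comp (Subgroup.inclusion hME) with hθ
    have hrel : ¬ p ∣ NS.relIndex M := by
      intro h
      exact hPfull (h.trans (Dvd.intro _ (Subgroup.relIndex_mul_relIndex NS M N hNSM inf_le_left)))
    have hidx : NS.subgroupOf M ⊔ θ.ker = ⊤ := by
      rw [← Subgroup.index_eq_one]
      have h1 : (NS.subgroupOf M ⊔ θ.ker).index ∣ (NS.subgroupOf M).index :=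
        Subgroup.index_dvd_of_le le_sup_left
      have h2 : (NS.subgroupOf M ⊔ θ.ker).index ∣ θ.ker.index := Subgroup.index_dvd_of_le le_sup_right
      rw [Subgroup.index_ker] at h2
      obtain ⟨j, hj⟩ := IsPGroup.iff_card.mp (hA.to_subgroup θ.range)
      rw [hj] at h2
      exact Nat.eq_one_of_dvd_coprimes
        ((Nat.Prime.coprime_iff_not_dvd Fact.out).mpr hrel |>.pow_left j) h2 h1
    have hnM : (⟨n, hnD, hnW⟩ : M) ∈ NS.subgroupOf M ⊔ θ.ker := hidx ▸ Subgroup.mem_top _
    obtain ⟨s, hs, k, hk, he⟩ := Subgroup.mem_sup_of_normal_right.mp hnM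
    refine ⟨(s : G), (Subgroup.mem_subgroupOf.mp hs).1, fun a ha => ?_⟩
    rw [← hact a ha, ← show (s : G) * k = n from congrArg Subtype.val he]
    have hb : (s : G)⁻¹ * a * s ∈ E := by
      have := (Subgroup.mem_normalizer_iff.mp (inv_mem (hME s.2)) a).mp (Subgroup.mem_sup_left ha)
      rwa [inv_inv] at this
    have hkb := congrArg (fun φ : MulAut E => ((φ ⟨_, hb⟩ : E) : G)) (MonoidHom.mem_ker.mp hk)
    change (k : G) * ((s : G)⁻¹ * a * s) * (k : G)⁻¹ = (s : G)⁻¹ * a * s at hkb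
    calc (s : G)⁻¹ * a * s = (k : G)⁻¹ * ((k : G) * ((s : G)⁻¹ * a * s) * (k : G)⁻¹) * k := by group
      _ = ((s : G) * k)⁻¹ * a * ((s : G) * k) := by rw [hkb]; group
  · refine Or.inr ⟨E, le_sup_left, hES, fun s hs hsE => ?_, hA, n, hnE n hnD hnW, hact⟩
    exact Subgroup.mem_sup_right ⟨hs, Subgroup.mem_centralizer_iff.mpr fun a ha =>
      Subgroup.mem_centralizer_iff.mp hsE a (Subgroup.mem_sup_left ha)⟩

/-- A relation on elements containing `S`-conjugacy and preserved by the normalizers of the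
centric subgroups with automorphism group not a `p`-group contains all fusion in `S`. -/
theorem fusion_invariant [Fact p.Prime] (S : Sylow p G) (R : G → G → Prop)
    (hrefl : ∀ a, R a a) (htrans : ∀ a b c, R a b → R b c → R a c)
    (hS : ∀ a ∈ (S : Subgroup G), ∀ s ∈ (S : Subgroup G), R a (s * a * s⁻¹))
    (hE : ∀ E : Subgroup G, E ≤ (S : Subgroup G) →
      (∀ s ∈ (S : Subgroup G), s ∈ Subgroup.centralizer (E : Set G) → s ∈ E) →
      ¬ IsPGroup p (MulAut E) →
      ∀ n ∈ Subgroup.normalizer (E : Set G), ∀ a ∈ E, R a (n * a * n⁻¹))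
    {a g : G} (ha : a ∈ (S : Subgroup G)) (hg : g * a * g⁻¹ ∈ (S : Subgroup G)) :
    R a (g * a * g⁻¹) := by
  have key : ∀ (A : Set G) (g : G), Chain (fun D _ => IsTameInter S D) A g →
      ∀ a ∈ A, R a (g⁻¹ * a * g) := by
    intro A g h
    induction h with
    | nil A => exact fun a _ => by simpa using hrefl a
    | @cons A x k D hD hx hA _ ih =>
      intro a ha
      refine htrans _ (x⁻¹ * a * x) _ ?_ ?_
      · rcases tame_step S hD hx with ⟨s, hs, h⟩ | ⟨E, hDE, hES, hEc, hEA, n, hn, h⟩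
        · rw [← h a (hA ha)]
          obtain ⟨Q, hDPQ, -⟩ := hD
          have haS : a ∈ (S : Subgroup G) := (hDPQ.le.trans inf_le_left) (hA ha)
          simpa using hS a haS s⁻¹ (inv_mem hs)
        · rw [← h a (hA ha)]
          simpa using hE E hES hEc hEA n⁻¹ (inv_mem hn) a (hDE (hA ha))
      · have := ih (x⁻¹ * a * x) ⟨a, ha, rfl⟩
        rwa [show k⁻¹ * (x⁻¹ * a * x) * k = (x * k)⁻¹ * a * (x * k) by group] at this
  have h := key {a} g⁻¹ (alperin_set S (Set.singleton_subset_iff.mpr ha) (by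
    rintro _ ⟨b, rfl, rfl⟩
    show g⁻¹⁻¹ * b * g⁻¹ ∈ (S : Subgroup G)
    rw [inv_inv]
    exact hg)) a rfl
  simpa using h

/-- A subgroup of `S` containing the focal subgroup is cut out by a normal subgroup of the same
index. -/
theorem exists_normal_of_focal (S : Sylow 2 G) (M : Subgroup G) (hMS : M ≤ (S : Subgroup G))
    (hinv : ∀ a ∈ (S : Subgroup G), ∀ g : G, g * a * g⁻¹ ∈ (S : Subgroup G) →
      a⁻¹ * (g * a * g⁻¹) ∈ M) :
    ∃ K : Subgroup G, K.Normal ∧ K.index = M.relIndex (S : Subgroup G) ∧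
      (∀ s ∈ (S : Subgroup G), s ∈ K ↔ s ∈ M) ∧ ∀ g : G, Odd (orderOf g) → g ∈ K := by
  have : Fact (Nat.Prime 2) := ⟨Nat.prime_two⟩
  -- the focal subgroup lies in `M`
  have hfoc : commutator G ⊓ (S : Subgroup G) ≤ M := by
    rw [Subgroup.commutator_inf_eq_focalSubgroup S, Subgroup.focalSubgroup_def, Subgroup.closure_le]
    rintro z ⟨hzS, x, hxS, u, rfl⟩
    have e : u * x⁻¹ * u⁻¹ = x⁻¹ * ⁅x, u⁆ := by rw [commutatorElement_def]; group
    have h1 : u * x⁻¹ * u⁻¹ ∈ (S : Subgroup G) := e ▸ mul_mem (inv_mem hxS) hzS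
    have h2 := hinv x⁻¹ (inv_mem hxS) u h1
    rwa [e, inv_inv, mul_inv_cancel_left] at h2
  obtain ⟨j, hj⟩ := IsPGroup.iff_card.mp S.2
  obtain ⟨i, r, hr, hcard⟩ := Nat.exists_eq_two_pow_mul_odd (n := Nat.card G) Nat.card_pos.ne'
  -- an exponent killing odd parts and fixing 2-parts
  obtain ⟨m, hm1, hm0⟩ : ∃ m : ℕ, m ≡ 1 [MOD 2 ^ i] ∧ m ≡ 0 [MOD r] :=
    ⟨(Nat.chineseRemainder (hr.coprime_two_left.pow_left i) 1 0).1,
      (Nat.chineseRemainder (hr.coprime_two_left.pow_left i) 1 0).2⟩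
  obtain ⟨l, hl⟩ := Nat.modEq_zero_iff_dvd.mp hm0
  set π := Abelianization.of (G := G) with hπ
  set L := M.map π with hL
  let φ : G →* Abelianization G := (powMonoidHom m).comp π
  set K := L.comap φ with hK
  have hSm : ∀ s ∈ (S : Subgroup G), s ^ m = s := by
    intro s hs
    obtain ⟨k, hk⟩ := IsPGroup.iff_orderOf.mp S.2 ⟨s, hs⟩
    rw [← Subgroup.orderOf_coe] at hk
    have hk' : orderOf s = 2 ^ k := hk
    have hki : 2 ^ k ∣ 2 ^ i := by
      have h := hk' ▸ orderOf_dvd_natCard s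
      rw [hcard] at h
      exact (hr.coprime_two_left.pow_left k).dvd_of_dvd_mul_right h
    conv_rhs => rw [← pow_one s]
    rw [pow_eq_pow_iff_modEq, hk']
    exact hm1.of_dvd hki
  have hSK : ∀ s ∈ (S : Subgroup G), s ∈ K ↔ s ∈ M := by
    intro s hs
    have hφ : φ s = π s := by
      show (π s) ^ m = π s
      rw [← map_pow, hSm s hs]
    rw [hK, Subgroup.mem_comap, hφ, hL]
    refine ⟨?_, fun h => ⟨s, h, rfl⟩⟩
    rintro ⟨t, ht, hts⟩
    have hk : t⁻¹ * s ∈ commutator G ⊓ (S : Subgroup G) :=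
      Subgroup.mem_inf.mpr ⟨(QuotientGroup.eq).mp hts, mul_mem (inv_mem (hMS ht)) hs⟩
    have := mul_mem ht (hfoc hk)
    rwa [mul_inv_cancel_left] at this
  have hodd : ∀ g : G, Odd (orderOf g) → g ∈ K := by
    intro g hg
    rw [hK, Subgroup.mem_comap]
    have : g ^ m = 1 := by
      rw [← orderOf_dvd_iff_pow_eq_one]
      refine dvd_trans ?_ (hl ▸ dvd_mul_right r l)
      have h := orderOf_dvd_natCard g
      rw [hcard] at h
      exact (hg.coprime_two_right.pow_right i).dvd_of_dvd_mul_left h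
    show (π g) ^ m ∈ L
    rw [← map_pow, this, map_one]
    exact one_mem _
  have hKn : K.Normal := by
    rw [hK]; exact Subgroup.Normal.comap (Subgroup.normal_of_isMulCommutative L) φ
  have hsup : (S : Subgroup G) ⊔ K = ⊤ := by
    rw [← Subgroup.index_eq_one]
    have h1 : ((S : Subgroup G) ⊔ K).index ∣ (S : Subgroup G).index := Subgroup.index_dvd_of_le le_sup_left
    have h2 : ((S : Subgroup G) ⊔ K).index ∣ 2 ^ i := by
      refine (Subgroup.index_dvd_of_le le_sup_right).trans ?_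
      obtain ⟨k, hk⟩ := IsPGroup.iff_card.mp (show IsPGroup 2 (G ⧸ K) from fun q => by
        obtain ⟨g, rfl⟩ := QuotientGroup.mk'_surjective K q
        refine ⟨i, ?_⟩
        rw [← map_pow]
        refine (QuotientGroup.eq_one_iff _).mpr (hodd _ ?_)
        refine hr.of_dvd_nat (orderOf_dvd_of_pow_eq_one ?_)
        rw [← pow_mul, ← hcard, pow_card_eq_one'])
      rw [Subgroup.index_eq_card, hk]
      have h := hk ▸ Subgroup.card_quotient_dvd_card K
      rw [hcard] at h
      exact (hr.coprime_two_left.pow_left k).dvd_of_dvd_mul_right h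
    exact Nat.eq_one_of_dvd_coprimes
      ((Nat.prime_two.coprime_iff_not_dvd.mpr S.not_dvd_index).symm.pow_right i) h1 h2
  refine ⟨K, hKn, ?_, hSK, hodd⟩
  have e : K.index = K.relIndex (S : Subgroup G) := by
    rw [← Subgroup.relIndex_top_right, ← hsup, Subgroup.relIndex_sup_right]
  refine e.trans ?_
  rw [← Subgroup.inf_relIndex_right K, ← Subgroup.inf_relIndex_right M]
  congr 1
  ext s
  exact ⟨fun h => ⟨(hSK s h.2).mp h.1, h.2⟩, fun h => ⟨(hSK s h.2).mpr h.1, h.2⟩⟩

/-- An index two subgroup of `S` whose membership is invariant under fusion is cut out by a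
normal subgroup of index two. -/
theorem exists_index_two (S : Sylow 2 G) (M : Subgroup G) (hMS : M ≤ (S : Subgroup G))
    (hidx : M.relIndex (S : Subgroup G) = 2)
    (hinv : ∀ a ∈ (S : Subgroup G), ∀ g : G, g * a * g⁻¹ ∈ (S : Subgroup G) →
      (g * a * g⁻¹ ∈ M ↔ a ∈ M)) :
    ∃ K : Subgroup G, K.Normal ∧ K.index = 2 ∧ (∀ s ∈ (S : Subgroup G), s ∈ K ↔ s ∈ M) ∧
      ∀ g : G, Odd (orderOf g) → g ∈ K := by
  obtain ⟨K, h1, h2, h3, h4⟩ := exists_normal_of_focal S M hMS fun a ha g hg =>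
    (Subgroup.mul_mem_iff_of_index_two (H := M.subgroupOf (S : Subgroup G)) hidx
      (a := (⟨a, ha⟩ : (S : Subgroup G))⁻¹) (b := ⟨g * a * g⁻¹, hg⟩)).mpr
      (Subgroup.inv_mem_iff _ |>.trans (hinv a ha g hg).symm)
  exact ⟨K, h1, h2.trans hidx, h3, h4⟩

end CfsgLib.SmallTwo
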