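import Mathlib
import Cfsg.Agent.Lib.SmallTwo.FusionSteps
import Cfsg.Agent.Lib.Transfer.Sylow
import Cfsg.Prelude.Def_Transfer

/-!
Tools for reading off conjugacy classes and index two subgroups from the fusion in a Sylow
2-subgroup.
-/

set_option autoImplicit false

namespace CfsgLib.SmallTwo

open CfsgLib.Transfer

variable {G : Type*} [Group G]

/-- `a` is mapped to `b` by conjugation with an element of odd order. -/
def OddConj (a b : G) : Prop := ∃ g : G, Odd (orderOf g) ∧ g * a * g⁻¹ = b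

theorem OddConj.isConj {a b : G} (h : OddConj a b) : IsConj a b := by
  obtain ⟨g, -, hg⟩ := h
  exact isConj_iff.mpr ⟨g, hg⟩

theorem OddConj.map {a b : G} (h : OddConj a b) (s : G) :
    OddConj (s * a * s⁻¹) (s * b * s⁻¹) := by
  obtain ⟨g, hg, rfl⟩ := h
  exact ⟨MulAut.conj s g, by rwa [MulEquiv.orderOf_eq], by simp only [MulAut.conj_apply]; group⟩

/-- The normalizer of `E` acts on `E` like elements of `S`. -/
def ActsLike (S E : Subgroup G) : Prop :=
  ∀ n ∈ Subgroup.normalizer (E : Set G), ∃ s ∈ S, ∀ a ∈ E, n * a * n⁻¹ = s * a * s⁻¹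

theorem ActsLike.map {S E : Subgroup G} (h : ActsLike S E) {s : G} (hs : s ∈ S) :
    ActsLike S (E.map (MulAut.conj s).toMonoidHom) := by
  intro n hn
  have hn' : s⁻¹ * n * s ∈ Subgroup.normalizer (E : Set G) := by
    rw [← map_conj_eq_self_iff]
    rw [← map_conj_eq_self_iff, map_conj_mul] at hn
    rw [show s⁻¹ * n * s = s⁻¹ * (n * s) by group, ← map_conj_mul, hn, map_conj_mul, inv_mul_cancel]
    ext a; simp
  obtain ⟨r, hr, h'⟩ := h _ hn'
  refine ⟨s * r * s⁻¹, mul_mem (mul_mem hs hr) (inv_mem hs), ?_⟩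
  rintro _ ⟨a, ha, rfl⟩
  show n * (s * a * s⁻¹) * n⁻¹ = s * r * s⁻¹ * (s * a * s⁻¹) * (s * r * s⁻¹)⁻¹
  calc n * (s * a * s⁻¹) * n⁻¹ = s * (s⁻¹ * n * s * a * (s⁻¹ * n * s)⁻¹) * s⁻¹ := by group
    _ = _ := by rw [h' a ha]; group

theorem isPGroup_mulAut_congr {A B : Type*} [Group A] [Group B] {p : ℕ} (e : A ≃* B)
    (h : IsPGroup p (MulAut A)) : IsPGroup p (MulAut B) :=
  h.of_equiv (MulAut.congr e)

theorem isPGroup_mulAut_map {S : Subgroup G} {p : ℕ} (X : Subgroup S)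
    (h : IsPGroup p (MulAut X)) : IsPGroup p (MulAut (X.map S.subtype)) :=
  isPGroup_mulAut_congr (X.equivMapOfInjective _ S.subtype_injective) h

variable [Finite G]

theorem exists_conj_mem (S : Sylow 2 G) {t : G} {k : ℕ} (ht : orderOf t = 2 ^ k) :
    ∃ s ∈ (S : Subgroup G), IsConj t s := by
  have : Fact (Nat.Prime 2) := ⟨Nat.prime_two⟩
  obtain ⟨P, hP⟩ := (IsPGroup.of_card (by rw [Nat.card_zpowers, ht]) :
    IsPGroup 2 (Subgroup.zpowers t)).exists_le_sylow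
  obtain ⟨g, hg⟩ := MulAction.exists_smul_eq G P S
  refine ⟨g * t * g⁻¹, ?_, isConj_iff.mpr ⟨g, rfl⟩⟩
  rw [← hg]
  exact ⟨t, hP (Subgroup.mem_zpowers t), rfl⟩

theorem one_class (S : Sylow 2 G) {k : ℕ} {a : G} (ha : orderOf a = 2 ^ k)
    (h : ∀ s ∈ (S : Subgroup G), orderOf s = 2 ^ k → IsConj s a) :
    Nat.card {C : ConjClasses G // ∃ t : G, orderOf t = 2 ^ k ∧ ConjClasses.mk t = C} = 1 := by
  rw [Nat.card_eq_one_iff_unique]
  refine ⟨⟨?_⟩, ⟨⟨_, a, ha, rfl⟩⟩⟩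
  have key : ∀ t, orderOf t = 2 ^ k → IsConj t a := fun t ht => by
    obtain ⟨s, hs, hts⟩ := exists_conj_mem S ht
    obtain ⟨g, hg⟩ := isConj_iff.mp hts
    refine hts.trans (h s hs ?_)
    rw [← hg, ← MulAut.conj_apply, MulEquiv.orderOf_eq, ht]
  rintro ⟨_, t, ht, rfl⟩ ⟨_, t', ht', rfl⟩
  exact Subtype.ext (ConjClasses.mk_eq_mk_iff_isConj.mpr ((key t ht).trans (key t' ht').symm))

theorem two_classes_of (S : Sylow 2 G) {k : ℕ} {a b : G} (ha : orderOf a = 2 ^ k)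
    (hb : orderOf b = 2 ^ k) (hab : ¬ IsConj a b)
    (h : ∀ s ∈ (S : Subgroup G), orderOf s = 2 ^ k → IsConj s a ∨ IsConj s b) :
    Nat.card {C : ConjClasses G // ∃ t : G, orderOf t = 2 ^ k ∧ ConjClasses.mk t = C} = 2 := by
  refine Nat.card_eq_two_iff.mpr ⟨⟨_, a, ha, rfl⟩, ⟨_, b, hb, rfl⟩, ?_, ?_⟩
  · exact fun he => hab (ConjClasses.mk_eq_mk_iff_isConj.mp (Subtype.ext_iff.mp he))
  · rw [Set.eq_univ_iff_forall]
    rintro ⟨_, t, ht, rfl⟩
    obtain ⟨s, hs, hts⟩ := exists_conj_mem S ht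
    obtain ⟨g, hg⟩ := isConj_iff.mp hts
    simp only [Set.mem_insert_iff, Set.mem_singleton_iff, Subtype.mk.injEq,
      ConjClasses.mk_eq_mk_iff_isConj]
    exact (h s hs (by rw [← hg, ← MulAut.conj_apply, MulEquiv.orderOf_eq, ht])).imp hts.trans hts.trans

theorem three_classes_of (S : Sylow 2 G) {k : ℕ} {a b c : G} (ha : orderOf a = 2 ^ k)
    (hb : orderOf b = 2 ^ k) (hc : orderOf c = 2 ^ k) (hab : ¬ IsConj a b) (hac : ¬ IsConj a c)
    (hbc : ¬ IsConj b c)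
    (h : ∀ s ∈ (S : Subgroup G), orderOf s = 2 ^ k → IsConj s a ∨ IsConj s b ∨ IsConj s c) :
    Nat.card {C : ConjClasses G // ∃ t : G, orderOf t = 2 ^ k ∧ ConjClasses.mk t = C} = 3 := by
  classical
  let A : {C : ConjClasses G // ∃ t : G, orderOf t = 2 ^ k ∧ ConjClasses.mk t = C} := ⟨_, a, ha, rfl⟩
  let B : {C : ConjClasses G // ∃ t : G, orderOf t = 2 ^ k ∧ ConjClasses.mk t = C} := ⟨_, b, hb, rfl⟩
  let C : {C : ConjClasses G // ∃ t : G, orderOf t = 2 ^ k ∧ ConjClasses.mk t = C} := ⟨_, c, hc, rfl⟩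
  have hne : ∀ {u v : G}, ¬ IsConj u v → ConjClasses.mk u ≠ ConjClasses.mk v :=
    fun huv he => huv (ConjClasses.mk_eq_mk_iff_isConj.mp he)
  have huniv : ({A, B, C} : Set _) = Set.univ := by
    rw [Set.eq_univ_iff_forall]
    rintro ⟨_, t, ht, rfl⟩
    obtain ⟨s, hs, hts⟩ := exists_conj_mem S ht
    obtain ⟨g, hg⟩ := isConj_iff.mp hts
    simp only [A, B, C, Set.mem_insert_iff, Set.mem_singleton_iff, Subtype.mk.injEq,
      ConjClasses.mk_eq_mk_iff_isConj]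
    exact (h s hs (by rw [← hg, ← MulAut.conj_apply, MulEquiv.orderOf_eq, ht])).imp hts.trans
      (Or.imp hts.trans hts.trans)
  rw [← Nat.card_univ (α := {C : ConjClasses G // ∃ t : G, orderOf t = 2 ^ k ∧ ConjClasses.mk t = C}),
    ← huniv, Nat.card_coe_set_eq, Set.ncard_eq_three]
  exact ⟨A, B, C, fun he => hne hab (Subtype.ext_iff.mp he), fun he => hne hac (Subtype.ext_iff.mp he),
    fun he => hne hbc (Subtype.ext_iff.mp he), rfl⟩

/-- A normal subgroup `K` with `K ∩ S` isomorphic to a given subgroup of `S`. -/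
theorem sylow_iso_of_normal (S : Sylow 2 G) (K : Subgroup G) [K.Normal]
    (M : Subgroup (S : Subgroup G)) (hKM : ∀ s : (S : Subgroup G), (s : G) ∈ K ↔ s ∈ M)
    (P : Sylow 2 K) : Nonempty ((P : Subgroup K) ≃* M) := by
  have : Fact (Nat.Prime 2) := ⟨Nat.prime_two⟩
  have hp : IsPGroup 2 ((S : Subgroup G).subgroupOf K) :=
    S.2.comap_of_injective _ K.subtype_injective
  have hidx : ¬ 2 ∣ ((S : Subgroup G).subgroupOf K).index := fun h =>
    S.not_dvd_index (h.trans (CfsgLib.Transfer.relIndex_dvd_index_of_normal _ K))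
  have e1 : (S : Subgroup G).subgroupOf K ≃* ((S : Subgroup G) ⊓ K : Subgroup G) :=
    (MulEquiv.subgroupCongr (Subgroup.inf_subgroupOf_right (S : Subgroup G) K).symm).trans
      (Subgroup.subgroupOfEquivOfLe inf_le_right)
  have e2 : M ≃* ((S : Subgroup G) ⊓ K : Subgroup G) :=
    (M.equivMapOfInjective _ (S : Subgroup G).subtype_injective).trans (MulEquiv.subgroupCongr (by
      ext g
      simp only [Subgroup.mem_map, Subgroup.subtype_apply, Subgroup.mem_inf]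
      exact ⟨fun ⟨s, hs, he⟩ => he ▸ ⟨s.2, (hKM s).mpr hs⟩,
        fun h => ⟨⟨g, h.1⟩, (hKM ⟨g, h.1⟩).mp h.2, rfl⟩⟩))
  exact ⟨((P.equiv (hp.toSylow hidx)).trans (MulEquiv.subgroupCongr (IsPGroup.toSylow_coe hp hidx))).trans
    (e1.trans e2.symm)⟩

/-- A subgroup of index two of a normal subgroup `K` misses an element of `S ∩ K`. -/
theorem exists_sylow_notMem (S : Sylow 2 G) (K : Subgroup G) [K.Normal] (H : Subgroup K)
    (hH : H.index = 2) : ∃ s : K, (s : G) ∈ (S : Subgroup G) ∧ s ∉ H := by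
  by_contra h
  push Not at h
  have h1 : H.index ∣ ((S : Subgroup G).subgroupOf K).index :=
    Subgroup.index_dvd_of_le (fun s hs => h s hs)
  rw [hH] at h1
  exact S.not_dvd_index (h1.trans (CfsgLib.Transfer.relIndex_dvd_index_of_normal _ K))

theorem exists_sylow_notMem' (S : Sylow 2 G) (H : Subgroup G) (hH : H.index = 2) :
    ∃ s ∈ (S : Subgroup G), s ∉ H := by
  by_contra h
  push Not at h
  have h1 : H.index ∣ (S : Subgroup G).index := Subgroup.index_dvd_of_le (fun s hs => h s hs)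
  rw [hH] at h1
  exact S.not_dvd_index h1

theorem mem_iff_of_conj {H : Subgroup G} (hH : H.index = 2) {a b : G} (h : IsConj a b) :
    a ∈ H ↔ b ∈ H := by
  obtain ⟨g, rfl⟩ := isConj_iff.mp h
  exact (Subgroup.normal_of_index_eq_two hH).mem_comm_iff.trans
    (by rw [← mul_assoc, inv_mul_cancel, one_mul] ) |>.symm

theorem mem_iff_of_oddConj {K : Subgroup G} (hK : ∀ g : G, Odd (orderOf g) → g ∈ K)
    {H : Subgroup K} (hH : H.index = 2) {a b : K} (h : OddConj (a : G) b) : a ∈ H ↔ b ∈ H := by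
  obtain ⟨g, hg, he⟩ := h
  have e : b = ⟨g, hK g hg⟩ * a * ⟨g, hK g hg⟩⁻¹ := Subtype.ext he.symm
  exact mem_iff_of_conj hH (isConj_iff.mpr ⟨_, e.symm⟩)

theorem sq_mem_and_mul_iff {X : Type*} [Group X] {H : Subgroup X} (hH : H.index = 2) {a b : X}
    (h : (a ∈ H ↔ b ∈ H)) : a * b ∈ H :=
  (Subgroup.mul_mem_iff_of_index_two hH).mpr h

end CfsgLib.SmallTwo
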