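import Cfsg.Agent.Lib.SmallTwo.LocalIndex

/-!
Elements of odd order moving the involutions of a four-group or the cyclic subgroups of `Q₈`.
-/

set_option autoImplicit false

namespace CfsgLib.SmallTwo

variable {G : Type*} [Group G] [Finite G]

theorem exists_odd_notMem {N K : Subgroup G} [(K.subgroupOf N).Normal] (h : K.relIndex N = 6) :
    ∃ g ∈ N, Odd (orderOf g) ∧ g ∉ K := by
  have : Fact (Nat.Prime 3) := ⟨Nat.prime_three⟩
  obtain ⟨x, hx⟩ := exists_prime_orderOf_dvd_card' (G := N ⧸ K.subgroupOf N) 3 (by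
    rw [← Subgroup.index_eq_card, ← Subgroup.relIndex, h]; norm_num)
  obtain ⟨y, rfl⟩ := QuotientGroup.mk'_surjective _ x
  obtain ⟨k, r, hr, hkr⟩ := Nat.exists_eq_two_pow_mul_odd (n := orderOf y) (orderOf_pos y).ne'
  refine ⟨((y ^ 2 ^ k : N) : G), (y ^ 2 ^ k).2, ?_, fun hmem => ?_⟩
  · rw [Subgroup.orderOf_coe]
    refine hr.of_dvd_nat (orderOf_dvd_of_pow_eq_one ?_)
    rw [← pow_mul, ← hkr, pow_orderOf_eq_one]
  · have h1 : (QuotientGroup.mk' (K.subgroupOf N) y) ^ 2 ^ k = 1 := by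
      rw [← map_pow]; exact (QuotientGroup.eq_one_iff _).mpr hmem
    have h2 := orderOf_dvd_of_pow_eq_one h1
    rw [hx] at h2
    exact absurd (Nat.prime_three.dvd_of_dvd_pow h2) (by norm_num)

theorem index_two_cases {N K : Subgroup G} (h : K.relIndex N = 2) {s n : G} (hs : s ∈ N)
    (hsK : s ∉ K) (hn : n ∈ N) : n ∈ K ∨ s⁻¹ * n ∈ K := by
  by_cases hnK : n ∈ K
  · exact Or.inl hnK
  · have := Subgroup.mul_mem_iff_of_index_two (H := K.subgroupOf N) h (a := (⟨s, hs⟩ : N)⁻¹)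
      (b := ⟨n, hn⟩)
    exact Or.inr (this.mpr (iff_of_false (fun hh => hsK (inv_mem_iff.mp hh)) hnK))

theorem fix_of_odd_of_sq_fix {g a : G} (hg : Odd (orderOf g)) (h : g * g * a * (g * g)⁻¹ = a) :
    g * a * g⁻¹ = a := by
  obtain ⟨m, hm⟩ := hg
  have hpow : g = (g * g) ^ (m + 1) := by
    rw [← pow_two, ← pow_mul, show 2 * (m + 1) = orderOf g + 1 by omega, pow_succ,
      pow_orderOf_eq_one, one_mul]
  have hc : Commute (g * g) a := mul_inv_eq_iff_eq_mul.mp h
  have := hc.pow_left (m + 1)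
  rw [← hpow] at this
  exact mul_inv_eq_iff_eq_mul.mpr this.eq

/-- An element of odd order acting nontrivially on a four-group permutes its involutions
transitively. -/
theorem four_moves {T : Subgroup G} (hT : Nat.card T = 4) {g : G}
    (hg : g ∈ Subgroup.normalizer (T : Set G)) (hodd : Odd (orderOf g))
    (hgC : g ∉ Subgroup.centralizer (T : Set G)) {a b : G} (ha : a ∈ T) (hb : b ∈ T) (ha1 : a ≠ 1)
    (hb1 : b ≠ 1) : ∃ t : ℕ, g ^ t * a * (g ^ t)⁻¹ = b := by
  classical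
  have := Fintype.ofFinite T
  let ψ := T.normalizerMonoidHom ⟨g, hg⟩
  have hval : ∀ v : T, ((ψ v : T) : G) = g * v * g⁻¹ := fun v => rfl
  have hne1 : ∀ v : T, v ≠ 1 → ψ v ≠ 1 := fun v hv h => hv (ψ.injective (h.trans (map_one ψ).symm))
  have hcard : (Finset.univ.erase (1 : T)).card = 3 := by
    rw [Finset.card_erase_of_mem (Finset.mem_univ _), Finset.card_univ, ← Nat.card_eq_fintype_card, hT]
  have hfix : ∀ v : T, v ≠ 1 → ψ v ≠ v := by
    intro v hv hfix
    apply hgC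
    refine Subgroup.mem_centralizer_iff.mpr fun w hw => ?_
    have hall : ∀ w : T, w ≠ 1 → ψ (ψ w) = w := by
      intro w hw
      by_cases hwv : w = v
      · rw [hwv, hfix, hfix]
      by_contra hne
      have h1 : ψ w ≠ w := fun h => hne (by rw [h, h])
      have h2 : ψ w ≠ v := fun h => hwv (ψ.injective (h.trans hfix.symm))
      have h3 : ψ (ψ w) ≠ v := fun h => h2 (ψ.injective (h.trans hfix.symm))
      have h4 : ψ (ψ w) ≠ ψ w := fun h => h1 (ψ.injective h)
      have hsub : ({v, w, ψ w, ψ (ψ w)} : Finset T) ⊆ Finset.univ.erase 1 := by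
        intro x hx
        simp only [Finset.mem_insert, Finset.mem_singleton] at hx
        rw [Finset.mem_erase]
        refine ⟨?_, Finset.mem_univ _⟩
        rcases hx with rfl | rfl | rfl | rfl
        exacts [hv, hw, hne1 _ hw, hne1 _ (hne1 _ hw)]
      have := Finset.card_le_card hsub
      rw [hcard] at this
      simp [Ne.symm hwv, Ne.symm h2, Ne.symm h3, Ne.symm h1, Ne.symm h4, Ne.symm hne] at this
    have hsq : g * g * w * (g * g)⁻¹ = w := by
      by_cases hw1 : (⟨w, hw⟩ : T) = 1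
      · have : w = 1 := congrArg Subtype.val hw1
        rw [this]; group
      · have := congrArg Subtype.val (hall ⟨w, hw⟩ hw1)
        rw [hval, hval] at this
        calc g * g * w * (g * g)⁻¹ = g * (g * w * g⁻¹) * g⁻¹ := by group
          _ = w := this
    exact (mul_inv_eq_iff_eq_mul.mp (fix_of_odd_of_sq_fix hodd hsq)).symm
  set A : T := ⟨a, ha⟩
  have hA : A ≠ 1 := fun h => ha1 (congrArg Subtype.val h)
  have h21 : ψ (ψ A) ≠ A := by
    intro h
    refine hfix A hA (Subtype.ext ?_)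
    rw [hval]
    refine fix_of_odd_of_sq_fix hodd ?_
    have := congrArg Subtype.val h
    rw [hval, hval] at this
    calc g * g * a * (g * g)⁻¹ = g * (g * a * g⁻¹) * g⁻¹ := by group
      _ = a := this
  have hall : ({A, ψ A, ψ (ψ A)} : Finset T) = Finset.univ.erase 1 := by
    refine Finset.eq_of_subset_of_card_le ?_ ?_
    · intro x hx
      simp only [Finset.mem_insert, Finset.mem_singleton] at hx
      rw [Finset.mem_erase]
      refine ⟨?_, Finset.mem_univ _⟩
      rcases hx with rfl | rfl | rfl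
      exacts [hA, hne1 _ hA, hne1 _ (hne1 _ hA)]
    · rw [hcard]
      simp [Ne.symm (hfix A hA), Ne.symm h21, Ne.symm (hfix _ (hne1 _ hA))]
  have hB : (⟨b, hb⟩ : T) ∈ Finset.univ.erase (1 : T) :=
    Finset.mem_erase.mpr ⟨fun h => hb1 (congrArg Subtype.val h), Finset.mem_univ _⟩
  rw [← hall] at hB
  simp only [Finset.mem_insert, Finset.mem_singleton] at hB
  rcases hB with h | h | h
  · exact ⟨0, by simpa [A] using (congrArg Subtype.val h).symm⟩
  · exact ⟨1, by simpa [hval, A] using (congrArg Subtype.val h).symm⟩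
  · refine ⟨2, ?_⟩
    have := congrArg Subtype.val h
    rw [hval, hval] at this
    rw [pow_two]
    exact (by group : g * g * a * (g * g)⁻¹ = g * (g * a * g⁻¹) * g⁻¹).trans this.symm

theorem quaternion_sq_inner (φ : MulAut (QuaternionGroup 2)) (x : QuaternionGroup 2)
    (hx : x * x ≠ 1) (h : φ x = x ∨ φ x = x⁻¹) :
    φ * φ ∈ (MulAut.conj : QuaternionGroup 2 →* MulAut (QuaternionGroup 2)).range := by
  have key : ∀ A B x : QuaternionGroup 2, x * x ≠ 1 →
      (CfsgLib.GL2.ext8 A B x = x ∨ CfsgLib.GL2.ext8 A B x = x⁻¹) →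
      (∀ u v, CfsgLib.GL2.ext8 A B (u * v) = CfsgLib.GL2.ext8 A B u * CfsgLib.GL2.ext8 A B v) →
      (∀ u, CfsgLib.GL2.ext8 A B u = 1 → u = 1) →
      ∃ q, ∀ u, q * u * q⁻¹ = CfsgLib.GL2.ext8 A B (CfsgLib.GL2.ext8 A B u) := by decide +kernel
  obtain ⟨q, hq⟩ := key (φ (QuaternionGroup.a 1)) (φ (QuaternionGroup.xa 0)) x hx
    (by rw [CfsgLib.GL2.ext8_eq]; exact h)
    (fun u v => by rw [CfsgLib.GL2.ext8_eq]; exact map_mul φ u v)
    (fun u hu => φ.injective (by rw [map_one, ← hu, CfsgLib.GL2.ext8_eq]))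
  exact ⟨q, MulEquiv.ext fun u => by rw [MulAut.mul_apply]; simpa [CfsgLib.GL2.ext8_eq] using hq u⟩

set_option synthInstance.maxSize 2000 in
/-- An element of odd order acting by an outer automorphism on `Q₈` permutes the three cyclic
subgroups of order four transitively. -/
theorem quaternion_moves {Q : Subgroup G} (e : Q ≃* QuaternionGroup 2) {g : G}
    (hg : g ∈ Subgroup.normalizer (Q : Set G)) (hodd : Odd (orderOf g))
    (hgK : g ∉ Q ⊔ Subgroup.centralizer (Q : Set G)) {a b : G} (ha : a ∈ Q) (hb : b ∈ Q)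
    (ha4 : a * a ≠ 1) (hb4 : b * b ≠ 1) :
    ∃ t : ℕ, g ^ t * a * (g ^ t)⁻¹ = b ∨ g ^ t * a * (g ^ t)⁻¹ = b⁻¹ := by
  set θ := Q.normalizerMonoidHom ⟨g, hg⟩ with hθ
  have hval : ∀ v : Q, ((θ v : Q) : G) = g * v * g⁻¹ := fun v => rfl
  set φ := MulAut.congr e θ with hφ
  have hφe : ∀ v : Q, φ (e v) = e (θ v) := fun v => by
    show e (θ (e.symm (e v))) = _
    rw [MulEquiv.symm_apply_apply]
  set Inn := (MulAut.conj : QuaternionGroup 2 →* MulAut (QuaternionGroup 2)).range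
  obtain ⟨m, hm⟩ := hodd
  have hord : φ ^ orderOf g = 1 := by
    rw [hφ, ← map_pow, hθ, ← map_pow,
      show (⟨g, hg⟩ : ↥(Subgroup.normalizer (Q : Set G))) ^ orderOf g = 1 from
        Subtype.ext (pow_orderOf_eq_one g), map_one, map_one]
  have hout : φ ∉ Inn := by
    rintro ⟨q, hq⟩
    apply hgK
    have hc : ((e.symm q : Q) : G)⁻¹ * g ∈ Subgroup.centralizer (Q : Set G) := by
      refine Subgroup.mem_centralizer_iff.mpr fun x hx => ?_
      have h1 := congrArg (fun v => ((e.symm v : Q) : G)) (hφe ⟨x, hx⟩)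
      rw [← hq] at h1
      simp only [MulAut.conj_apply, map_mul, map_inv, MulEquiv.symm_apply_apply, Subgroup.coe_mul,
        Subgroup.coe_inv, hval] at h1
      calc x * (((e.symm q : Q) : G)⁻¹ * g)
          = ((e.symm q : Q) : G)⁻¹ * (((e.symm q : Q) : G) * x * ((e.symm q : Q) : G)⁻¹) * g := by group
        _ = ((e.symm q : Q) : G)⁻¹ * g * x := by rw [h1]; group
    have := mul_mem (Subgroup.mem_sup_left (e.symm q).2 :
      ((e.symm q : Q) : G) ∈ Q ⊔ Subgroup.centralizer (Q : Set G)) (Subgroup.mem_sup_right hc)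
    rwa [mul_inv_cancel_left] at this
  have hsq : φ * φ ∉ Inn := fun h => hout (by
    have := pow_mem h (m + 1)
    rwa [← pow_two, ← pow_mul, show 2 * (m + 1) = orderOf g + 1 by omega, pow_succ, hord, one_mul] at this)
  have h44 : φ * φ * (φ * φ) ∉ Inn := fun h => hsq (by
    have := pow_mem h (m + 1)
    rwa [← pow_two, ← pow_mul, show 2 * (m + 1) = orderOf g + 1 by omega, pow_succ, ← pow_two φ,
      ← pow_mul φ, mul_comm 2, pow_mul, hord, one_pow, one_mul] at this)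
  have hnon : ∀ x : QuaternionGroup 2, x * x ≠ 1 → φ x * φ x ≠ 1 := fun x hx h =>
    hx (φ.injective (by rw [map_mul, h, map_one]))
  set A := e ⟨a, ha⟩
  set B := e ⟨b, hb⟩
  have hA : A * A ≠ 1 := fun h => ha4 (by
    rw [← map_mul] at h
    exact congrArg Subtype.val (e.injective (h.trans (map_one e).symm)))
  have hB : B * B ≠ 1 := fun h => hb4 (by
    rw [← map_mul] at h
    exact congrArg Subtype.val (e.injective (h.trans (map_one e).symm)))
  have h1 : φ A ≠ A ∧ φ A ≠ A⁻¹ := ⟨fun h => hsq (quaternion_sq_inner φ A hA (Or.inl h)),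
    fun h => hsq (quaternion_sq_inner φ A hA (Or.inr h))⟩
  have h2 : φ (φ A) ≠ A ∧ φ (φ A) ≠ A⁻¹ :=
    ⟨fun h => h44 (quaternion_sq_inner (φ * φ) A hA (Or.inl h)),
      fun h => h44 (quaternion_sq_inner (φ * φ) A hA (Or.inr h))⟩
  have h3 : φ (φ A) ≠ φ A ∧ φ (φ A) ≠ (φ A)⁻¹ :=
    ⟨fun h => hsq (quaternion_sq_inner φ _ (hnon A hA) (Or.inl h)),
      fun h => hsq (quaternion_sq_inner φ _ (hnon A hA) (Or.inr h))⟩
  have key : ∀ x y w v : QuaternionGroup 2, x * x ≠ 1 ∧ y * y ≠ 1 ∧ w * w ≠ 1 ∧ v * v ≠ 1 ∧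
      y ≠ x ∧ y ≠ x⁻¹ ∧ w ≠ x ∧ w ≠ x⁻¹ ∧ w ≠ y ∧ w ≠ y⁻¹ →
      v = x ∨ v = x⁻¹ ∨ v = y ∨ v = y⁻¹ ∨ v = w ∨ v = w⁻¹ := by decide +kernel
  have pull : ∀ (v : Q) (t : ℕ), ((θ ^ t) v : G) = g ^ t * v * (g ^ t)⁻¹ := by
    intro v t
    rw [hθ, ← map_pow]
    rfl
  have fin : ∀ t : ℕ, (φ ^ t) A = e ((θ ^ t) ⟨a, ha⟩) := by
    intro t
    induction t with
    | zero => rfl
    | succ t ih => rw [pow_succ' φ, pow_succ' θ, MulAut.mul_apply, MulAut.mul_apply, ih, hφe]
  have conv : ∀ t : ℕ, B = (φ ^ t) A ∨ B = ((φ ^ t) A)⁻¹ →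
      g ^ t * a * (g ^ t)⁻¹ = b ∨ g ^ t * a * (g ^ t)⁻¹ = b⁻¹ := by
    intro t h
    rw [fin] at h
    rcases h with h | h
    · left
      have := congrArg Subtype.val (e.injective h)
      rw [pull] at this
      exact this.symm
    · right
      rw [← map_inv] at h
      have := congrArg Subtype.val (e.injective h)
      rw [Subgroup.coe_inv, pull] at this
      rw [show b = ((⟨b, hb⟩ : Q) : G) from rfl, this, inv_inv]
  rcases key A (φ A) (φ (φ A)) B ⟨hA, hnon A hA, hnon _ (hnon A hA), hB, h1.1, h1.2, h2.1, h2.2,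
      h3.1, h3.2⟩ with h | h | h | h | h | h
  · exact ⟨0, conv 0 (Or.inl h)⟩
  · exact ⟨0, conv 0 (Or.inr h)⟩
  · exact ⟨1, conv 1 (Or.inl (by rw [pow_one]; exact h))⟩
  · exact ⟨1, conv 1 (Or.inr (by rw [pow_one]; exact h))⟩
  · exact ⟨2, conv 2 (Or.inl (by rw [pow_two]; exact h))⟩
  · exact ⟨2, conv 2 (Or.inr (by rw [pow_two]; exact h))⟩

end CfsgLib.SmallTwo
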