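import Mathlib
import Cfsg.Agent.Lib.Coprime.Action
import Cfsg.Agent.Lib.PSolvable.Omega
import Cfsg.Agent.Lib.Critical.Basic
import Cfsg.Agent.Lib.Invol.SolvableCore
import Cfsg.Agent.Lib.Extraspecial.Basics

/-!
2-groups in which every four-group is self-centralizing, and 2-groups all of whose proper invariant
subgroups under an odd group have this property.
-/

set_option autoImplicit false
set_option linter.style.haveILetI false

open scoped commutatorElement

namespace CfsgLib.MinimalEight

variable {G : Type*} [Group G]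

/-- Every four-subgroup of `M` is self-centralizing in `M`. -/
def Small (M : Subgroup G) : Prop :=
  ∀ u ∈ M, ∀ v ∈ M, ∀ w ∈ M, u * u = 1 → v * v = 1 → u ≠ 1 → v ≠ 1 → u ≠ v → u * v = v * u →
    w * u = u * w → w * v = v * w → w = 1 ∨ w = u ∨ w = v ∨ w = u * v

/-- A quaternion group of order eight inside a group, with its data. -/
structure Q8Data (M : Subgroup G) (z a b : G) : Prop where
  card : Nat.card M = 8
  iso : Nonempty (↥M ≃* QuaternionGroup 2)
  hz : z ∈ M
  hz1 : z ≠ 1
  hzz : z * z = 1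
  ha : a ∈ M
  hb : b ∈ M
  hab : b * a = a * b * z
  aa : a * a = z
  bb : b * b = z
  gen : M = Subgroup.closure {a, b}
  center : ∀ x ∈ M, (∀ y ∈ M, x * y = y * x) → x = 1 ∨ x = z
  inv : ∀ x ∈ M, x * x = 1 → x = 1 ∨ x = z
  sq : ∀ x ∈ M, x * x = 1 ∨ x * x = z
  zc : ∀ x ∈ M, z * x = x * z

theorem exists_q8Data {M : Subgroup G} (e : ↥M ≃* QuaternionGroup 2) :
    ∃ z a b, Q8Data M z a b := by
  let f : QuaternionGroup 2 →* G := M.subtype.comp e.symm.toMonoidHom
  have hf : Function.Injective f := M.subtype_injective.comp e.symm.injective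
  have hmem : ∀ q, f q ∈ M := fun q => (e.symm q).2
  have hsurj : ∀ x ∈ M, ∃ q, f q = x := fun x hx => ⟨e ⟨x, hx⟩, by simp [f]⟩
  refine ⟨f (.a 2), f (.a 1), f (.xa 0), ?_, ⟨e⟩, hmem _, ?_, ?_, hmem _, hmem _, ?_, ?_, ?_, ?_, ?_, ?_, ?_, ?_⟩
  · rw [Nat.card_congr e.toEquiv, Nat.card_eq_fintype_card]; rfl
  · rw [← map_one f]; exact fun h => absurd (hf h) (by decide)
  · rw [← map_mul, ← map_one f]; exact congrArg f (by decide)
  · rw [← map_mul, ← map_mul, ← map_mul]; exact congrArg f (by decide)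
  · rw [← map_mul]; exact congrArg f (by decide)
  · rw [← map_mul]; exact congrArg f (by decide)
  · refine le_antisymm (fun x hx => ?_) ((Subgroup.closure_le M).2 ?_)
    · obtain ⟨q, rfl⟩ := hsurj x hx
      have h1 : ∀ q : QuaternionGroup 2, ∃ i : Fin 4, q = .a 1 ^ (i : ℕ) ∨ q = .xa 0 * .a 1 ^ (i : ℕ) := by decide
      obtain ⟨i, rfl | rfl⟩ := h1 q
      · rw [map_pow]; exact Subgroup.pow_mem _ (Subgroup.subset_closure (by simp)) _
      · rw [map_mul, map_pow]
        exact Subgroup.mul_mem _ (Subgroup.subset_closure (by simp)) (Subgroup.pow_mem _ (Subgroup.subset_closure (by simp)) _)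
    · rintro x (rfl | rfl) <;> exact hmem _
  · intro x hx hc
    obtain ⟨q, rfl⟩ := hsurj x hx
    have h1 : ∀ q : QuaternionGroup 2, (∀ r, q * r = r * q) → q = 1 ∨ q = .a 2 := by decide
    rcases h1 q (fun r => hf (by rw [map_mul, map_mul]; exact hc _ (hmem r))) with rfl | rfl
    · exact Or.inl (map_one f)
    · exact Or.inr rfl
  · intro x hx hc
    obtain ⟨q, rfl⟩ := hsurj x hx
    have h1 : ∀ q : QuaternionGroup 2, q * q = 1 → q = 1 ∨ q = .a 2 := by decide
    rcases h1 q (hf (by rw [map_mul, map_one]; exact hc)) with rfl | rfl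
    · exact Or.inl (map_one f)
    · exact Or.inr rfl
  · intro x hx
    obtain ⟨q, rfl⟩ := hsurj x hx
    have h1 : ∀ q : QuaternionGroup 2, q * q = 1 ∨ q * q = .a 2 := by decide
    rw [← map_mul]
    rcases h1 q with h | h <;> rw [h]
    · exact Or.inl (map_one f)
    · exact Or.inr rfl
  · intro x hx
    obtain ⟨q, rfl⟩ := hsurj x hx
    have h1 : ∀ q : QuaternionGroup 2, QuaternionGroup.a 2 * q = q * .a 2 := by decide
    rw [← map_mul, ← map_mul, h1]

/-- An element fixing every coset of the centre of a quaternion group acts as an inner element. -/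
theorem q8_inner {M : Subgroup G} {z a b g : G} (h : Q8Data M z a b)
    (ha : g * a * g⁻¹ = a ∨ g * a * g⁻¹ = a * z) (hb : g * b * g⁻¹ = b ∨ g * b * g⁻¹ = b * z) :
    ∃ m ∈ M, ∀ x ∈ M, (m * g) * x = x * (m * g) := by
  have hza : z * a = a * z := h.zc a h.ha
  have hzb : z * b = b * z := h.zc b h.hb
  have h1 : a * b * a⁻¹ = b * z := by
    have e : a * b = b * a * z := by rw [h.hab, mul_assoc, h.hzz, mul_one]
    rw [e, mul_assoc (b * a), show z * a⁻¹ = a⁻¹ * z from Commute.inv_right hza]
    group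
  have h2 : b * a * b⁻¹ = a * z := by rw [h.hab, mul_assoc (a * b), show z * b⁻¹ = b⁻¹ * z from Commute.inv_right hzb]; group
  have hzc : ∀ y : G, y ∈ M → y * z * y⁻¹ = z := fun y hy => by rw [← h.zc y hy, mul_inv_cancel_right]
  have key : ∀ m ∈ M, m * (g * a * g⁻¹) * m⁻¹ = a → m * (g * b * g⁻¹) * m⁻¹ = b →
      ∃ m ∈ M, ∀ x ∈ M, (m * g) * x = x * (m * g) := by
    intro m hm e1 e2
    refine ⟨m, hm, fun x hx => ?_⟩
    have hle : M ≤ Subgroup.centralizer ({m * g} : Set G) := by
      rw [h.gen, Subgroup.closure_le]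
      rintro y (rfl | rfl) <;> rw [SetLike.mem_coe, Subgroup.mem_centralizer_singleton_iff]
      · conv_lhs => rw [← e1]
        group
      · conv_lhs => rw [← e2]
        group
    exact (Subgroup.mem_centralizer_singleton_iff.1 (hle hx)).symm
  rcases ha with ha | ha <;> rcases hb with hb | hb
  · exact key 1 M.one_mem (by rw [ha]; group) (by rw [hb]; group)
  · refine key a h.ha (by rw [ha, mul_inv_cancel_right]) ?_
    rw [hb, show a * (b * z) * a⁻¹ = (a * b * a⁻¹) * (a * z * a⁻¹) by group, h1, hzc a h.ha, mul_assoc, h.hzz, mul_one]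
  · refine key b h.hb ?_ (by rw [hb, mul_inv_cancel_right])
    rw [ha, show b * (a * z) * b⁻¹ = (b * a * b⁻¹) * (b * z * b⁻¹) by group, h2, hzc b h.hb, mul_assoc, h.hzz, mul_one]
  · refine key (a * b) (mul_mem h.ha h.hb) ?_ ?_
    · rw [ha, show a * b * (a * z) * (a * b)⁻¹ = a * ((b * a * b⁻¹) * (b * z * b⁻¹)) * a⁻¹ by group, h2,
        hzc b h.hb, mul_assoc a z z, h.hzz, mul_one, mul_inv_cancel_right]
    · rw [hb, show a * b * (b * z) * (a * b)⁻¹ = (a * b * a⁻¹) * (a * (b * z * b⁻¹) * a⁻¹) by group, hzc b h.hb,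
        hzc a h.ha, h1, mul_assoc, h.hzz, mul_one]

variable [Finite G]

theorem card_four_elems {V : Type*} [Group V] [Finite V] (h4 : Nat.card V = 4) {x y : V} (hx : x ≠ 1)
    (hy : y ≠ 1) (hxy : x ≠ y) (hxx : x * x = 1) (w : V) : w = 1 ∨ w = x ∨ w = y ∨ w = x * y := by
  classical
  haveI := Fintype.ofFinite V
  have hne : x * y ≠ 1 := fun e => hxy (mul_left_cancel (hxx.trans e.symm))
  have hcard : ({1, x, y, x * y} : Finset V).card = 4 := by
    have d1 : (1 : V) ∉ ({x, y, x * y} : Finset V) := by simp [Ne.symm hx, Ne.symm hy, Ne.symm hne]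
    have d2 : x ∉ ({y, x * y} : Finset V) := by simp [hxy, hy]
    have d3 : y ∉ ({x * y} : Finset V) := by simp [hx]
    rw [Finset.card_insert_of_notMem d1, Finset.card_insert_of_notMem d2, Finset.card_insert_of_notMem d3,
      Finset.card_singleton]
  have := Finset.eq_univ_of_card _ (hcard.trans (by rw [← Nat.card_eq_fintype_card, h4]))
  have hw := this.ge (Finset.mem_univ w)
  simpa using hw

theorem aut_eq_one_of_sq {M : Type*} [Group M] [Finite M] {φ : MulAut M} (hφ : Odd (orderOf φ))
    (h : φ ^ 2 = 1) : φ = 1 := by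
  rcases (Nat.dvd_prime Nat.prime_two).1 (orderOf_dvd_of_pow_eq_one h) with e | e
  · exact orderOf_eq_one_iff.1 e
  · rw [e] at hφ; exact absurd hφ (by decide)

/-- A small 2-group with two involutions and a nontrivial odd automorphism is a four-group. -/
theorem four_of_aut {M : Type*} [Group M] [Finite M] (hM : IsPGroup 2 M)
    (hs : Small (⊤ : Subgroup M)) (φ : MulAut M) (hφ : Odd (orderOf φ)) (hφ1 : φ ≠ 1)
    (hinv : ∃ x y : M, orderOf x = 2 ∧ orderOf y = 2 ∧ x ≠ y) :
    Nat.card M = 4 ∧ ∀ m : M, m * m = 1 := by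
  classical
  haveI : Fact (Nat.Prime 2) := ⟨Nat.prime_two⟩
  haveI : Nontrivial M := by obtain ⟨x, y, -, -, h⟩ := hinv; exact ⟨x, y, h⟩
  obtain ⟨z, hz⟩ : ∃ z : Subgroup.center M, orderOf z = 2 := by
    haveI := hM.center_nontrivial
    refine exists_prime_orderOf_dvd_card' 2 ?_
    obtain ⟨n, hn⟩ := IsPGroup.iff_card.1 (hM.to_subgroup (Subgroup.center M))
    rw [hn]
    refine dvd_pow_self 2 fun e => ?_
    rw [e, pow_zero] at hn
    haveI := (Nat.card_eq_one_iff_unique.1 hn).1
    exact not_nontrivial (Subgroup.center M) inferInstance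
  set Φ := frattini M with hΦ
  have hsq : ∀ x : M, orderOf x = 2 → x * x = 1 ∧ x ≠ 1 := fun x hx =>
    ⟨by rw [← pow_two, ← hx]; exact pow_orderOf_eq_one x, fun e => by rw [e, orderOf_one] at hx; omega⟩
  obtain ⟨u, hu, huz⟩ : ∃ u : M, orderOf u = 2 ∧ u ≠ z := by
    obtain ⟨x, y, hx, hy, hxy⟩ := hinv
    by_cases h : x = z
    · exact ⟨y, hy, fun e => hxy (h.trans e.symm)⟩
    · exact ⟨x, hx, h⟩
  obtain ⟨huu, hu1⟩ := hsq u hu
  obtain ⟨hzz, hz1⟩ := hsq (z : M) (by rw [Subgroup.orderOf_coe]; exact hz)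
  have hzc : ∀ x : M, x * z = (z : M) * x := fun x => Subgroup.mem_center_iff.1 z.2 x
  set C := Subgroup.centralizer ({u} : Set M) with hC
  have hC4 : Nat.card C ≤ 4 := by
    have hsub : ∀ x ∈ C, x ∈ ({1, u, (z : M), u * z} : Finset M) := fun x hx => by
      have := hs u trivial (z : M) trivial x trivial huu hzz hu1 hz1 huz (hzc u)
        (Subgroup.mem_centralizer_singleton_iff.1 hx) (hzc x)
      simpa using this
    refine (Nat.card_le_card_of_injective (fun x : C => (⟨x.1, hsub x.1 x.2⟩ : ({1, u, (z : M), u * z} : Finset M)))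
      fun x y e => Subtype.ext (congrArg Subtype.val e :)).trans ?_
    rw [Nat.card_eq_fintype_card, Fintype.card_coe]
    exact (Finset.card_insert_le _ _).trans (Nat.succ_le_succ Finset.card_le_three)
  have hmem : ∀ g : M, g * u * g⁻¹ * u⁻¹ ∈ Φ := fun g =>
    (PSolvable.commutator_le_frattini hM).1 (Subgroup.commutator_mem_commutator (Subgroup.mem_top g) (Subgroup.mem_top u))
  let f : M → Φ := fun g => ⟨g * u * g⁻¹ * u⁻¹, hmem g⟩
  have hfib : ∀ g h : M, f g = f h → h⁻¹ * g ∈ C := fun g h e => by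
    have e' : g * u * g⁻¹ = h * u * h⁻¹ := mul_right_cancel (congrArg Subtype.val e)
    rw [hC, Subgroup.mem_centralizer_singleton_iff]
    calc h⁻¹ * g * u = h⁻¹ * (g * u * g⁻¹) * g := by group
      _ = h⁻¹ * (h * u * h⁻¹) * g := by rw [e']
      _ = u * (h⁻¹ * g) := by group
  have hMle : Nat.card M ≤ Nat.card (Set.range f) * Nat.card C := by
    rw [← Nat.card_prod]
    refine Nat.card_le_card_of_injective (fun g => (⟨f g, g, rfl⟩,
      ⟨(Function.invFun f (f g))⁻¹ * g, hfib _ _ (Function.invFun_eq ⟨g, rfl⟩).symm⟩)) ?_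
    intro g h e
    have e1 : f g = f h := congrArg Subtype.val (congrArg Prod.fst e)
    have e2 : (Function.invFun f (f g))⁻¹ * g = (Function.invFun f (f h))⁻¹ * h :=
      congrArg Subtype.val (congrArg Prod.snd e)
    rw [e1] at e2
    exact mul_left_cancel e2
  have hrange : Nat.card (Set.range f) ≤ Nat.card Φ :=
    Nat.card_le_card_of_injective _ Subtype.val_injective
  have hidx : 4 ≤ Φ.index := by
    have h0 : Φ.index ≠ 0 := Subgroup.index_ne_zero_of_finite
    obtain ⟨n, hn⟩ := IsPGroup.iff_card.1 (hM.to_quotient Φ)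
    rw [← Subgroup.index_eq_card] at hn
    by_contra hlt
    have : n ≤ 1 := by
      by_contra h'
      have := Nat.pow_le_pow_right two_pos (show 2 ≤ n by omega)
      omega
    interval_cases n
    · have := frattini_nongenerating (K := (⊥ : Subgroup M)) (by rw [bot_sup_eq, ← Subgroup.index_eq_one]; simpa using hn)
      exact bot_ne_top this
    · obtain ⟨x, hx⟩ : ∃ x, x ∉ Φ := by
        by_contra h
        push Not at h
        rw [(Subgroup.eq_top_iff' Φ).2 h, Subgroup.index_top] at hn
        omega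
      have hgen : Subgroup.zpowers x = ⊤ := by
        refine frattini_nongenerating ((Subgroup.eq_top_iff' _).2 fun y => ?_)
        by_cases hy : y ∈ Φ
        · exact Subgroup.mem_sup_right hy
        · have := (Subgroup.mul_mem_iff_of_index_two (by simpa using hn : Φ.index = 2)).2
            (show x⁻¹ ∈ Φ ↔ y ∈ Φ by simp [hx, hy])
          have h2 := Subgroup.mul_mem _ (Subgroup.mem_sup_left (T := Φ) (Subgroup.mem_zpowers x))
            (Subgroup.mem_sup_right (S := Subgroup.zpowers x) this)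
          simpa using h2
      obtain ⟨x', y', hx', hy', hne⟩ := hinv
      haveI : IsCyclic M := ⟨⟨x, fun y => hgen.ge (Subgroup.mem_top y)⟩⟩
      haveI := Fintype.ofFinite M
      have h3 : ({1, x', y'} : Finset M).card ≤ (Finset.univ.filter fun a : M => a ^ 2 = 1).card :=
        Finset.card_le_card fun a ha => by
          simp only [Finset.mem_insert, Finset.mem_singleton] at ha
          rw [Finset.mem_filter]
          refine ⟨Finset.mem_univ _, ?_⟩
          rcases ha with rfl | rfl | rfl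
          · exact one_pow 2
          · rw [pow_two]; exact (hsq _ hx').1
          · rw [pow_two]; exact (hsq _ hy').1
      rw [Finset.card_eq_three.2 ⟨1, x', y', Ne.symm (hsq _ hx').2, Ne.symm (hsq _ hy').2, hne, rfl⟩] at h3
      have := IsCyclic.card_pow_eq_one_le (α := M) (n := 2) two_pos
      omega
  have hΦM := Subgroup.card_mul_index Φ
  have hle : Nat.card M ≤ Nat.card Φ * 4 := hMle.trans (Nat.mul_le_mul hrange hC4)
  have hpos : 0 < Nat.card Φ := Nat.card_pos
  have hidx4 : Φ.index = 4 := le_antisymm (Nat.le_of_mul_le_mul_left (hΦM.le.trans hle) hpos) hidx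
  have hsurj : Function.Surjective f := by
    intro m
    by_contra hm
    have hlt : Nat.card (Set.range f) < Nat.card Φ := by
      refine lt_of_le_of_ne hrange fun e => hm ?_
      have h1 := ((Nat.bijective_iff_injective_and_card (Subtype.val : Set.range f → Φ)).2
        ⟨Subtype.val_injective, e⟩).2 m
      obtain ⟨⟨_, g, rfl⟩, hg⟩ := h1
      exact ⟨g, hg⟩
    have := hMle.trans (Nat.mul_le_mul_left _ hC4)
    rw [← hΦM, hidx4] at this
    have := Nat.le_of_mul_le_mul_right this (by norm_num : 0 < 4)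
    omega
  -- every element of `Φ u` is an involution
  have hI : ∀ x : M, x * u⁻¹ ∈ Φ → x * x = 1 := by
    intro x hx
    obtain ⟨g, hg⟩ := hsurj ⟨_, hx⟩
    have e : g * u * g⁻¹ = x := mul_right_cancel (congrArg Subtype.val hg)
    rw [← e, show g * u * g⁻¹ * (g * u * g⁻¹) = g * (u * u) * g⁻¹ by group, huu, mul_one, mul_inv_cancel]
  have huΦ : u ∉ Φ := fun h => by
    obtain ⟨g, hg⟩ := hsurj ⟨_, inv_mem h⟩
    have e : g * u * g⁻¹ = 1 := mul_right_cancel ((congrArg Subtype.val hg).trans (one_mul _).symm)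
    exact hu1 (conj_eq_one_iff.1 e)
  haveI : Φ.Normal := inferInstance
  let π := QuotientGroup.mk' Φ
  have hπ : ∀ x y : M, π x = π y ↔ x * y⁻¹ ∈ Φ := fun x y => by
    rw [← mul_inv_eq_one, ← map_inv, ← map_mul, ← MonoidHom.mem_ker, QuotientGroup.ker_mk']
  have hΦφ : ∀ x, x ∈ Φ → φ x ∈ Φ := fun x hx =>
    Subgroup.characteristic_iff_map_le.1 (inferInstance : Φ.Characteristic) φ ⟨x, hx, rfl⟩
  have hπφ : ∀ x y : M, π x = π y → π (φ x) = π (φ y) := fun x y h => by
    rw [hπ] at h ⊢
    rw [← map_inv, ← map_mul]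
    exact hΦφ _ h
  have hπinj : ∀ x y : M, π (φ x) = π (φ y) → π x = π y := fun x y h => by
    rw [hπ] at h ⊢
    have := Subgroup.characteristic_iff_map_le.1 (inferInstance : Φ.Characteristic) φ.symm ⟨_, h, rfl⟩
    simpa using this
  have hfix : ∀ ψ : MulAut M, Odd (orderOf ψ) → (∀ x, π (ψ x) = π x) → ψ = 1 := by
    intro ψ hψ h
    refine Coprime.mulAut_eq_one_of_frattini ψ ?_ fun k => QuotientGroup.eq.1 (h k).symm
    obtain ⟨e, he⟩ := IsPGroup.iff_card.1 (hM.to_subgroup Φ)
    rw [he]
    exact (Nat.Coprime.pow_right _ (Nat.coprime_two_right.2 hψ))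
  have hV4 : Nat.card (M ⧸ Φ) = 4 := by rw [← Subgroup.index_eq_card, hidx4]
  have hu0 : π u ≠ 1 := fun e => huΦ (by rwa [← MonoidHom.mem_ker, QuotientGroup.ker_mk'] at e)
  have hπuu : π u * π u = 1 := by rw [← map_mul, huu, map_one]
  have h2 : Odd (orderOf (φ ^ 2)) := Odd.of_dvd_nat hφ (orderOf_pow_dvd 2)
  have hnofix : ∀ x, π x ≠ 1 → π (φ x) ≠ π x := by
    intro x hx0 hx
    have hxx : π x * π x = 1 := by
      rw [← map_mul, ← MonoidHom.mem_ker, QuotientGroup.ker_mk', ← pow_two]
      exact (PSolvable.commutator_le_frattini hM).2 x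
    obtain ⟨y, hy⟩ : ∃ y, π (φ y) ≠ π y := by
      by_contra h
      push Not at h
      exact hφ1 (hfix φ hφ h)
    have hy0 : π y ≠ 1 := fun e => hy (by rw [e]; rw [← map_one π] at e ⊢; rw [hπφ y 1 e, map_one φ])
    have hxy : π x ≠ π y := fun e => hy (by rw [← hπφ x y e, hx, e])
    have hcases := card_four_elems hV4 hx0 hy0 hxy hxx
    have hyy : π (φ y) = π x * π y := by
      rcases hcases (π (φ y)) with e | e | e | e
      · exact absurd (hπinj y 1 (by rw [e, map_one φ, map_one π])) (by rw [map_one π]; exact hy0)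
      · exact absurd (hπinj y x (e.trans hx.symm)).symm hxy
      · exact absurd e hy
      · exact e
    have hyyy : π (φ (φ y)) = π y := by
      have := hπφ (φ y) (x * y) (by rw [hyy, map_mul])
      rw [this, map_mul φ, map_mul π, hx, hyy, ← mul_assoc, hxx, one_mul]
    refine hφ1 (aut_eq_one_of_sq hφ (hfix _ h2 fun w => ?_))
    rw [pow_two, MulAut.mul_apply]
    rcases hcases (π w) with e | e | e | e
    · rw [← map_one π] at e
      rw [hπφ _ _ (hπφ w 1 e), map_one φ, map_one φ, e]
    · rw [hπφ _ _ (hπφ w x e), hπφ _ _ hx, hx, e]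
    · rw [hπφ _ _ (hπφ w y e), hyyy, e]
    · rw [← map_mul] at e
      rw [hπφ _ _ (hπφ w _ e), map_mul φ, map_mul φ, map_mul π, hπφ _ _ hx, hx, hyyy, e, map_mul]
  -- all elements of the three nontrivial cosets square to one
  have hI1 : ∀ x : M, π x = π (φ u) → x * x = 1 := fun x hx => by
    have := hI (φ.symm x) ((hπ _ _).1 (hπinj _ u (by rw [MulEquiv.apply_symm_apply, hx])))
    have h := congrArg φ this
    rwa [map_mul, MulEquiv.apply_symm_apply, map_one] at h
  have hv0 : π (φ u) ≠ 1 := fun e => hu0 (by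
    have := hπinj u 1 (by rw [e, map_one φ, map_one π]); rwa [map_one] at this)
  have huv : π u ≠ π (φ u) := Ne.symm (hnofix u hu0)
  have hw : π (φ (φ u)) = π u * π (φ u) := by
    rcases card_four_elems hV4 hu0 hv0 huv hπuu (π (φ (φ u))) with e | e | e | e
    · exact absurd (hπinj (φ u) 1 (by rw [e, map_one φ, map_one π])) (by rw [map_one π]; exact hv0)
    · -- the square of `φ` would fix everything
      exfalso
      refine hφ1 (aut_eq_one_of_sq hφ (hfix _ h2 fun w => ?_))
      rw [pow_two, MulAut.mul_apply]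
      rcases card_four_elems hV4 hu0 hv0 huv hπuu (π w) with e' | e' | e' | e'
      · rw [← map_one π] at e'
        rw [hπφ _ _ (hπφ w 1 e'), map_one φ, map_one φ, e']
      · rw [hπφ _ _ (hπφ w u e'), e, e']
      · rw [hπφ _ _ (hπφ w _ e'), hπφ _ _ e, e']
      · rw [← map_mul] at e'
        rw [hπφ _ _ (hπφ w _ e'), map_mul φ, map_mul φ, map_mul π, e, hπφ _ _ e, e', map_mul]
    · exact absurd e (hnofix (φ u) hv0)
    · exact e
  have hI2 : ∀ x : M, π x = π u * π (φ u) → x * x = 1 := fun x hx => by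
    have := hI1 (φ.symm x) (hπinj _ _ (by rw [MulEquiv.apply_symm_apply, hx, hw]))
    have h := congrArg φ this
    rwa [map_mul, MulEquiv.apply_symm_apply, map_one] at h
  have hcomm : ∀ y : M, π y = π (φ u) → y ∈ C := fun y hy => by
    have h1 := hI2 (u * y) (by rw [map_mul, hy])
    have h2' := hI1 y hy
    rw [hC, Subgroup.mem_centralizer_singleton_iff]
    calc y * u = (u * u) * (y * u) * (y * y) := by rw [huu, h2', one_mul, mul_one]
      _ = u * ((u * y) * (u * y)) * y := by group
      _ = u * y := by rw [h1, mul_one]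
  have huC : u ∈ C := by rw [hC, Subgroup.mem_centralizer_singleton_iff]
  have hΦC : ∀ m ∈ Φ, m ∈ C := fun m hm => by
    have h1 := hcomm (φ u * m) (by rw [map_mul, show π m = 1 from (QuotientGroup.eq_one_iff m).2 hm, mul_one])
    have h2' := C.mul_mem (C.inv_mem (hcomm (φ u) rfl)) h1
    rwa [inv_mul_cancel_left] at h2'
  have hCtop : ∀ x : M, x ∈ C := by
    intro x
    have hrep : ∀ y ∈ C, π x = π y → x ∈ C := fun y hy e => by
      have := C.mul_mem (hΦC _ ((hπ x y).1 e)) hy
      rwa [inv_mul_cancel_right] at this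
    rcases card_four_elems hV4 hu0 hv0 huv hπuu (π x) with e | e | e | e
    · exact hrep 1 C.one_mem (by rw [e, map_one])
    · exact hrep u huC e
    · exact hrep _ (hcomm _ rfl) e
    · exact hrep _ (C.mul_mem huC (hcomm _ rfl)) (by rw [e, map_mul])
  have hM4 : Nat.card M ≤ 4 := (Nat.card_le_card_of_injective (fun x : M => (⟨x, hCtop x⟩ : C))
    fun x y e => congrArg Subtype.val e).trans hC4
  have hΦ1 : Φ = ⊥ := by
    refine Subgroup.eq_bot_of_card_eq Φ ?_
    rw [← hΦM, hidx4] at hM4
    omega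
  refine ⟨by rw [← hΦM, hidx4, hΦ1, Subgroup.card_bot], fun m => ?_⟩
  rw [← pow_two, ← Subgroup.mem_bot (G := M), ← hΦ1]
  exact (PSolvable.commutator_le_frattini hM).2 m

/-- A small 2-subgroup moved by an odd group is a four-group or a quaternion group of order eight. -/
theorem moved_cases {A M : Subgroup G} (hA : Odd (Nat.card A)) (hAM : A ≤ Subgroup.normalizer (M : Set G))
    (hM : IsPGroup 2 M) (hs : Small M) (hmove : ¬ A ≤ Subgroup.centralizer (M : Set G)) :
    (Nat.card M = 4 ∧ ∀ m ∈ M, m * m = 1) ∨ ∃ z a b, Q8Data M z a b := by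
  obtain ⟨x, hxA, hx⟩ := Set.not_subset.1 hmove
  let φ : MulAut M := M.normalizerMonoidHom ⟨x, hAM hxA⟩
  have hodd : Odd (orderOf φ) := Odd.of_dvd_nat hA ((orderOf_map_dvd _ _).trans
    (by rw [← Subgroup.orderOf_coe]; exact Subgroup.orderOf_dvd_natCard A hxA))
  have hne : φ ≠ 1 := fun e => hx fun m hm => by
    have h1 : φ ⟨m, hm⟩ = ⟨m, hm⟩ := by rw [e]; rfl
    have h2 : x * m * x⁻¹ = m := congrArg Subtype.val h1
    exact (mul_inv_eq_iff_eq_mul.1 h2).symm
  by_cases huniq : ∀ x y : M, orderOf x = 2 → orderOf y = 2 → x = y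
  · rcases Invol.mulAut_or_quaternion_eight hM huniq with h | ⟨⟨e⟩⟩
    · obtain ⟨k, hk⟩ := h φ
      obtain ⟨i, -, hi⟩ := (Nat.dvd_prime_pow Nat.prime_two).1 (orderOf_dvd_of_pow_eq_one hk)
      rcases Nat.eq_zero_or_pos i with rfl | hi0
      · exact absurd (orderOf_eq_one_iff.1 (by rw [hi, pow_zero])) hne
      · rw [hi] at hodd
        exact absurd hodd (Nat.not_odd_iff_even.2 ((Nat.even_pow).2 ⟨even_two, by omega⟩))
    · exact Or.inr (exists_q8Data e)
  · push Not at huniq
    obtain ⟨h4, h2⟩ := four_of_aut hM (fun u _ v _ w _ h1 h2 h3 h4 h5 h6 h7 h8 => by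
      have := hs u u.2 v v.2 w w.2 (congrArg Subtype.val h1) (congrArg Subtype.val h2)
        (fun e => h3 (Subtype.ext e)) (fun e => h4 (Subtype.ext e)) (fun e => h5 (Subtype.ext e))
        (congrArg Subtype.val h6) (congrArg Subtype.val h7) (congrArg Subtype.val h8)
      rcases this with e | e | e | e
      · exact Or.inl (Subtype.ext e)
      · exact Or.inr (Or.inl (Subtype.ext e))
      · exact Or.inr (Or.inr (Or.inl (Subtype.ext e)))
      · exact Or.inr (Or.inr (Or.inr (Subtype.ext e)))) φ hodd hne huniq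
    exact Or.inl ⟨h4, fun m hm => congrArg Subtype.val (h2 ⟨m, hm⟩)⟩

theorem centralizes_of_card_two {A N : Subgroup G} (hN : A ≤ Subgroup.normalizer (N : Set G))
    (h2 : Nat.card N = 2) : A ≤ Subgroup.centralizer (N : Set G) := by
  intro c hc m hm
  rw [SetLike.mem_coe] at hm
  by_cases hm1 : m = 1
  · rw [hm1, one_mul, mul_one]
  have hm' : c * m * c⁻¹ ∈ N := (Subgroup.mem_normalizer_iff.1 (hN hc) _).1 hm
  have hm'1 : c * m * c⁻¹ ≠ 1 := fun e => hm1 (conj_eq_one_iff.1 e)
  have e := ((Nat.card_eq_two_iff' (1 : N)).1 h2).unique (y₁ := ⟨m, hm⟩) (y₂ := ⟨_, hm'⟩)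
    (fun e => hm1 (congrArg Subtype.val e)) (fun e => hm'1 (congrArg Subtype.val e))
  exact (mul_inv_eq_iff_eq_mul.1 (congrArg Subtype.val e).symm).symm

/-- An odd group centralizing a subgroup of index two of a 2-group centralizes the group. -/
theorem centralizes_of_index_two {A M N : Subgroup G} (hA : Odd (Nat.card A)) (hM : IsPGroup 2 M)
    (hAM : A ≤ Subgroup.normalizer (M : Set G)) (hNM : N ≤ M) (hAN : A ≤ Subgroup.normalizer (N : Set G))
    (hcard : Nat.card M = 2 * Nat.card N) (hc : A ≤ Subgroup.centralizer (N : Set G)) :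
    A ≤ Subgroup.centralizer (M : Set G) := by
  haveI : Fact (Nat.Prime 2) := ⟨Nat.prime_two⟩
  have hidx : (N.subgroupOf M).index = 2 := by
    have h1 := Subgroup.card_mul_index (N.subgroupOf M)
    rw [Nat.card_congr (Subgroup.subgroupOfEquivOfLe hNM).toEquiv, hcard, mul_comm 2] at h1
    exact Nat.eq_of_mul_eq_mul_left Nat.card_pos h1
  refine Subgroup.le_centralizer_iff.1 ((Subgroup.commutator_eq_bot_iff_le_centralizer).1 ?_)
  refine Coprime.commutator_eq_bot_of_commutator_commutator hAM ?_ ?_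
  · obtain ⟨e, he⟩ := IsPGroup.iff_card.1 hM
    rw [he]; exact Nat.Coprime.pow_right _ (Nat.coprime_two_right.2 hA)
  refine le_bot_iff.1 ((Subgroup.commutator_mono (show ⁅M, A⁆ ≤ N from ?_) le_rfl).trans
    (Subgroup.commutator_eq_bot_iff_le_centralizer.2 (Subgroup.le_centralizer_iff.1 hc)).le)
  refine Subgroup.commutator_le.2 fun m hm c hc => ?_
  have hm' : c * m⁻¹ * c⁻¹ ∈ M := (Subgroup.mem_normalizer_iff.1 (hAM hc) _).1 (inv_mem hm)
  have := (Subgroup.mul_mem_iff_of_index_two hidx (a := ⟨m, hm⟩) (b := ⟨_, hm'⟩)).2 ⟨fun hmN =>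
    (Subgroup.mem_normalizer_iff.1 (hAN hc) _).1 (inv_mem hmN), fun h' => by
      show m ∈ N
      have := inv_mem ((Subgroup.mem_normalizer_iff.1 (hAN hc) _).2 h')
      rwa [inv_inv] at this⟩
  show m * c * m⁻¹ * c⁻¹ ∈ N
  rw [show m * c * m⁻¹ * c⁻¹ = m * (c * m⁻¹ * c⁻¹) by group]
  exact this

/-- An invariant 2-group acts on an invariant quaternion subgroup by inner automorphisms. -/
theorem q8_conj {A X M : Subgroup G} {z a b : G} (h : Q8Data M z a b) (hA : Odd (Nat.card A))
    (hAX : A ≤ Subgroup.normalizer (X : Set G)) (hAM : A ≤ Subgroup.normalizer (M : Set G))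
    (hXM : X ≤ Subgroup.normalizer (M : Set G)) (hX : IsPGroup 2 X) (hMX : M ≤ X)
    (hs : Small M) (hmove : ¬ A ≤ Subgroup.centralizer (M : Set G)) :
    ∀ g ∈ X, ∀ m ∈ M, g * m * g⁻¹ = m ∨ g * m * g⁻¹ = m * z := by
  haveI : Fact (Nat.Prime 2) := ⟨Nat.prime_two⟩
  haveI : Group.IsNilpotent X := hX.isNilpotent
  have hne : M ≠ ⊥ := fun e => h.hz1 (Subgroup.mem_bot.1 (e ▸ h.hz))
  have hlt := Coprime.commutator_lt_of_isNilpotent hMX le_rfl hXM hne
  have hinvz : ∀ N : Subgroup G, N ≤ M → (∀ m ∈ N, m * m = 1) → Nat.card N ≤ 2 := fun N hN h2 => by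
    classical
    haveI := Fintype.ofFinite N
    refine (Nat.card_le_card_of_injective (fun x : N => (decide (x.1 = 1))) fun x y e => ?_).trans (by simp)
    have e' : (x.1 = 1) ↔ (y.1 = 1) := by simpa using e
    refine Subtype.ext ?_
    rcases h.inv x (hN x.2) (h2 x x.2) with hx | hx <;> rcases h.inv y (hN y.2) (h2 y y.2) with hy | hy
    · rw [hx, hy]
    · exact absurd ((e'.1 hx).symm.trans hy) (Ne.symm h.hz1)
    · exact absurd ((e'.2 hy).symm.trans hx) (Ne.symm h.hz1)
    · rw [hx, hy]
  have hAN : A ≤ Subgroup.normalizer ((⁅M, X⁆ : Subgroup G) : Set G) := Coprime.le_normalizer_commutator hAM hAX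
  have hcen : A ≤ Subgroup.centralizer ((⁅M, X⁆ : Subgroup G) : Set G) := by
    by_contra hcon
    rcases moved_cases hA hAN (hX.to_le (hlt.le.trans hMX))
      (fun u hu v hv w hw => hs u (hlt.le hu) v (hlt.le hv) w (hlt.le hw)) hcon with ⟨h4, h2⟩ | ⟨z', a', b', h'⟩
    · have := hinvz _ hlt.le h2; omega
    · exact hlt.ne (Subgroup.eq_of_le_of_card_ge hlt.le (by rw [h.card, h'.card]))
  have hF : ∀ x ∈ M, (∀ c ∈ A, c * x = x * c) → x = 1 ∨ x = z := by
    intro x hx hc
    refine h.inv x hx ?_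
    rcases h.sq x hx with e | e
    · exact e
    exfalso
    set Z := Subgroup.zpowers x with hZ
    have hZM : Z ≤ M := (Subgroup.zpowers_le).2 hx
    have hord : orderOf x = 4 :=
      orderOf_eq_prime_pow (p := 2) (n := 1) (by rw [pow_one, pow_two, e]; exact h.hz1)
        (show x ^ 4 = 1 by rw [show x ^ 4 = (x * x) * (x * x) by simp [pow_succ, mul_assoc], e, h.hzz])
    have hAc : A ≤ Subgroup.centralizer (Z : Set G) := fun c hc' y hy => by
      obtain ⟨i, rfl⟩ := Subgroup.mem_zpowers_iff.1 hy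
      exact ((show Commute c x from hc c hc').zpow_right i).eq.symm
    exact hmove (centralizes_of_index_two hA (hX.to_le hMX) hAM hZM (hAc.trans (Subgroup.centralizer_le_normalizer _))
      (by rw [h.card, hZ, Nat.card_zpowers, hord]) hAc)
  intro g hg m hm
  have h1 : ⁅m⁻¹, g⁆ ∈ ⁅M, X⁆ := Subgroup.commutator_mem_commutator (inv_mem hm) hg
  have h3 : g * m * g⁻¹ = m * ⁅m⁻¹, g⁆ := by rw [commutatorElement_def]; group
  rcases hF _ (hlt.le h1) (fun c hc => (hcen hc _ h1).symm) with e | e
  · left; rw [h3, e, mul_one]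
  · right; rw [h3, e]

theorem map_subtype_normalizer {A X : Subgroup G} (hAX : A ≤ Subgroup.normalizer (X : Set G)) (N : Subgroup X)
    [N.Characteristic] : A ≤ Subgroup.normalizer ((N.map X.subtype : Subgroup G) : Set G) := by
  intro c hc
  have key : ∀ c ∈ A, ∀ y ∈ N.map X.subtype, c * y * c⁻¹ ∈ N.map X.subtype := by
    rintro c hc _ ⟨y, hy, rfl⟩
    exact ⟨X.normalizerMonoidHom ⟨c, hAX hc⟩ y,
      Subgroup.characteristic_iff_map_le.1 inferInstance (X.normalizerMonoidHom ⟨c, hAX hc⟩) ⟨y, hy, rfl⟩, rfl⟩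
  refine Subgroup.mem_normalizer_iff.2 fun y => ⟨key c hc y, fun h => ?_⟩
  have := key c⁻¹ (inv_mem hc) _ h
  simpa [mul_assoc] using this

/-- The structure of a 2-group all of whose proper invariant subgroups under an odd group are small. -/
theorem structure_cases {A X : Subgroup G} (hX : IsPGroup 2 X) (hA : Odd (Nat.card A))
    (hAX : A ≤ Subgroup.normalizer (X : Set G)) (hmove : ¬ A ≤ Subgroup.centralizer (X : Set G))
    (hna : ¬ IsMulCommutative X) (hbig : ¬ Small X)
    (hsmall : ∀ M : Subgroup G, M ≤ X → M ≠ X → A ≤ Subgroup.normalizer (M : Set G) → Small M) :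
    (Cfsg.IsExtraspecial 2 ↥X ∧ 32 ≤ Nat.card X) ∨
    (∃ X₀ : Subgroup G, X₀ ≤ X ∧ X₀.relIndex X = 2 ∧ Nonempty (↥X₀ ≃* QuaternionGroup 2) ∧
      X₀ ⊔ (X ⊓ Subgroup.centralizer (X₀ : Set G)) = X) ∨
    (Cfsg.IsSpecial 2 ↥X ∧ Nat.card ↥(Subgroup.center ↥X) = 4) := by
  haveI : Fact (Nat.Prime 2) := ⟨Nat.prime_two⟩
  haveI := hX.isNilpotent
  set Φ := (frattini X).map X.subtype with hΦdef
  have hΦX : Φ ≤ X := Subgroup.map_subtype_le _
  have hmemΦ : ∀ x : X, (x : G) ∈ Φ ↔ x ∈ frattini X := fun x =>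
    Subgroup.mem_map_iff_mem X.subtype_injective
  have hfne : frattini X ≠ ⊤ := fun e => by
    have := frattini_nongenerating (K := (⊥ : Subgroup X)) (by rw [bot_sup_eq, e])
    apply hna
    refine ⟨⟨fun u v => ?_⟩⟩
    have hu : u ∈ (⊥ : Subgroup X) := this ▸ Subgroup.mem_top u
    rw [Subgroup.mem_bot.1 hu, one_mul, mul_one]
  have hΦne : Φ ≠ X := fun e => hfne ((Subgroup.eq_top_iff' _).2 fun x => (hmemΦ x).1 (e.symm ▸ x.2))
  have hΦn : A ≤ Subgroup.normalizer (Φ : Set G) := map_subtype_normalizer hAX (frattini X)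
  have hcomm : ∀ x ∈ X, ∀ y ∈ X, ⁅x, y⁆ ∈ Φ := fun x hx y hy =>
    ⟨⁅(⟨x, hx⟩ : X), ⟨y, hy⟩⁆, (PSolvable.commutator_le_frattini hX).1
      (Subgroup.commutator_mem_commutator (Subgroup.mem_top _) (Subgroup.mem_top _)), rfl⟩
  have hsqΦ : ∀ x ∈ X, x * x ∈ Φ := fun x hx =>
    ⟨⟨x, hx⟩ ^ 2, (PSolvable.commutator_le_frattini hX).2 _, by rw [pow_two]; rfl⟩
  have hnormX : ∀ M : Subgroup G, Φ ≤ M → M ≤ X → X ≤ Subgroup.normalizer (M : Set G) := by
    intro M hΦM hMX
    have key : ∀ x ∈ X, ∀ m ∈ M, x * m * x⁻¹ ∈ M := fun x hx m hm => by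
      rw [show x * m * x⁻¹ = ⁅x, m⁆ * m by rw [commutatorElement_def]; group]
      exact M.mul_mem (hΦM (hcomm x hx m (hMX hm))) hm
    refine fun x hx => Subgroup.mem_normalizer_iff.2 fun m => ⟨key x hx m, fun h => ?_⟩
    have := key x⁻¹ (inv_mem hx) _ h
    simpa [mul_assoc] using this
  have hcop : ∀ M : Subgroup G, M ≤ X → (Nat.card A).Coprime (Nat.card M) := fun M hM => by
    obtain ⟨e, he⟩ := IsPGroup.iff_card.1 (hX.to_le hM)
    rw [he]
    exact Nat.Coprime.pow_right _ (Nat.coprime_two_right.2 hA)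
  -- case one: a moved quaternion subgroup
  by_cases hQ : ∃ M : Subgroup G, Φ ≤ M ∧ M ≤ X ∧ M ≠ X ∧ A ≤ Subgroup.normalizer (M : Set G) ∧
      ¬ A ≤ Subgroup.centralizer (M : Set G) ∧ ∃ z a b, Q8Data M z a b
  · obtain ⟨M, hΦM, hMX, hMne, hAM, hMmove, z, a, b, h⟩ := hQ
    have hXM := hnormX M hΦM hMX
    have hin := q8_conj h hA hAX hAM hXM hX hMX (hsmall M hMX hMne hAM) hMmove
    set C := X ⊓ Subgroup.centralizer (M : Set G) with hC
    have hMC : M ⊔ C = X := by
      refine le_antisymm (sup_le hMX inf_le_left) fun g hg => ?_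
      obtain ⟨m, hm, hc⟩ := q8_inner h (hin g hg a h.ha) (hin g hg b h.hb)
      have hc' : m * g ∈ C := ⟨X.mul_mem (hMX hm) hg, fun x hx => (hc x hx).symm⟩
      have := mul_mem (Subgroup.mem_sup_left (T := C) (M.inv_mem hm)) (Subgroup.mem_sup_right (S := M) hc')
      rwa [inv_mul_cancel_left] at this
    have hCM : C ⊓ M ≤ Subgroup.zpowers z := fun x hx => by
      rcases h.center x hx.2 (fun y hy => (hx.1.2 y hy).symm) with e | e <;> rw [e]
      · exact one_mem _
      · exact Subgroup.mem_zpowers z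
    have hzcard : Nat.card (Subgroup.zpowers z) = 2 := by
      rw [Nat.card_zpowers]; exact orderOf_eq_prime (by rw [pow_two, h.hzz]) h.hz1
    have hzC : z ∈ C := ⟨hMX h.hz, fun x hx => (h.zc x hx).symm⟩
    have hCM2 : Nat.card ↥(M ⊓ C : Subgroup G) = 2 := by
      rw [show M ⊓ C = Subgroup.zpowers z from le_antisymm (inf_comm M C ▸ hCM)
        ((Subgroup.zpowers_le).2 ⟨h.hz, hzC⟩), hzcard]
    have hcardX : Nat.card X * 2 = 8 * Nat.card C := by
      have := Coprime.card_sup_mul_card_inf (K := M) (S := C) (inf_le_left.trans hXM)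
      rwa [hMC, hCM2, h.card] at this
    -- the Frattini subgroup is the centre of `M`
    have hΦlt : Φ ≠ M := fun e => by
      have h1 : (C.subgroupOf X) = ⊤ := frattini_nongenerating (by
        rw [eq_top_iff]
        intro x _
        have hx : (x : G) ∈ Φ ⊔ C := by rw [e, hMC]; exact x.2
        have hf : frattini X = Φ.subgroupOf X := by
          rw [hΦdef, Subgroup.subgroupOf, Subgroup.comap_map_eq_self_of_injective X.subtype_injective]
        rw [hf, ← Subgroup.subgroupOf_sup inf_le_left hΦX, sup_comm]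
        exact hx)
      exact h.hz1 ((h.center a h.ha fun y hy => ((((Subgroup.subgroupOf_eq_top.1 h1) (hMX h.ha)).2) y hy).symm).elim
        (fun e => absurd (by rw [← h.aa, e, one_mul]) (Ne.symm h.hz1) ) fun e => by rw [← h.aa, e, h.hzz])
    have hΦz : ∀ x ∈ Φ, x = 1 ∨ x = z := by
      intro x hx
      refine h.inv x (hΦM hx) ?_
      rcases h.sq x (hΦM hx) with e | e
      · exact e
      exfalso
      have hcard : Nat.card Φ = 4 := by
        have h4 : 4 ≤ Nat.card Φ := by
          have hle : Subgroup.zpowers x ≤ Φ := (Subgroup.zpowers_le).2 hx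
          have ho : orderOf x = 4 := orderOf_eq_prime_pow (p := 2) (n := 1)
            (by rw [pow_one, pow_two, e]; exact h.hz1)
            (show x ^ 4 = 1 by rw [show x ^ 4 = (x * x) * (x * x) by simp [pow_succ, mul_assoc], e, h.hzz])
          have := Subgroup.card_le_of_le hle
          rwa [Nat.card_zpowers, ho] at this
        have hdvd : Nat.card Φ ∣ 8 := h.card ▸ Subgroup.card_dvd_of_le hΦM
        have hlt : Nat.card Φ < 8 := lt_of_le_of_ne (Nat.le_of_dvd (by norm_num) hdvd) fun e' =>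
          hΦlt (Subgroup.eq_of_le_of_card_ge hΦM (by rw [e', h.card]))
        interval_cases (Nat.card Φ) <;> omega
      by_cases hΦmove : A ≤ Subgroup.centralizer (Φ : Set G)
      · exact hMmove (centralizes_of_index_two hA (hX.to_le hMX) hAM hΦM hΦn (by rw [h.card, hcard]) hΦmove)
      · rcases moved_cases hA hΦn (hX.to_le hΦX) (hsmall Φ hΦX hΦne hΦn) hΦmove with ⟨-, h2⟩ | ⟨z', a', b', h'⟩
        · exact h.hz1 (e.symm.trans (h2 x hx))
        · have := h'.card; omega
    -- the centralizer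
    have hAC : A ≤ Subgroup.normalizer (C : Set G) :=
      Coprime.le_normalizer_inf_of_le hAX (Coprime.le_normalizer_centralizer hAM)
    have hCne : C ≠ X := fun e => by
      have ha : ∀ y ∈ M, a * y = y * a := fun y hy => (((e.symm ▸ hMX h.ha : a ∈ C)).2 y hy).symm
      rcases h.center a h.ha ha with e' | e'
      · exact h.hz1 (by rw [← h.aa, e', one_mul])
      · exact h.hz1 (by rw [← h.aa, e', h.hzz])
    have hCs := hsmall C inf_le_left hCne hAC
    have hCsq : ∀ x ∈ C, x * x = 1 ∨ x * x = z := fun x hx => hΦz _ (hsqΦ x hx.1)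
    have hC2 : 2 ≤ Nat.card C := hzcard ▸ Subgroup.card_le_of_le ((Subgroup.zpowers_le).2 hzC)
    obtain ⟨k, hk⟩ := IsPGroup.iff_card.1 (hX.to_le (show C ≤ X from inf_le_left))
    have hk1 : 1 ≤ k := by
      by_contra h'
      rw [show k = 0 by omega] at hk
      omega
    rcases Nat.lt_or_ge k 3 with hk3 | hk3
    · interval_cases k
      · -- `X = M`
        refine absurd ?_ hMne
        refine Subgroup.eq_of_le_of_card_ge hMX ?_
        rw [h.card]; omega
      · refine Or.inr (Or.inl ⟨M, hMX, ?_, h.iso, hMC⟩)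
        have h1 := Subgroup.card_mul_index (M.subgroupOf X)
        rw [Nat.card_congr (Subgroup.subgroupOfEquivOfLe hMX).toEquiv, h.card] at h1
        show (M.subgroupOf X).index = 2
        omega
    · have hC8 : 8 ≤ Nat.card C := hk ▸ Nat.pow_le_pow_right two_pos hk3
      have hcenC : ∀ x ∈ C, (∀ y ∈ C, x * y = y * x) → x = 1 ∨ x = z := by
        intro x hx hxc
        by_contra hne
        push Not at hne
        obtain ⟨hx1, hxz⟩ := hne
        have hzx : z * x = x * z := hx.2 z h.hz
        have hzy : ∀ y ∈ C, z * y = y * z := fun y hy => hy.2 z h.hz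
        rcases hCsq x hx with e | e
        · -- `x` and `z` form a four group
          classical
          have hsub : ∀ w ∈ C, w ∈ ({1, x, z, x * z} : Finset G) := fun w hw => by
            have := hCs x hx z hzC w hw e h.hzz hx1 h.hz1 hxz hzx.symm (hxc w hw).symm (hzy w hw).symm
            simpa using this
          have := (Nat.card_le_card_of_injective
            (fun w : C => (⟨w.1, hsub w.1 w.2⟩ : ({1, x, z, x * z} : Finset G)))
            fun u v e => Subtype.ext (congrArg Subtype.val e :)).trans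
              (le_of_eq_of_le (by rw [Nat.card_eq_fintype_card, Fintype.card_coe])
                ((Finset.card_insert_le _ _).trans (Nat.succ_le_succ Finset.card_le_three)))
          omega
        · obtain ⟨y, hy, hyx⟩ : ∃ y ∈ C, y ∉ Subgroup.zpowers x := by
            by_contra hcon
            push Not at hcon
            have h1 := Subgroup.card_le_of_le (show C ≤ Subgroup.zpowers x from hcon)
            have ho : orderOf x ∣ 4 := orderOf_dvd_of_pow_eq_one
              (show x ^ 4 = 1 by rw [show x ^ 4 = (x * x) * (x * x) by simp [pow_succ, mul_assoc], e, h.hzz])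
            rw [Nat.card_zpowers] at h1
            have := Nat.le_of_dvd (by norm_num) ho
            omega
          obtain ⟨u, hu, huu, hu1, huz, hux⟩ : ∃ u ∈ C, u * u = 1 ∧ u ≠ 1 ∧ u ≠ z ∧ u ∉ Subgroup.zpowers x := by
            have hzZ : z ∈ Subgroup.zpowers x := e ▸ mul_mem (Subgroup.mem_zpowers x) (Subgroup.mem_zpowers x)
            have main : ∀ u ∈ C, u * u = 1 → u ∉ Subgroup.zpowers x →
                ∃ u ∈ C, u * u = 1 ∧ u ≠ 1 ∧ u ≠ z ∧ u ∉ Subgroup.zpowers x := fun u hu huu hux =>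
              ⟨u, hu, huu, fun e' => hux (e' ▸ one_mem _), fun e' => hux (e' ▸ hzZ), hux⟩
            rcases hCsq y hy with e' | e'
            · exact main y hy e' hyx
            · refine main (x * y) (C.mul_mem hx hy) ?_ fun hxy => hyx ?_
              · rw [show x * y * (x * y) = x * (y * x) * y by group, ← hxc y hy,
                  show x * (x * y) * y = (x * x) * (y * y) by group, e, e', h.hzz]
              · simpa using mul_mem (inv_mem (Subgroup.mem_zpowers x)) hxy
          rcases hCs u hu z hzC x hx huu h.hzz hu1 h.hz1 huz (hzy u hu).symm (hxc u hu) (hzx.symm) with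
            e' | e' | e' | e'
          · exact hx1 e'
          · exact hux (e' ▸ Subgroup.mem_zpowers x)
          · exact hxz e'
          · rw [e', show u * z * (u * z) = u * (z * u) * z by group, hzy u hu,
              show u * (u * z) * z = (u * u) * (z * z) by group, huu, h.hzz, one_mul] at e
            exact h.hz1 e.symm
      have hXC : ∀ x ∈ X, (∀ y ∈ X, x * y = y * x) → x = 1 ∨ x = z := fun x hx hc =>
        hcenC x ⟨hx, fun y hy => (hc y (hMX hy)).symm⟩ fun y hy => hc y hy.1
      have hzcen : ∀ y ∈ X, z * y = y * z := by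
        have hle : X ≤ Subgroup.centralizer ({z} : Set G) := hMC ▸ sup_le
          (fun y hy => Subgroup.mem_centralizer_singleton_iff.2 (h.zc y hy).symm)
          (fun y hy => Subgroup.mem_centralizer_singleton_iff.2 (hy.2 z h.hz).symm)
        exact fun y hy => (Subgroup.mem_centralizer_singleton_iff.1 (hle hy)).symm
      have hzX : z ∈ X := hMX h.hz
      set z' : X := ⟨z, hzX⟩ with hz'
      have hzo : Nat.card (Subgroup.zpowers z') = 2 := by
        rw [Nat.card_zpowers, ← Subgroup.orderOf_coe, ← Nat.card_zpowers, hzcard]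
      have hzcomm : z' ∈ commutator X := by
        have : z' = ⁅(⟨b, hMX h.hb⟩ : X)⁻¹, (⟨a, hMX h.ha⟩ : X)⁻¹⁆ := by
          refine Subtype.ext ?_
          show z = b⁻¹ * a⁻¹ * b⁻¹⁻¹ * a⁻¹⁻¹
          rw [inv_inv, inv_inv, show b⁻¹ * a⁻¹ * b * a = (a * b)⁻¹ * (b * a) by group, h.hab, inv_mul_cancel_left]
        rw [this]
        exact Subgroup.commutator_mem_commutator (Subgroup.mem_top _) (Subgroup.mem_top _)
      have hcF : commutator X ≤ frattini X := (PSolvable.commutator_le_frattini hX).1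
      have hfz : frattini X ≤ Subgroup.zpowers z' := fun x hx => by
        rcases hΦz _ ((hmemΦ x).2 hx) with e | e
        · rw [show x = 1 from Subtype.ext e]; exact one_mem _
        · rw [show x = z' from Subtype.ext e]; exact Subgroup.mem_zpowers _
      have hzle : Subgroup.zpowers z' ≤ commutator X := (Subgroup.zpowers_le).2 hzcomm
      have hcen : Subgroup.center X = Subgroup.zpowers z' := by
        refine le_antisymm (fun x hx => ?_) ((Subgroup.zpowers_le).2 (Subgroup.mem_center_iff.2 fun y =>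
          Subtype.ext (hzcen y y.2).symm))
        rcases hXC x x.2 (fun y hy => congrArg Subtype.val (Subgroup.mem_center_iff.1 hx ⟨y, hy⟩).symm) with e | e
        · rw [show x = 1 from Subtype.ext e]; exact one_mem _
        · rw [show x = z' from Subtype.ext e]; exact Subgroup.mem_zpowers _
      refine Or.inl ⟨⟨⟨hX, ?_, ?_⟩, by rw [hcen, hzo]⟩, by omega⟩
      · rw [hcen]; exact le_antisymm hfz (hzle.trans hcF)
      · rw [hcen]; exact le_antisymm (hcF.trans hfz) hzle
  -- case two
  push Not at hQ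
  have hclass : ∀ M : Subgroup G, Φ ≤ M → M ≤ X → M ≠ X → A ≤ Subgroup.normalizer (M : Set G) →
      A ≤ Subgroup.centralizer (M : Set G) ∨ (M = Φ ∧ Nat.card M = 4 ∧ ∀ m ∈ M, m * m = 1) := by
    intro M h1 h2 h3 h4
    by_cases h5 : A ≤ Subgroup.centralizer (M : Set G)
    · exact Or.inl h5
    rcases moved_cases hA h4 (hX.to_le h2) (hsmall M h2 h3 h4) h5 with ⟨h6, h7⟩ | ⟨z, a, b, h⟩
    · refine Or.inr ⟨?_, h6, h7⟩
      by_contra hne
      have hdvd : Nat.card Φ ∣ 4 := h6 ▸ Subgroup.card_dvd_of_le h1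
      have hlt : Nat.card Φ < 4 := lt_of_le_of_ne (Nat.le_of_dvd (by norm_num) hdvd) fun e =>
        hne (Subgroup.eq_of_le_of_card_ge h1 (by rw [e, h6])).symm
      rcases Nat.eq_or_lt_of_le (show 1 ≤ Nat.card Φ from Nat.card_pos) with e | e
      · refine hna ⟨⟨fun u v => Subtype.ext ?_⟩⟩
        have hb : Φ = ⊥ := Subgroup.eq_bot_of_card_eq Φ e.symm
        have := hcomm u u.2 v v.2
        rw [hb, Subgroup.mem_bot, commutatorElement_eq_one_iff_mul_comm] at this
        exact this
      · have hΦ2 : Nat.card Φ = 2 := by interval_cases (Nat.card Φ) <;> omega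
        exact h5 (centralizes_of_index_two hA (hX.to_le h2) h4 h1 hΦn (by rw [h6, hΦ2])
          (centralizes_of_card_two hΦn hΦ2))
    · exact absurd h (hQ M h1 h2 h3 h4 h5 z a b)
  set X₁ := ⁅X, A⁆ with hX₁
  have hX₁X : X₁ ≤ X := Coprime.commutator_le_left_of_le_normalizer hAX
  have hX₁n : A ≤ Subgroup.normalizer (X₁ : Set G) := Coprime.le_normalizer_commutator hAX Subgroup.le_normalizer
  have hsolv : Group.IsSolvable A ∨ Group.IsSolvable X := Or.inr inferInstance
  have hΦAcen : ∀ M : Subgroup G, Φ ≤ M → M ≤ X → X₁ ≤ M → A ≤ Subgroup.normalizer (M : Set G) → M = X := by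
    intro M h1 h2 h3 h4
    by_contra hne
    rcases hclass M h1 h2 hne h4 with h5 | ⟨rfl, h6, h7⟩
    · refine hmove (Subgroup.le_centralizer_iff.1 ((Subgroup.commutator_eq_bot_iff_le_centralizer).1 ?_))
      refine Coprime.commutator_eq_bot_of_commutator_commutator hAX (hcop X le_rfl) (le_bot_iff.1 ?_)
      exact (Subgroup.commutator_mono h3 le_rfl).trans
        (Subgroup.commutator_eq_bot_iff_le_centralizer.2 (Subgroup.le_centralizer_iff.1 h5)).le
    · refine hmove (Coprime.le_centralizer_of_frattini hAX ?_ fun c hc x hx => ?_)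
      · exact (hcop X le_rfl).coprime_dvd_right (Subgroup.card_subgroup_dvd_card _)
      · show ⁅c, x⁆ ∈ Φ
        rw [← commutatorElement_inv]
        exact inv_mem (h3 (Subgroup.commutator_mem_commutator hx hc))
  have hX₁eq : X₁ = X := by
    have h1 := hΦAcen (X₁ ⊔ Φ) le_sup_right (sup_le hX₁X hΦX) le_sup_left (Coprime.le_normalizer_sup_of_le hX₁n hΦn)
    have h2 : X₁.subgroupOf X = ⊤ := frattini_nongenerating (by
      have : frattini X = Φ.subgroupOf X := by
        rw [hΦdef, Subgroup.subgroupOf, Subgroup.comap_map_eq_self_of_injective X.subtype_injective]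
      rw [this, ← Subgroup.subgroupOf_sup hX₁X hΦX, h1, Subgroup.subgroupOf_self])
    exact le_antisymm hX₁X (Subgroup.subgroupOf_eq_top.1 h2)
  -- `Φ` is central
  have hkey : A ≤ Subgroup.centralizer (Φ : Set G) → ∀ w ∈ Φ, ∀ y ∈ X, w * y = y * w := by
    intro hc
    have e1 : ⁅⁅X, Φ⁆, A⁆ = ⊥ := le_bot_iff.1 ((Subgroup.commutator_mono
      (show ⁅X, Φ⁆ ≤ Φ from Subgroup.commutator_le.2 fun x hx w hw => hcomm x hx w (hΦX hw)) le_rfl).trans
      (Subgroup.commutator_eq_bot_iff_le_centralizer.2 (Subgroup.le_centralizer_iff.1 hc)).le)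
    have e2 : ⁅⁅Φ, A⁆, X⁆ = ⊥ := by
      rw [Subgroup.commutator_eq_bot_iff_le_centralizer.2 (Subgroup.le_centralizer_iff.1 hc), Subgroup.commutator_bot_left]
    have e3 : ⁅⁅A, X⁆, Φ⁆ = ⊥ := Subgroup.commutator_commutator_eq_bot_of_rotate e1 e2
    rw [Subgroup.commutator_comm A X, ← hX₁, hX₁eq, Subgroup.commutator_eq_bot_iff_le_centralizer] at e3
    exact fun w hw y hy => e3 hy w hw
  have hΦZ : ∀ w ∈ Φ, ∀ y ∈ X, w * y = y * w := by
    rcases hclass Φ le_rfl hΦX hΦne hΦn with hc | ⟨-, h6, h7⟩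
    · exact hkey hc
    · set Φ₀ := Φ ⊓ Subgroup.centralizer (X : Set G) with hΦ₀
      have hΦ₀n : A ≤ Subgroup.normalizer (Φ₀ : Set G) :=
        Coprime.le_normalizer_inf_of_le hΦn (Coprime.le_normalizer_centralizer hAX)
      have hne : ¬ Φ₀ = ⊥ := by
        intro e
        haveI : (frattini X).Normal := inferInstance
        obtain ⟨x, hx1, hx⟩ : ∃ x : X, x ≠ 1 ∧ x ∈ frattini X ⊓ Subgroup.center X := by
          have hne' : frattini X ≠ ⊥ := fun e' => by
            rw [hΦdef, e', Subgroup.map_bot, Subgroup.card_bot] at h6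
            omega
          haveI := Subgroup.nontrivial_iff_ne_bot (frattini X) |>.2 hne'
          obtain ⟨y, hy⟩ := Subgroup.ne_bot_iff_exists_ne_one.1 (CfsgLib.Critical.inf_center_ne_bot (frattini X) hne')
          exact ⟨y, fun e' => hy (Subtype.ext e'), y.2⟩
        have : (x : G) ∈ Φ₀ := ⟨(hmemΦ x).2 hx.1, fun y hy =>
          congrArg Subtype.val (Subgroup.mem_center_iff.1 hx.2 ⟨y, hy⟩)⟩
        rw [e, Subgroup.mem_bot] at this
        exact hx1 (Subtype.ext this)
      intro w hw y hy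
      by_contra hwy
      have hlt : Nat.card Φ₀ < 4 := by
        rw [← h6]
        refine lt_of_le_of_ne (Subgroup.card_le_of_le inf_le_left) fun e => hwy ?_
        exact (((Subgroup.eq_of_le_of_card_ge inf_le_left e.ge).ge hw).2 y hy).symm
      have hdvd : Nat.card Φ₀ ∣ 4 := h6 ▸ Subgroup.card_dvd_of_le inf_le_left
      have h1 : Nat.card Φ₀ ≠ 1 := fun e => hne (Subgroup.eq_bot_of_card_eq _ e)
      have h2 : Nat.card Φ₀ = 2 := by
        have : 0 < Nat.card Φ₀ := Nat.card_pos
        interval_cases (Nat.card Φ₀) <;> omega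
      have hc := centralizes_of_index_two hA (hX.to_le hΦX) hΦn inf_le_left hΦ₀n (by rw [h6, h2])
        (centralizes_of_card_two hΦ₀n h2)
      exact hwy (hkey hc w hw y hy)
  have hfc : frattini X ≤ Subgroup.center X := fun x hx => Subgroup.mem_center_iff.2 fun y =>
    Subtype.ext (hΦZ x ((hmemΦ x).2 hx) y y.2).symm
  let ψ : A → MulAut X := fun c => X.normalizerMonoidHom ⟨c, hAX c.2⟩
  have hψv : ∀ (c : A) (x : X), (ψ c x : G) = c * x * (c : G)⁻¹ := fun c x => rfl
  have hgen : ∀ {V : Type _} [CommGroup V] (f : ↥X →* V), (∀ c x, f (ψ c x) = f x) → ∀ x, f x = 1 := by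
    intro V _ f hf
    have hle : X₁ ≤ f.ker.map X.subtype := by
      refine Subgroup.commutator_le.2 fun x hx c hc => ⟨(⟨x, hx⟩ : X) * ψ ⟨c, hc⟩ (⟨x, hx⟩ : X)⁻¹, ?_, ?_⟩
      · rw [SetLike.mem_coe, MonoidHom.mem_ker, map_mul, hf, ← map_mul, mul_inv_cancel, map_one]
      · show x * (c * x⁻¹ * c⁻¹) = x * c * x⁻¹ * c⁻¹
        group
    intro x
    obtain ⟨y, hy, hyx⟩ := hle (hX₁eq.ge x.2)
    rw [← Subtype.ext hyx]
    exact MonoidHom.mem_ker.1 hy
  -- the centre is the Frattini subgroup
  have hcenle : Subgroup.center X ≤ frattini X := by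
    set Z := (Subgroup.center X).map X.subtype with hZ
    have hΦle : Φ ≤ Z := Subgroup.map_mono hfc
    have hZne : Z ≠ X := fun e => hna ⟨⟨fun u v => by
      obtain ⟨w, hw, hwu⟩ := e.ge u.2
      rw [← Subtype.ext hwu]
      exact (Subgroup.mem_center_iff.1 hw v).symm⟩⟩
    rcases hclass Z hΦle (Subgroup.map_subtype_le _) hZne (map_subtype_normalizer hAX _) with hc | ⟨e, -, -⟩
    · intro x hx
      haveI : IsMulCommutative (X ⧸ frattini X) := ⟨⟨fun u v => by
        obtain ⟨u, rfl⟩ := QuotientGroup.mk'_surjective _ u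
        obtain ⟨v, rfl⟩ := QuotientGroup.mk'_surjective _ v
        rw [← commutatorElement_eq_one_iff_mul_comm, ← map_commutatorElement, ← MonoidHom.mem_ker,
          QuotientGroup.ker_mk']
        exact (PSolvable.commutator_le_frattini hX).1 (Subgroup.commutator_mem_commutator
          (Subgroup.mem_top u) (Subgroup.mem_top v))⟩⟩
      letI : CommGroup (X ⧸ frattini X) :=
        { (inferInstance : Group (X ⧸ frattini X)) with mul_comm := fun u v => mul_comm' u v }
      haveI := Fintype.ofFinite A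
      let π := QuotientGroup.mk' (frattini X)
      let f : X →* X ⧸ frattini X := MonoidHom.mk' (fun x => ∏ c : A, π (ψ c x))
        fun u v => by simp only [map_mul, Finset.prod_mul_distrib]
      have hf : ∀ c x, f (ψ c x) = f x := fun c x => by
        refine Fintype.prod_equiv (Equiv.mulRight c) _ _ fun d => congrArg π (Subtype.ext ?_)
        show (d : G) * ((c : G) * x * (c : G)⁻¹) * (d : G)⁻¹ = ((d * c : A) : G) * x * ((d * c : A) : G)⁻¹
        rw [Subgroup.coe_mul]; group
      have h1 : π x ^ Nat.card A = 1 := by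
        rw [← hgen f hf x]
        show _ = ∏ c : A, π (ψ c x)
        have : ∀ c : A, ψ c x = x := fun c => Subtype.ext (mul_inv_eq_iff_eq_mul.2 (hc c.2 x ⟨x, hx, rfl⟩).symm)
        simp only [this, Finset.prod_const, Finset.card_univ, Nat.card_eq_fintype_card]
      have h2 : π x ^ 2 = 1 := by
        rw [← map_pow, ← MonoidHom.mem_ker, QuotientGroup.ker_mk']
        exact (PSolvable.commutator_le_frattini hX).2 x
      have := pow_gcd_eq_one.2 ⟨h1, h2⟩
      rw [(Nat.coprime_two_right.2 hA : (Nat.card A).gcd 2 = 1), pow_one] at this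
      exact (QuotientGroup.eq_one_iff x).1 this
    · intro x hx
      exact (hmemΦ x).1 (e.le ⟨x, hx, rfl⟩)
  have hcenΦ : Subgroup.center X = frattini X := le_antisymm hcenle hfc
  have hcc : ∀ u v : X, ⁅u, v⁆ ∈ Subgroup.center X := fun u v => hfc ((PSolvable.commutator_le_frattini hX).1
    (Subgroup.commutator_mem_commutator (Subgroup.mem_top u) (Subgroup.mem_top v)))
  -- the derived subgroup is the Frattini subgroup
  have hsq : A ≤ Subgroup.centralizer (Φ : Set G) → frattini X ≤ commutator X := by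
    intro hc
    refine Critical.frattini_le_of_elementary (p := 2) _ le_rfl fun x => ?_
    let f : X →* Abelianization X := MonoidHom.mk' (fun x => Abelianization.of x ^ 2)
      fun u v => by simp only [map_mul, mul_pow]
    have hf : ∀ c x, f (ψ c x) = f x := fun c x => by
      show Abelianization.of (ψ c x) ^ 2 = Abelianization.of x ^ 2
      rw [← map_pow, ← map_pow, ← map_pow]
      refine congrArg _ (Subtype.ext (mul_inv_eq_iff_eq_mul.2 (hc c.2 _ ?_).symm))
      exact (hmemΦ _).2 ((PSolvable.commutator_le_frattini hX).2 x)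
    have := hgen f hf x
    rw [MonoidHom.mk'_apply, ← map_pow, ← MonoidHom.mem_ker, Abelianization.ker_of] at this
    exact this
  have hcF : commutator X = frattini X := by
    rcases hclass Φ le_rfl hΦX hΦne hΦn with hc | ⟨-, h6, h7⟩
    · exact le_antisymm (PSolvable.commutator_le_frattini hX).1 (hsq hc)
    · refine le_antisymm (PSolvable.commutator_le_frattini hX).1 fun x hx => ?_
      set D := (commutator X).map X.subtype with hD
      have hDΦ : D ≤ Φ := Subgroup.map_mono (PSolvable.commutator_le_frattini hX).1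
      have hDn : A ≤ Subgroup.normalizer (D : Set G) := map_subtype_normalizer hAX _
      by_cases hD4 : Nat.card D = 4
      · obtain ⟨y, hy, hyx⟩ := (Subgroup.eq_of_le_of_card_ge hDΦ (by rw [hD4, h6])).ge ((hmemΦ x).2 hx)
        rwa [← Subtype.ext hyx]
      exfalso
      have hD1 : Nat.card D ≠ 1 := fun e => hna ⟨⟨fun u v => by
        have : commutator X = ⊥ := (Subgroup.map_eq_bot_iff_of_injective _ X.subtype_injective).1
          (Subgroup.eq_bot_of_card_eq D e)
        have h' : ⁅u, v⁆ ∈ commutator X :=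
          Subgroup.commutator_mem_commutator (Subgroup.mem_top u) (Subgroup.mem_top v)
        rwa [this, Subgroup.mem_bot, commutatorElement_eq_one_iff_mul_comm] at h'⟩⟩
      have hDd : Nat.card D ∣ 4 := h6 ▸ Subgroup.card_dvd_of_le hDΦ
      have hD2 : Nat.card D = 2 := by
        have h0 : 0 < Nat.card D := Nat.card_pos
        have h4 : Nat.card D ≤ 4 := Nat.le_of_dvd (by norm_num) hDd
        interval_cases (Nat.card D) <;> omega
      have hc := centralizes_of_index_two hA (hX.to_le hΦX) hΦn hDΦ hDn (by rw [h6, hD2])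
        (centralizes_of_card_two hDn hD2)
      have := Subgroup.card_le_of_le (Subgroup.map_mono (f := X.subtype) (hsq hc))
      rw [← hΦdef, ← hD, h6, hD2] at this
      omega
  have hspec : Cfsg.IsSpecial 2 X := ⟨hX, hcenΦ.symm, hcF.trans hcenΦ.symm⟩
  -- the centre has exponent two
  have hexp : ∀ w ∈ Φ, w * w = 1 := by
    let K : Subgroup X :=
      { carrier := {x | x ∈ Subgroup.center X ∧ x * x = 1}
        one_mem' := ⟨one_mem _, one_mul 1⟩
        mul_mem' := fun {u v} hu hv => ⟨mul_mem hu.1 hv.1, by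
          rw [show u * v * (u * v) = u * (v * u) * v by group, (Subgroup.mem_center_iff.1 hu.1 v : v * u = u * v),
            show u * (u * v) * v = (u * u) * (v * v) by group, hu.2, hv.2, one_mul]⟩
        inv_mem' := fun {u} hu => ⟨inv_mem hu.1, by rw [← mul_inv_rev, hu.2, inv_one]⟩ }
    have hle : commutator X ≤ K := Subgroup.commutator_le.2 fun u _ v _ => ⟨hcc u v, by
      have h1 : ⁅u * u, v⁆ = 1 := commutatorElement_eq_one_iff_mul_comm.2
        (Subgroup.mem_center_iff.1 (hfc (by rw [← pow_two]; exact (PSolvable.commutator_le_frattini hX).2 u)) v).symm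
      have h2 : ⁅u * u, v⁆ = u * ⁅u, v⁆ * u⁻¹ * ⁅u, v⁆ := by simp only [commutatorElement_def]; group
      rwa [Subgroup.mem_center_iff.1 (hcc u v) u, mul_inv_cancel_right, h1, eq_comm] at h2⟩
    rintro w ⟨y, hy, rfl⟩
    exact congrArg Subtype.val (hle (hcF.ge hy)).2
  have hΦle4 : Nat.card Φ ≤ 4 := by
    classical
    by_contra hlt
    obtain ⟨u, hu1⟩ : ∃ u : Φ, u ≠ 1 := by
      by_contra hcon
      push Not at hcon
      haveI : Subsingleton Φ := ⟨fun u v => (hcon u).trans (hcon v).symm⟩
      have := Nat.card_of_subsingleton (1 : Φ)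
      omega
    obtain ⟨v, hv1, hvu⟩ : ∃ v : Φ, v ≠ 1 ∧ v ≠ u := by
      by_contra hcon
      push Not at hcon
      haveI := Fintype.ofFinite Φ
      have : Fintype.card Φ ≤ ({1, u} : Finset Φ).card := Finset.card_le_card fun w _ => by
        by_cases hw : w = 1
        · simp [hw]
        · simp [hcon w hw]
      rw [← Nat.card_eq_fintype_card] at this
      have := this.trans Finset.card_le_two
      omega
    have hcm : ∀ p q : Φ, (p : G) * q = q * p := fun p q => hΦZ p p.2 q (hΦX q.2)
    have hsub : ∀ w ∈ Φ, w ∈ ({1, (u : G), (v : G), (u : G) * v} : Finset G) := fun w hw => by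
      have := hsmall Φ hΦX hΦne hΦn u u.2 v v.2 w hw (hexp u u.2) (hexp v v.2) (fun e => hu1 (Subtype.ext e))
        (fun e => hv1 (Subtype.ext e)) (fun e => hvu (Subtype.ext e.symm)) (hcm u v) (hcm ⟨w, hw⟩ u) (hcm ⟨w, hw⟩ v)
      simpa using this
    have := (Nat.card_le_card_of_injective
      (fun w : Φ => (⟨w.1, hsub w.1 w.2⟩ : ({1, (u : G), (v : G), (u : G) * v} : Finset G)))
      fun p q e => Subtype.ext (congrArg Subtype.val e :)).trans
        (le_of_eq_of_le (by rw [Nat.card_eq_fintype_card, Fintype.card_coe])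
          ((Finset.card_insert_le _ _).trans (Nat.succ_le_succ Finset.card_le_three)))
    omega
  have hcard : Nat.card (Subgroup.center X) = Nat.card Φ := by
    rw [hcenΦ, hΦdef, Subgroup.card_map_of_injective X.subtype_injective]
  rcases Nat.lt_or_ge (Nat.card Φ) 4 with hlt | hge
  · left
    obtain ⟨e, he⟩ := IsPGroup.iff_card.1 (hX.to_le hΦX)
    have hne1 : Nat.card Φ ≠ 1 := fun e' => hna ⟨⟨fun u v => Subtype.ext (by
      have := hcomm u u.2 v v.2
      rw [Subgroup.eq_bot_of_card_eq Φ e', Subgroup.mem_bot, commutatorElement_eq_one_iff_mul_comm] at this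
      exact this)⟩⟩
    have he1 : e = 1 := by
      rcases e with _ | _ | e
      · exact absurd (by rw [he, pow_zero]) hne1
      · rfl
      · have := Nat.pow_le_pow_right two_pos (show 2 ≤ e + 1 + 1 by omega)
        omega
    have hes : Cfsg.IsExtraspecial 2 ↥X := ⟨hspec, by rw [hcard, he, he1, pow_one]⟩
    refine ⟨hes, ?_⟩
    obtain ⟨m, hm, hXc⟩ := Extraspecial.card_eq _ ↥X hes rfl
    rcases Nat.eq_or_lt_of_le hm with rfl | hm2
    · exfalso
      refine hbig fun u hu v hv w hw huu hvv hu1 hv1 huv huvc hwu hwv => ?_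
      classical
      by_contra hw'
      push Not at hw'
      obtain ⟨hw1, hwu', hwv', hwuv⟩ := hw'
      set B := Subgroup.closure ({u, v, w} : Set G) with hB
      have hBX : B ≤ X := (Subgroup.closure_le X).2 (by rintro x (rfl | rfl | rfl) <;> assumption)
      have huB : u ∈ B := Subgroup.subset_closure (by simp)
      have hvB : v ∈ B := Subgroup.subset_closure (by simp)
      have hwB : w ∈ B := Subgroup.subset_closure (by simp)
      obtain ⟨j, hj⟩ := IsPGroup.iff_card.1 (hX.to_le hBX)
      have hne : u * v ≠ 1 := fun e' => huv (mul_left_cancel (huu.trans e'.symm))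
      have hcard5 : ({1, u, v, u * v, w} : Finset G).card = 5 := by
        have d1 : (1 : G) ∉ ({u, v, u * v, w} : Finset G) := by simp [Ne.symm hu1, Ne.symm hv1, Ne.symm hne, Ne.symm hw1]
        have d2 : u ∉ ({v, u * v, w} : Finset G) := by simp [huv, hv1, Ne.symm hwu']
        have d3 : v ∉ ({u * v, w} : Finset G) := by simp [hu1, Ne.symm hwv']
        have d4 : u * v ∉ ({w} : Finset G) := by simp [Ne.symm hwuv]
        rw [Finset.card_insert_of_notMem d1, Finset.card_insert_of_notMem d2, Finset.card_insert_of_notMem d3,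
          Finset.card_insert_of_notMem d4, Finset.card_singleton]
      have h5 : 5 ≤ Nat.card B := by
        haveI := Fintype.ofFinite B
        rw [← hcard5, ← Fintype.card_coe, ← Nat.card_eq_fintype_card]
        refine Nat.card_le_card_of_injective (fun x => (⟨x.1, ?_⟩ : B)) fun p q e' => Subtype.ext (congrArg Subtype.val e' :)
        have := x.2
        simp only [Finset.mem_insert, Finset.mem_singleton] at this
        rcases this with e' | e' | e' | e' | e' <;> rw [e']
        exacts [one_mem _, huB, hvB, mul_mem huB hvB, hwB]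
      have hj3 : 3 ≤ j := by
        by_contra h'
        have := Nat.pow_le_pow_right two_pos (show j ≤ 2 by omega)
        omega
      have hBeq : B = X := Subgroup.eq_of_le_of_card_ge hBX (by
        rw [hXc, hj]; exact Nat.pow_le_pow_right two_pos (by omega))
      refine hna ?_
      rw [← hBeq, hB]
      exact Subgroup.isMulCommutative_closure (by
        rintro x (rfl | rfl | rfl) y (rfl | rfl | rfl) <;>
          first | rfl | assumption | exact huvc.symm | exact hwu.symm | exact hwv.symm)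
    · rw [hXc]
      exact le_trans (by norm_num) (Nat.pow_le_pow_right two_pos (show 5 ≤ 1 + 2 * m by omega))
  · exact Or.inr (Or.inr ⟨hspec, by rw [hcard]; omega⟩)

end CfsgLib.MinimalEight
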