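import Cfsg.Agent.Lib.SmallTwo.FusionTools
import Cfsg.Agent.Lib.SmallTwo.LocalMovers
import Cfsg.Agent.Lib.SmallTwo.WreathedAut
import Cfsg.Agent.Lib.Fusion.CyclicIndexTwo
import Cfsg.Agent.Lib.Transfer.Frobenius

/-!
Fusion in finite groups with quasi-dihedral Sylow 2-subgroups.
-/

set_option autoImplicit false

namespace CfsgLib.SmallTwo.QD

section Intrinsic

variable {S : Type*} [Group S] {n : ℕ} (d : QD S n) [Finite S]

theorem conj_q_small {i k : ℤ} {g : S} (hk : d.q ∣ k) (hg : g ∈ d.small (2 * d.q) i dvd_rfl) :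
    d.x ^ k * g * (d.x ^ k)⁻¹ ∈ d.small (2 * d.q) i dvd_rfl := by
  obtain ⟨r, rfl⟩ := hk
  obtain ⟨c, rfl | rfl⟩ := hg
  · rw [← zpow_neg, ← zpow_add, ← zpow_add, d.r_mem_small]
    exact ⟨c, by ring⟩
  · rw [d.conj_ry, d.ry_mem_small]
    exact ⟨c + r * (1 - d.q), by ring⟩

theorem conj_p_small {i p : ℤ} {g : S} (hp : d.q = 2 * p)
    (hg : g ∈ d.small d.q i (dvd_mul_left _ 2)) :
    d.x ^ p * g * (d.x ^ p)⁻¹ ∈ d.small d.q i (dvd_mul_left _ 2) := by
  obtain ⟨c, rfl | rfl⟩ := hg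
  · rw [← zpow_neg, ← zpow_add, ← zpow_add, d.r_mem_small]
    exact ⟨c, by ring⟩
  · rw [d.conj_ry, d.ry_mem_small]
    exact ⟨c + (1 - d.q), by linear_combination -(1 - d.q) * hp⟩

theorem small_conj_eq {m i j : ℤ} {hm : m ∣ 2 * d.q} (h : Even (j - i)) :
    ∃ s : S, (d.small m i hm).map (MulAut.conj s).toMonoidHom = d.small m j hm := by
  obtain ⟨s, hs⟩ := d.exists_map_small (hm := hm) h
  obtain ⟨t, ht⟩ := d.exists_map_small (hm := hm) (i := j) (j := i)
    (by rw [← neg_sub]; exact h.neg)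
  refine ⟨s, Subgroup.eq_of_le_of_card_ge hs ?_⟩
  have h1 := Subgroup.card_le_of_le ht
  rw [CfsgLib.Transfer.card_conj_map] at h1 ⊢
  exact h1

theorem index_par {ε : ℤ} (hε : ε = 0 ∨ ε = 1) : (d.par ε).index = 2 := by
  have hc : Nat.card (d.par ε) = 2 ^ n := by
    have := d.hn
    rcases hε with rfl | rfl
    · obtain ⟨e⟩ := d.par_zero_iso
      rw [Nat.card_congr e.toEquiv, DihedralGroup.nat_card, ← pow_succ', Nat.sub_add_cancel (by omega)]
    · obtain ⟨e⟩ := d.par_one_iso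
      have : NeZero (2 ^ (n - 2)) := ⟨by positivity⟩
      rw [Nat.card_congr e.toEquiv, Nat.card_eq_fintype_card, QuaternionGroup.card,
        show 4 = 2 ^ 2 by norm_num, ← pow_add]
      congr 1
      omega
  have h := Subgroup.card_mul_index (d.par ε)
  rw [hc, d.card, pow_succ] at h
  exact Nat.eq_of_mul_eq_mul_left (by positivity) h

theorem small_le_par {ε i m : ℤ} {hm : m ∣ 2 * d.q} (hm2 : Even m) (hi : Even (i - ε)) :
    d.small m i hm ≤ d.par ε := by
  rintro g ⟨c, rfl | rfl⟩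
  · exact d.r_mem_par.mpr (hm2.mul_right c)
  · rw [d.ry_mem_par, show i + m * c - ε = (i - ε) + m * c by ring]
    exact hi.add (hm2.mul_right c)

theorem even_q : Even d.q := by
  obtain ⟨p, -, hp⟩ := d.exists_half
  exact ⟨p, by rw [hp, two_mul]⟩

/-- Self-centralizing subgroups whose automorphism group is not a 2-group. -/
theorem centric_cases (X : Subgroup S) (hC : Subgroup.centralizer (X : Set S) ≤ X)
    (hA : ¬ IsPGroup 2 (MulAut X)) :
    ∃ i : ℤ, (Even i ∧ X = d.small (2 * d.q) i dvd_rfl) ∨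
      (Odd i ∧ X = d.small d.q i (dvd_mul_left _ 2)) := by
  have hXp : IsPGroup 2 X := d.isPGroup.to_subgroup X
  by_cases hy : X ≤ Subgroup.zpowers d.x
  · exact absurd (isPGroup_mulAut_cyclic hXp (Subgroup.isCyclic_of_le hy)) hA
  obtain ⟨w, hwX, hwx⟩ := Set.not_subset.mp hy
  obtain ⟨i, rfl⟩ := d.notMem_iff hwx
  refine ⟨i, ?_⟩
  let D : AddSubgroup ℤ :=
    { carrier := {t | d.x ^ t ∈ X}
      zero_mem' := by show d.x ^ (0 : ℤ) ∈ X; rw [zpow_zero]; exact one_mem _
      add_mem' := fun {a b} ha hb => by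
        show d.x ^ (a + b) ∈ X
        rw [zpow_add]; exact mul_mem ha hb
      neg_mem' := fun {a} ha => by
        show d.x ^ (-a) ∈ X
        rw [zpow_neg]; exact inv_mem ha }
  obtain ⟨d0, hd0⟩ := Int.subgroup_cyclic D
  have hmemD : ∀ t, d.x ^ t ∈ X ↔ d0 ∣ t := by
    intro t
    rw [← Int.mem_zmultiples_iff, AddSubgroup.zmultiples_eq_closure, ← hd0]
    rfl
  have hcen : d.x ^ (2 * d.q) ∈ X := hC (Subgroup.mem_centralizer_iff.mpr fun h _ =>
    Subgroup.mem_center_iff.mp (d.center_eq ▸ Subgroup.mem_zpowers _) h)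
  obtain ⟨j, hjn, hj⟩ : ∃ j : ℕ, j ≤ n - 1 ∧ d0.natAbs = 2 ^ j := by
    have h' := (hmemD _).mp hcen
    have e : 2 * d.q = ((2 ^ (n - 1) : ℕ) : ℤ) := by
      have := d.hn
      rw [q]; push_cast
      rw [← pow_succ']; congr 1; omega
    rw [e, Int.dvd_natCast] at h'
    exact (Nat.dvd_prime_pow Nat.prime_two).mp h'
  set m : ℤ := ((2 ^ j : ℕ) : ℤ) with hm_def
  have hmem : ∀ t, d.x ^ t ∈ X ↔ m ∣ t := fun t => by rw [hmemD, hm_def, ← hj, Int.natAbs_dvd]
  have hm : m ∣ 2 * d.q := (hmem _).mp hcen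
  have hXeq : X = d.small m i hm := by
    ext g
    obtain ⟨k, rfl | rfl⟩ := d.cases' g
    · rw [hmem, d.r_mem_small]
    · rw [d.ry_mem_small, ← hmem]
      constructor
      · intro h
        have := mul_mem h (inv_mem hwX)
        rwa [show d.x ^ k * d.y * (d.x ^ i * d.y)⁻¹ = d.x ^ (k - i) by
          rw [mul_inv_eq_iff_eq_mul, d.r_mul_ry, sub_add_cancel]] at this
      · intro h
        rw [← sub_add_cancel k i, ← d.r_mul_ry]
        exact mul_mem h hwX
  have hn3 := d.hn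
  rcases Nat.lt_or_ge j (n - 1) with hlt | hge
  · -- `m` divides `q`
    obtain ⟨r, hr, hrX⟩ : ∃ r : X, orderOf r = 2 ^ (n - j) ∧ (r : S) = d.x ^ m := by
      refine ⟨⟨d.x ^ m, (hmem m).mpr dvd_rfl⟩, ?_, rfl⟩
      rw [← Subgroup.orderOf_coe]
      show orderOf (d.x ^ m) = _
      rw [hm_def, zpow_natCast, orderOf_pow_of_dvd (by positivity) (by rw [d.hx]; exact pow_dvd_pow 2 (by omega)),
        d.hx, Nat.pow_div (by omega) two_pos]
    have hz : ∀ g : X, g ∈ Subgroup.zpowers r ↔ (g : S) ∈ Subgroup.zpowers d.x := by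
      intro g
      constructor
      · rintro ⟨t, rfl⟩
        refine ⟨m * t, ?_⟩
        show d.x ^ (m * t) = ((r ^ t : X) : S)
        rw [Subgroup.coe_zpow, hrX, ← zpow_mul]
      · rintro ⟨t, ht⟩
        have ht' : d.x ^ t = g := ht
        obtain ⟨c, rfl⟩ := (hmem t).mp (ht' ▸ g.2)
        exact ⟨c, Subtype.ext (by rw [← ht', Subgroup.coe_zpow, hrX, zpow_mul])⟩
    have hidx : (Subgroup.zpowers r).index = 2 := by
      rw [show Subgroup.zpowers r = (Subgroup.zpowers d.x).subgroupOf X by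
        ext g; rw [hz, Subgroup.mem_subgroupOf], ← Subgroup.relIndex]
      have hn2 : (Subgroup.zpowers d.x).Normal := Subgroup.normal_of_index_eq_two d.index_zpowers
      refine le_antisymm ?_ ?_
      · exact Nat.le_of_dvd two_pos (d.index_zpowers ▸
          Subgroup.relIndex_dvd_index_of_normal (Subgroup.zpowers d.x) X)
      · by_contra hlt
        have hpos : (Subgroup.zpowers d.x).relIndex X ≠ 0 := Subgroup.index_ne_zero_of_finite
        exact hy (Subgroup.relIndex_eq_one.mp (by omega))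
    by_cases hgood : j = n - 2 ∧ Odd i
    · refine Or.inr ⟨hgood.2, ?_⟩
      have e : m = d.q := by rw [hm_def, q, hgood.1]; push_cast; rfl
      rw [hXeq]; ext g; simp only [d.mem_small_iff, e]
    · exfalso
      refine hA (CfsgLib.Fusion.isPGroup_mulAut_of_cyclic_index_two r hr (by omega) hidx ?_)
      intro g hg
      rw [hz] at hg
      obtain ⟨k, hk⟩ := d.notMem_iff hg
      rw [← Subgroup.orderOf_coe, hk]
      rcases Int.even_or_odd k with he | ho
      · rw [d.orderOf_ry_two.mpr he]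
        calc 2 < 2 ^ 2 := by norm_num
          _ ≤ _ := Nat.pow_le_pow_right two_pos (by omega)
      · rw [d.orderOf_ry_four.mpr ho]
        have : n - j ≠ 2 := by
          intro h2
          refine hgood ⟨by omega, ?_⟩
          have hgX := g.2
          rw [hk] at hgX
          have h3 := (d.ry_mem_small (hm := hm)).mp (hXeq ▸ hgX)
          obtain ⟨c, hc⟩ := h3
          rw [show i = k - m * c by linarith]
          refine ho.sub_even (Even.mul_right ?_ c)
          rw [hm_def]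
          push_cast
          exact (by norm_num : Even (2 : ℤ)).pow_of_ne_zero (by omega)
        calc 4 < 2 ^ 3 := by norm_num
          _ ≤ _ := Nat.pow_le_pow_right two_pos (by omega)
  · -- `m = 2q`
    have e : m = 2 * d.q := by
      rw [hm_def, q, show j = n - 1 by omega]; push_cast
      rw [← pow_succ']; congr 1; omega
    have hX2 : X = d.small (2 * d.q) i dvd_rfl := by
      rw [hXeq]; ext g; simp only [d.mem_small_iff, e]
    by_cases hi : Even i
    · exact Or.inl ⟨hi, hX2⟩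
    · exfalso
      refine hA (isPGroup_mulAut_cyclic hXp ?_)
      have : NeZero 2 := ⟨two_ne_zero⟩
      have hle : Nat.card X ≤ 4 := hX2 ▸ d.card_small_le (r := 2) (by push_cast; ring)
      have hz : Subgroup.zpowers (d.x ^ i * d.y) = X :=
        Subgroup.eq_of_le_of_card_ge (Subgroup.zpowers_le.mpr hwX)
          (by rw [Nat.card_zpowers, d.orderOf_ry_four.mpr (Int.not_even_iff_odd.mp hi)]; exact hle)
      exact hz ▸ inferInstance

theorem involution_cases {t : S} (ht : orderOf t = 2) :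
    IsConj t (d.x ^ (2 * d.q)) ∨ IsConj t (d.x ^ (0 : ℤ) * d.y) := by
  obtain ⟨i, rfl | rfl⟩ := d.cases' t
  · exact Or.inl (by rw [d.zpow_eq_iff.mpr (d.orderOf_r_two.mp ht)])
  · obtain ⟨k, rfl⟩ := d.orderOf_ry_two.mp ht
    obtain ⟨l, hl⟩ := d.exists_conj_shift 0 k
    refine Or.inr (IsConj.symm (isConj_iff.mpr ⟨d.x ^ l, ?_⟩))
    rw [hl]; congr 2; ring

theorem order_four_cases {t : S} (ht : orderOf t = 4) :
    IsConj t (d.x ^ d.q) ∨ IsConj t (d.x ^ (1 : ℤ) * d.y) := by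
  obtain ⟨i, rfl | rfl⟩ := d.cases' t
  · rcases d.orderOf_r_four.mp ht with h | h
    · exact Or.inl (by rw [d.zpow_eq_iff.mpr h])
    · refine Or.inl (IsConj.symm (isConj_iff.mpr ⟨d.y, ?_⟩))
      rw [d.conj_zpow', d.zpow_eq_iff]
      obtain ⟨c, hc⟩ := h
      obtain ⟨p, -, hp⟩ := d.exists_half
      exact ⟨p - c, by linear_combination (2 * d.q) * hp - hc⟩
  · obtain ⟨k, rfl⟩ := d.orderOf_ry_four.mp ht
    obtain ⟨l, hl⟩ := d.exists_conj_shift 1 k
    refine Or.inr (IsConj.symm (isConj_iff.mpr ⟨d.x ^ l, ?_⟩))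
    rw [hl]; congr 2; ring

theorem inv_ry_isConj : IsConj ((d.x ^ (1 : ℤ) * d.y)⁻¹) (d.x ^ (1 : ℤ) * d.y) := by
  have h4 : orderOf ((d.x ^ (1 : ℤ) * d.y)⁻¹) = 4 := by rw [orderOf_inv, d.orderOf_ry_four.mpr odd_one]
  refine (d.order_four_cases h4).resolve_left fun h => ?_
  obtain ⟨g, hg⟩ := isConj_iff.mp h
  have hm : d.x ^ d.q ∈ d.par 0 := d.r_mem_par.mpr d.even_q
  have hn : (d.par 0).Normal := Subgroup.normal_of_index_eq_two (d.index_par (Or.inl rfl))
  rw [← hg] at hm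
  have := hn.conj_mem _ hm g⁻¹
  rw [show g⁻¹ * (g * (d.x ^ (1 : ℤ) * d.y)⁻¹ * g⁻¹) * g⁻¹⁻¹ = (d.x ^ (1 : ℤ) * d.y)⁻¹ by group,
    Subgroup.inv_mem_iff, d.ry_mem_par] at this
  simp at this

end Intrinsic

end CfsgLib.SmallTwo.QD
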