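import Cfsg.Agent.Lib.SmallTwo.QDFusion

/-!
Local conditions at four-groups and quaternion groups in groups with quasi-dihedral Sylow
2-subgroups, and the invariants of fusion they give.
-/

set_option autoImplicit false

namespace CfsgLib.SmallTwo.QD

open CfsgLib.Transfer

variable {G : Type*} [Group G] [Finite G] {S : Sylow 2 G} {n : ℕ} (d : QD (S : Subgroup G) n)

/-- The four-groups (`i` even) in `G`. -/
def four (i : ℤ) : Subgroup G :=
  (d.small (2 * d.q) i dvd_rfl).map (S : Subgroup G).subtype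

/-- The quaternion groups (`i` odd) in `G`. -/
def quat (i : ℤ) : Subgroup G :=
  (d.small d.q i (dvd_mul_left _ 2)).map (S : Subgroup G).subtype

theorem conj_mem_map {X : Subgroup (S : Subgroup G)} {s : (S : Subgroup G)}
    (h : ∀ g ∈ X, s * g * s⁻¹ ∈ X) :
    (s : G) ∈ Subgroup.normalizer (X.map (S : Subgroup G).subtype : Set G) := by
  refine Subgroup.mem_normalizer_fintype ?_
  rintro _ ⟨g, hg, rfl⟩
  exact ⟨_, h g hg, rfl⟩

theorem map_conj_map {X : Subgroup (S : Subgroup G)} (s : (S : Subgroup G)) :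
    (X.map (S : Subgroup G).subtype).map (MulAut.conj (s : G)).toMonoidHom =
      (X.map (MulAut.conj s).toMonoidHom).map (S : Subgroup G).subtype := by
  rw [Subgroup.map_map, Subgroup.map_map]
  congr 1

theorem actsLike_four {T : Subgroup G} (hT : IsKleinFour T) (hTS : T ≤ S)
    (h : (Subgroup.centralizer (T : Set G)).relIndex (Subgroup.normalizer (T : Set G)) = 2)
    {i : ℤ} (hi : Even i) : ActsLike (S : Subgroup G) (d.four i) := by
  have eT : T.subgroupOf (S : Subgroup G) ≃* T := Subgroup.subgroupOfEquivOfLe hTS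
  have hT' : IsKleinFour (T.subgroupOf (S : Subgroup G)) :=
    { card_four := (Nat.card_congr eT.toEquiv).trans hT.card_four
      exponent_two := (Monoid.exponent_eq_of_mulEquiv eT).trans hT.exponent_two }
  obtain ⟨i₀, hi₀, hTi⟩ := d.four_group_eq _ hT'
  have hTeq : T = d.four i₀ := by
    rw [four, ← hTi, Subgroup.subgroupOf_map_subtype, inf_eq_left.mpr hTS]
  have hbase : ActsLike (S : Subgroup G) (d.four i₀) := by
    rw [← hTeq]
    intro m hm
    have hs : ((d.x ^ d.q : (S : Subgroup G)) : G) ∈ Subgroup.normalizer (T : Set G) :=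
      hTeq ▸ conj_mem_map fun g hg => d.conj_q_small dvd_rfl hg
    have hsC : ((d.x ^ d.q : (S : Subgroup G)) : G) ∉ Subgroup.centralizer (T : Set G) := by
      intro hc
      have hmem : ((d.x ^ i₀ * d.y : (S : Subgroup G)) : G) ∈ T :=
        hTeq ▸ Subgroup.mem_map_of_mem _ (d.ry_mem_small.mpr ⟨0, by ring⟩)
      have hcm : Commute (d.x ^ d.q) (d.x ^ i₀ * d.y) :=
        Subtype.ext (Subgroup.mem_centralizer_iff.mp hc _ hmem).symm
      obtain ⟨c, hc'⟩ := (d.commute_r_ry).mp hcm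
      have := d.q_pos
      have e : (1 : ℤ) = 2 * c := mul_left_cancel₀ (ne_of_gt this) (by linarith)
      omega
    rcases index_two_cases h hs hsC hm with hc | hc
    · exact ⟨1, one_mem _, fun a ha => by
        rw [← Subgroup.mem_centralizer_iff.mp hc a ha]; group⟩
    · refine ⟨_, (d.x ^ d.q).2, fun a ha => ?_⟩
      have := Subgroup.mem_centralizer_iff.mp hc a ha
      calc m * a * m⁻¹ = ((d.x ^ d.q : (S : Subgroup G)) : G) *
            (((d.x ^ d.q : (S : Subgroup G)) : G)⁻¹ * m * a) * m⁻¹ := by group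
        _ = _ := by rw [← this]; group
  obtain ⟨s, hs⟩ := d.small_conj_eq (hm := dvd_rfl) (show Even (i - i₀) from hi.sub hi₀)
  rw [four, ← hs, ← map_conj_map]
  exact hbase.map s.2

theorem actsLike_quat {Q : Subgroup G} (hQS : Q ≤ S) (eQ : Q ≃* QuaternionGroup 2)
    (h : (Q ⊔ Subgroup.centralizer (Q : Set G)).relIndex (Subgroup.normalizer (Q : Set G)) = 2)
    {i : ℤ} (hi : Odd i) : ActsLike (S : Subgroup G) (d.quat i) := by
  have eQ' : Q.subgroupOf (S : Subgroup G) ≃* QuaternionGroup 2 :=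
    (Subgroup.subgroupOfEquivOfLe hQS).trans eQ
  obtain ⟨i₀, hi₀, hQi⟩ := d.quaternion_eq _ eQ'
  have hQeq : Q = d.quat i₀ := by
    rw [quat, ← hQi, Subgroup.subgroupOf_map_subtype, inf_eq_left.mpr hQS]
  obtain ⟨p, hp0, hp⟩ := d.exists_half
  have hbase : ActsLike (S : Subgroup G) (d.quat i₀) := by
    rw [← hQeq]
    intro m hm
    have hs : ((d.x ^ p : (S : Subgroup G)) : G) ∈ Subgroup.normalizer (Q : Set G) :=
      hQeq ▸ conj_mem_map fun g hg => d.conj_p_small hp hg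
    have hW : Q ⊔ Subgroup.centralizer (Q : Set G) ≤ Subgroup.normalizer (d.four i₀ : Set G) := by
      refine sup_le ?_ ?_
      · rw [hQeq]
        rintro _ ⟨g, hg, rfl⟩
        refine conj_mem_map fun v hv => ?_
        obtain ⟨c, rfl | rfl⟩ := hg
        · exact d.conj_q_small (dvd_mul_right _ _) hv
        · rw [show d.x ^ (i₀ + d.q * c) * d.y = d.x ^ (d.q * c) * (d.x ^ i₀ * d.y) by
            rw [d.r_mul_ry, add_comm],
            show d.x ^ (d.q * c) * (d.x ^ i₀ * d.y) * v * (d.x ^ (d.q * c) * (d.x ^ i₀ * d.y))⁻¹ =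
              d.x ^ (d.q * c) * (d.x ^ i₀ * d.y * v * (d.x ^ i₀ * d.y)⁻¹) * (d.x ^ (d.q * c))⁻¹ by group]
          refine d.conj_q_small (dvd_mul_right _ _) (mul_mem (mul_mem ?_ hv) (inv_mem ?_)) <;>
            exact d.ry_mem_small.mpr ⟨0, by ring⟩
      · intro c hc
        refine Subgroup.mem_normalizer_fintype fun v hv => ?_
        have hvQ : v ∈ Q := by
          obtain ⟨g, hg, rfl⟩ := hv
          rw [hQeq]
          refine Subgroup.mem_map_of_mem _ ?_
          obtain ⟨e, rfl | rfl⟩ := hg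
          · exact d.r_mem_small.mpr ⟨2 * e, by ring⟩
          · exact d.ry_mem_small.mpr ⟨2 * e, by ring⟩
        rw [← Subgroup.mem_centralizer_iff.mp hc v hvQ, mul_inv_cancel_right]
        exact hv
    have hsC : ((d.x ^ p : (S : Subgroup G)) : G) ∉ Q ⊔ Subgroup.centralizer (Q : Set G) := by
      intro hc
      have := (Subgroup.mem_normalizer_iff.mp (hW hc) _).mp
        (Subgroup.mem_map_of_mem (S : Subgroup G).subtype (d.ry_mem_small.mpr ⟨0, by ring⟩ :
          d.x ^ i₀ * d.y ∈ d.small (2 * d.q) i₀ dvd_rfl))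
      obtain ⟨g, hg, he⟩ := this
      obtain rfl : g = d.x ^ p * (d.x ^ i₀ * d.y) * (d.x ^ p)⁻¹ := Subtype.ext he
      rw [d.conj_ry, SetLike.mem_coe, d.ry_mem_small] at hg
      obtain ⟨c, hc'⟩ := hg
      have e : (1 : ℤ) - d.q = 2 * c * 1 := by
        refine mul_left_cancel₀ (a := 2 * p) (by omega) ?_
        linear_combination hc' + (2 * c) * hp
      obtain ⟨u, hu⟩ := d.even_q
      omega
    have key : ∀ g ∈ Q ⊔ Subgroup.centralizer (Q : Set G),
        ∃ a ∈ Q, ∀ v ∈ Q, g * v * g⁻¹ = a * v * a⁻¹ := by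
      intro g hg
      have hg' : g ∈ ((Subgroup.centralizer (Q : Set G) ⊔ Q : Subgroup G) : Set G) := by
        rw [sup_comm]; exact hg
      rw [Subgroup.coe_mul_of_left_le_normalizer_right _ _ (centralizer_le_normalizer' Q)] at hg'
      obtain ⟨c, hc, a, ha, rfl⟩ := hg'
      refine ⟨a, ha, fun v hv => ?_⟩
      have := Subgroup.mem_centralizer_iff.mp hc _ (mul_mem (mul_mem ha hv) (inv_mem ha))
      calc c * a * v * (c * a)⁻¹ = c * (a * v * a⁻¹) * c⁻¹ := by group
        _ = a * v * a⁻¹ := by rw [← this, mul_inv_cancel_right]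
    rcases index_two_cases h hs hsC hm with hc | hc
    · obtain ⟨a, ha, hact⟩ := key m hc
      exact ⟨a, hQS ha, hact⟩
    · obtain ⟨a, ha, hact⟩ := key _ hc
      refine ⟨((d.x ^ p : (S : Subgroup G)) : G) * a, mul_mem (d.x ^ p).2 (hQS ha), fun v hv => ?_⟩
      calc m * v * m⁻¹ = ((d.x ^ p : (S : Subgroup G)) : G) *
            (((d.x ^ p : (S : Subgroup G)) : G)⁻¹ * m * v * (((d.x ^ p : (S : Subgroup G)) : G)⁻¹ * m)⁻¹) *
            ((d.x ^ p : (S : Subgroup G)) : G)⁻¹ := by group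
        _ = _ := by rw [hact v hv]; group
  obtain ⟨s, hs⟩ := d.small_conj_eq (hm := dvd_mul_left _ 2) (show Even (i - i₀) from hi.sub_odd hi₀)
  rw [quat, ← hs, ← map_conj_map]
  exact hbase.map s.2

theorem oddConj_four {T : Subgroup G} (hT : IsKleinFour T) (hTS : T ≤ S)
    (h : (Subgroup.centralizer (T : Set G)).relIndex (Subgroup.normalizer (T : Set G)) = 6)
    {i : ℤ} (hi : Even i) :
    OddConj ((d.x ^ (2 * d.q) : (S : Subgroup G)) : G) ((d.x ^ i * d.y : (S : Subgroup G)) : G) := by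
  have eT : T.subgroupOf (S : Subgroup G) ≃* T := Subgroup.subgroupOfEquivOfLe hTS
  have hT' : IsKleinFour (T.subgroupOf (S : Subgroup G)) :=
    { card_four := (Nat.card_congr eT.toEquiv).trans hT.card_four
      exponent_two := (Monoid.exponent_eq_of_mulEquiv eT).trans hT.exponent_two }
  obtain ⟨i₀, hi₀, hTi⟩ := d.four_group_eq _ hT'
  have := (relIndex_four_dvd T hT.card_four).1
  obtain ⟨g, hg, hodd, hgC⟩ := exists_odd_notMem h
  have hz : ((d.x ^ (2 * d.q) : (S : Subgroup G)) : G) ∈ T := by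
    rw [← Subgroup.mem_subgroupOf, hTi]; exact d.r_mem_small.mpr dvd_rfl
  have hy : ((d.x ^ i₀ * d.y : (S : Subgroup G)) : G) ∈ T := by
    rw [← Subgroup.mem_subgroupOf, hTi]; exact d.ry_mem_small.mpr ⟨0, by ring⟩
  obtain ⟨t, ht⟩ := four_moves hT.card_four hg hodd hgC hz hy
    (fun e => d.zpow_half_ne_one (Subtype.ext e))
    (fun e => d.ry_ne_r i₀ 0 (by rw [zpow_zero]; exact Subtype.ext e))
  obtain ⟨k, hk⟩ := hi.sub hi₀
  obtain ⟨l, hl⟩ := d.exists_conj_shift i₀ k
  have := (OddConj.map (s := ((d.x ^ l : (S : Subgroup G)) : G))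
    (⟨g ^ t, hodd.of_dvd_nat (orderOf_pow_dvd t), ht⟩ : OddConj _ _))
  rw [← Subgroup.coe_inv, ← Subgroup.coe_mul, ← Subgroup.coe_mul, ← Subgroup.coe_mul,
    ← Subgroup.coe_mul, hl] at this
  rwa [← zpow_neg, ← zpow_add, ← zpow_add, show l + 2 * d.q + -l = 2 * d.q by ring,
    show i₀ + 2 * k = i by linarith] at this

theorem oddConj_quat {Q : Subgroup G} (hQS : Q ≤ S) (eQ : Q ≃* QuaternionGroup 2)
    (h : (Q ⊔ Subgroup.centralizer (Q : Set G)).relIndex (Subgroup.normalizer (Q : Set G)) = 6)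
    {i : ℤ} (hi : Odd i) :
    OddConj ((d.x ^ d.q : (S : Subgroup G)) : G) ((d.x ^ i * d.y : (S : Subgroup G)) : G) ∨
    OddConj ((d.x ^ d.q : (S : Subgroup G)) : G) ((d.x ^ i * d.y : (S : Subgroup G)) : G)⁻¹ := by
  have eQ' : Q.subgroupOf (S : Subgroup G) ≃* QuaternionGroup 2 :=
    (Subgroup.subgroupOfEquivOfLe hQS).trans eQ
  obtain ⟨i₀, hi₀, hQi⟩ := d.quaternion_eq _ eQ'
  have := (relIndex_quaternion_dvd Q eQ).1
  obtain ⟨g, hg, hodd, hgC⟩ := exists_odd_notMem h
  have hz : ((d.x ^ d.q : (S : Subgroup G)) : G) ∈ Q := by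
    rw [← Subgroup.mem_subgroupOf, hQi]; exact d.r_mem_small.mpr dvd_rfl
  have hy : ((d.x ^ i₀ * d.y : (S : Subgroup G)) : G) ∈ Q := by
    rw [← Subgroup.mem_subgroupOf, hQi]; exact d.ry_mem_small.mpr ⟨0, by ring⟩
  obtain ⟨t, ht⟩ := quaternion_moves eQ hg hodd hgC hz hy
    (fun e => by
      have e' : d.x ^ d.q * d.x ^ d.q = 1 := Subtype.ext e
      rw [← zpow_add, ← two_mul] at e'
      exact d.zpow_half_ne_one e')
    (fun e => by
      have e' : d.x ^ i₀ * d.y * (d.x ^ i₀ * d.y) = 1 := Subtype.ext e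
      rw [d.sq_ry_of_odd hi₀] at e'
      exact d.zpow_half_ne_one e')
  obtain ⟨k, hk⟩ := hi.sub_odd hi₀
  obtain ⟨l, hl⟩ := d.exists_conj_shift i₀ k
  have e1 : ((d.x ^ l : (S : Subgroup G)) : G) * ((d.x ^ d.q : (S : Subgroup G)) : G) *
      ((d.x ^ l : (S : Subgroup G)) : G)⁻¹ = ((d.x ^ d.q : (S : Subgroup G)) : G) := by
    rw [← Subgroup.coe_inv, ← Subgroup.coe_mul, ← Subgroup.coe_mul, ← zpow_neg, ← zpow_add,
      ← zpow_add, add_neg_cancel_comm]
  have e2 : ((d.x ^ l : (S : Subgroup G)) : G) * ((d.x ^ i₀ * d.y : (S : Subgroup G)) : G) *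
      ((d.x ^ l : (S : Subgroup G)) : G)⁻¹ = ((d.x ^ i * d.y : (S : Subgroup G)) : G) := by
    rw [← Subgroup.coe_inv, ← Subgroup.coe_mul (H := (S : Subgroup G)),
      ← Subgroup.coe_mul (H := (S : Subgroup G)), hl, show i₀ + 2 * k = i by linarith]
  rcases ht with ht | ht
  · have := OddConj.map (s := ((d.x ^ l : (S : Subgroup G)) : G))
      (⟨g ^ t, hodd.of_dvd_nat (orderOf_pow_dvd t), ht⟩ : OddConj _ _)
    rw [e1, e2] at this
    exact Or.inl this
  · have := OddConj.map (s := ((d.x ^ l : (S : Subgroup G)) : G))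
      (⟨g ^ t, hodd.of_dvd_nat (orderOf_pow_dvd t), ht⟩ : OddConj _ _)
    rw [e1, ← conj_inv, e2] at this
    exact Or.inr this

/-- A relation refining fusion: only `S` and the normalizers of the small groups must be checked. -/
theorem fusion (R : G → G → Prop) (hrefl : ∀ a, R a a) (htrans : ∀ a b c, R a b → R b c → R a c)
    (hS : ∀ a ∈ (S : Subgroup G), ∀ s ∈ (S : Subgroup G), R a (s * a * s⁻¹))
    (hF : ∀ i, Even i → ∀ m ∈ Subgroup.normalizer (d.four i : Set G), ∀ a ∈ d.four i, R a (m * a * m⁻¹))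
    (hQ : ∀ i, Odd i → ∀ m ∈ Subgroup.normalizer (d.quat i : Set G), ∀ a ∈ d.quat i, R a (m * a * m⁻¹))
    {a g : G} (ha : a ∈ (S : Subgroup G)) (hg : g * a * g⁻¹ ∈ (S : Subgroup G)) :
    R a (g * a * g⁻¹) := by
  have : Fact (Nat.Prime 2) := ⟨Nat.prime_two⟩
  refine fusion_invariant S R hrefl htrans hS (fun E hES hEc hEA => ?_) ha hg
  have hE : (E.subgroupOf (S : Subgroup G)).map (S : Subgroup G).subtype = E := by
    rw [Subgroup.subgroupOf_map_subtype, inf_eq_left.mpr hES]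
  obtain ⟨i, ⟨hi, he⟩ | ⟨hi, he⟩⟩ := d.centric_cases (E.subgroupOf (S : Subgroup G))
    (fun s hs => hEc s s.2 (Subgroup.mem_centralizer_iff.mpr fun v hv =>
      congrArg Subtype.val (Subgroup.mem_centralizer_iff.mp hs ⟨v, hES hv⟩ hv)))
    (fun h => hEA (isPGroup_mulAut_congr (Subgroup.subgroupOfEquivOfLe hES) h))
  · have e : E = d.four i := by rw [four, ← he, hE]
    rw [e]; exact hF i hi
  · have e : E = d.quat i := by rw [quat, ← he, hE]
    rw [e]; exact hQ i hi

theorem par_mem_conj {ε : ℤ} (hε : ε = 0 ∨ ε = 1) (a s : (S : Subgroup G)) :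
    s * a * s⁻¹ ∈ d.par ε ↔ a ∈ d.par ε := by
  have h := d.index_par hε
  rw [Subgroup.mul_mem_iff_of_index_two h, Subgroup.mul_mem_iff_of_index_two h,
    Subgroup.inv_mem_iff]
  tauto

/-- If the normalizers of the small groups of the other parity act like `S`, membership in
`par ε` is a fusion invariant. -/
theorem par_invariant {ε : ℤ} (hε : ε = 0 ∨ ε = 1)
    (hF : ε = 1 → ∀ i, Even i → ActsLike (S : Subgroup G) (d.four i))
    (hQ : ε = 0 → ∀ i, Odd i → ActsLike (S : Subgroup G) (d.quat i))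
    {a g : G} (ha : a ∈ (S : Subgroup G)) (hg : g * a * g⁻¹ ∈ (S : Subgroup G)) :
    g * a * g⁻¹ ∈ (d.par ε).map (S : Subgroup G).subtype ↔
      a ∈ (d.par ε).map (S : Subgroup G).subtype := by
  set M := (d.par ε).map (S : Subgroup G).subtype
  have hM : ∀ v : (S : Subgroup G), (v : G) ∈ M ↔ v ∈ d.par ε :=
    fun v => Subgroup.mem_map_iff_mem (S : Subgroup G).subtype_injective
  have hS : ∀ b ∈ (S : Subgroup G), ∀ s ∈ (S : Subgroup G), s * b * s⁻¹ ∈ M ↔ b ∈ M := by
    intro b hb s hs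
    exact ((hM (⟨s, hs⟩ * ⟨b, hb⟩ * ⟨s, hs⟩⁻¹)).trans (d.par_mem_conj hε ⟨b, hb⟩ ⟨s, hs⟩)).trans
      (hM ⟨b, hb⟩).symm
  have acts : ∀ E : Subgroup G, E ≤ S → ActsLike (S : Subgroup G) E →
      ∀ m ∈ Subgroup.normalizer (E : Set G), ∀ b ∈ E, m * b * m⁻¹ ∈ M ↔ b ∈ M := by
    intro E hE h m hm b hb
    obtain ⟨s, hs, he⟩ := h m hm
    rw [he b hb]
    exact hS b (hE hb) s hs
  have inside : ∀ E : Subgroup G, E ≤ M →
      ∀ m ∈ Subgroup.normalizer (E : Set G), ∀ b ∈ E, m * b * m⁻¹ ∈ M ↔ b ∈ M :=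
    fun E hE m hm b hb => iff_of_true (hE ((Subgroup.mem_normalizer_iff.mp hm b).mp hb)) (hE hb)
  refine d.fusion (fun u v => v ∈ M ↔ u ∈ M) (fun _ => Iff.rfl) (fun _ _ _ h1 h2 => h2.trans h1) hS
    (fun i hi => ?_) (fun i hi => ?_) ha hg
  · rcases hε with rfl | rfl
    · exact inside _ (Subgroup.map_mono (d.small_le_par (even_two_mul _) (by simpa using hi)))
    · exact acts _ (Subgroup.map_subtype_le _) (hF rfl i hi)
  · rcases hε with rfl | rfl
    · exact acts _ (Subgroup.map_subtype_le _) (hQ rfl i hi)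
    · exact inside _ (Subgroup.map_mono (d.small_le_par d.even_q (hi.sub_odd odd_one)))

/-- The subgroup of index two attached to an invariant parity. -/
theorem exists_kernel {ε : ℤ} (hε : ε = 0 ∨ ε = 1)
    (hF : ε = 1 → ∀ i, Even i → ActsLike (S : Subgroup G) (d.four i))
    (hQ : ε = 0 → ∀ i, Odd i → ActsLike (S : Subgroup G) (d.quat i)) :
    ∃ K : Subgroup G, K.Normal ∧ K.index = 2 ∧ (∀ s : (S : Subgroup G), (s : G) ∈ K ↔ s ∈ d.par ε) ∧
      ∀ g : G, Odd (orderOf g) → g ∈ K := by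
  obtain ⟨K, h1, h2, h3, h4⟩ := exists_index_two S ((d.par ε).map (S : Subgroup G).subtype)
    (Subgroup.map_subtype_le _) (by
      rw [Subgroup.relIndex, Subgroup.subgroupOf, Subgroup.comap_map_eq_self_of_injective
        (S : Subgroup G).subtype_injective, d.index_par hε])
    (fun a ha g hg => d.par_invariant hε hF hQ ha hg)
  exact ⟨K, h1, h2, fun s => (h3 s s.2).trans
    (Subgroup.mem_map_iff_mem (S : Subgroup G).subtype_injective), h4⟩

end CfsgLib.SmallTwo.QD
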