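import Cfsg.Agent.Lib.SmallTwo.QuasiDihedralBasic
import Cfsg.Agent.Lib.SmallTwo.DihedralRec
import Cfsg.Agent.Lib.Classical.QuaternionRec
import Cfsg.Agent.Lib.PSolvable.Omega

/-!
Subgroups of quasi-dihedral groups.
-/

set_option autoImplicit false

namespace CfsgLib.SmallTwo.QD

variable {S : Type*} [Group S] {n : ℕ} (d : QD S n)

/-- The subgroup of even rotations together with the outer elements of parity `ε`. -/
def par (ε : ℤ) : Subgroup S where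
  carrier := {g | ∃ k : ℤ, g = d.x ^ (2 * k) ∨ g = d.x ^ (2 * k + ε) * d.y}
  one_mem' := ⟨0, Or.inl (by simp)⟩
  mul_mem' := by
    rintro a b ⟨k, rfl | rfl⟩ ⟨l, rfl | rfl⟩
    · exact ⟨k + l, Or.inl (by rw [← zpow_add]; congr 1; ring)⟩
    · exact ⟨k + l, Or.inr (by rw [d.r_mul_ry]; congr 2; ring)⟩
    · exact ⟨k + l * (2 * d.q - 1), Or.inr (by rw [d.ry_mul_r]; congr 2; ring)⟩
    · exact ⟨k + l * (2 * d.q - 1) + ε * d.q, Or.inl (by rw [d.ry_mul_ry]; congr 1; ring)⟩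
  inv_mem' := by
    rintro a ⟨k, rfl | rfl⟩
    · exact ⟨-k, Or.inl (by rw [← zpow_neg]; congr 1; ring)⟩
    · exact ⟨k - d.q * (2 * k + ε), Or.inr (by
        rw [mul_inv_rev, d.y_inv, ← zpow_neg, d.y_mul]; congr 2; ring)⟩

theorem mem_par_iff {ε : ℤ} {g : S} :
    g ∈ d.par ε ↔ ∃ k : ℤ, g = d.x ^ (2 * k) ∨ g = d.x ^ (2 * k + ε) * d.y := Iff.rfl

theorem r_mem_par {ε i : ℤ} : d.x ^ i ∈ d.par ε ↔ Even i := by
  refine ⟨?_, fun ⟨k, hk⟩ => ⟨k, Or.inl (by rw [hk, two_mul])⟩⟩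
  rintro ⟨k, h | h⟩
  · rw [d.parity_of_eq h]; exact even_two_mul k
  · exact absurd h.symm (d.ry_ne_r _ _)

theorem ry_mem_par {ε i : ℤ} : d.x ^ i * d.y ∈ d.par ε ↔ Even (i - ε) := by
  constructor
  · rintro ⟨k, h | h⟩
    · exact absurd h (d.ry_ne_r _ _)
    · obtain ⟨c, hc⟩ := d.ry_eq_iff.mp h
      exact ⟨k + 2 * d.q * c, by linarith⟩
  · rintro ⟨k, hk⟩
    exact ⟨k, Or.inr (by rw [show i = 2 * k + ε by linarith])⟩

theorem par_ne_top (ε : ℤ) : d.par ε ≠ ⊤ := fun h => by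
  have := d.r_mem_par.mp (h ▸ Subgroup.mem_top (d.x ^ (1 : ℤ)))
  simp at this

theorem par_eq_closure (ε : ℤ) :
    d.par ε = Subgroup.closure {d.x ^ (2 : ℤ), d.x ^ ε * d.y} := by
  refine le_antisymm ?_ ?_
  · intro g hg
    obtain ⟨k, rfl | rfl⟩ := hg
    · rw [zpow_mul]
      exact zpow_mem (Subgroup.subset_closure (Set.mem_insert _ _)) k
    · rw [← d.r_mul_ry, zpow_mul]
      exact mul_mem (zpow_mem (Subgroup.subset_closure (Set.mem_insert _ _)) k)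
        (Subgroup.subset_closure (Set.mem_insert_of_mem _ rfl))
  · rw [Subgroup.closure_le]
    rintro g (rfl | rfl)
    · exact d.r_mem_par.mpr even_two
    · exact d.ry_mem_par.mpr (by simp)

variable [Finite S]
include d

theorem orderOf_x_sq : orderOf (d.x ^ (2 : ℤ)) = 2 ^ (n - 1) := by
  have := d.hn
  have h2 : 2 ∣ 2 ^ n := dvd_pow_self 2 (by omega)
  rw [show (2 : ℤ) = ((2 : ℕ) : ℤ) from rfl, zpow_natCast,
    orderOf_pow_of_dvd two_ne_zero (d.hx ▸ h2), d.hx]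
  calc 2 ^ n / 2 = 2 ^ (n - 1) * 2 / 2 := by rw [← pow_succ, Nat.sub_add_cancel (by omega)]
    _ = _ := Nat.mul_div_cancel _ two_pos

theorem ry_notMem_zpowers_sq (ε : ℤ) :
    d.x ^ ε * d.y ∉ Subgroup.zpowers (d.x ^ (2 : ℤ)) := by
  rintro ⟨k, hk⟩
  have hk' : (d.x ^ (2 : ℤ)) ^ k = d.x ^ ε * d.y := hk
  rw [← zpow_mul] at hk'
  exact d.ry_ne_r _ _ hk'.symm

theorem par_one_iso : Nonempty (↥(d.par 1) ≃* QuaternionGroup (2 ^ (n - 2))) := by
  have := d.hn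
  have : NeZero (2 ^ (n - 2)) := ⟨by positivity⟩
  obtain ⟨f, hf, hr⟩ := CfsgLib.Classical.exists_quaternion_hom (n := 2 ^ (n - 2))
    (a := d.x ^ (2 : ℤ)) (w := d.x ^ (1 : ℤ) * d.y)
    (by rw [d.orderOf_x_sq, ← pow_succ', show n - 2 + 1 = n - 1 by omega])
    (by
      rw [d.sq_ry_of_odd odd_one, ← zpow_natCast, ← zpow_mul]
      rfl)
    (by
      rw [mul_inv_rev, d.y_inv, show d.x ^ (1 : ℤ) * d.y * d.x ^ (2 : ℤ) * (d.y * (d.x ^ (1 : ℤ))⁻¹) =
        d.x ^ (1 : ℤ) * (d.y * d.x ^ (2 : ℤ) * d.y) * (d.x ^ (1 : ℤ))⁻¹ by group]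
      nth_rewrite 2 [← d.y_inv]
      rw [d.conj_zpow', ← zpow_neg, ← zpow_add, ← zpow_add, ← zpow_neg, d.zpow_eq_iff]
      exact ⟨1, by ring⟩)
    (d.ry_notMem_zpowers_sq 1)
  exact ⟨(MulEquiv.subgroupCongr (hr.trans (d.par_eq_closure 1).symm)).symm.trans
    (MonoidHom.ofInjective hf).symm⟩

theorem par_zero_iso : Nonempty (↥(d.par 0) ≃* DihedralGroup (2 ^ (n - 1))) := by
  have : NeZero (2 ^ (n - 1)) := ⟨by positivity⟩
  obtain ⟨f, hf, hr⟩ := exists_dihedral_hom_injective (a := d.x ^ (2 : ℤ))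
    (b := d.x ^ (0 : ℤ) * d.y) d.orderOf_x_sq (d.sq_ry_of_even Even.zero)
    (by
      rw [zpow_zero, one_mul, d.conj_zpow', ← zpow_neg, d.zpow_eq_iff]
      exact ⟨1, by ring⟩)
    (d.ry_notMem_zpowers_sq 0)
  exact ⟨(MulEquiv.subgroupCongr (hr.trans (d.par_eq_closure 0).symm)).symm.trans
    (MonoidHom.ofInjective hf).symm⟩

theorem zpowers_x_ne_top : Subgroup.zpowers d.x ≠ ⊤ := fun h => d.y_notMem (h ▸ Subgroup.mem_top _)

theorem eq_top_of_mem {H : Subgroup S} {i j : ℤ} (hi : Odd i) (hr : d.x ^ i ∈ H)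
    (h2 : d.x ^ (2 : ℤ) ∈ H) (hy : d.x ^ j * d.y ∈ H) : H = ⊤ := by
  obtain ⟨k, rfl⟩ := hi
  have hx : d.x ∈ H := by
    have := mul_mem hr (inv_mem (zpow_mem h2 k))
    rwa [← zpow_mul, ← zpow_neg, ← zpow_add, show 2 * k + 1 + -(2 * k) = 1 by ring, zpow_one] at this
  have hy' : d.y ∈ H := by
    have := mul_mem (inv_mem (zpow_mem hx j)) hy
    rwa [inv_mul_cancel_left] at this
  refine eq_top_iff.mpr fun g _ => ?_
  obtain ⟨l, rfl | rfl⟩ := d.cases' g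
  · exact zpow_mem hx l
  · exact mul_mem (zpow_mem hx l) hy'

theorem isCoatom_zpowers : IsCoatom (Subgroup.zpowers d.x) := by
  refine ⟨d.zpowers_x_ne_top, fun H hH => ?_⟩
  obtain ⟨g, hg, hgx⟩ := SetLike.exists_of_lt hH
  obtain ⟨j, rfl⟩ := d.notMem_iff hgx
  exact d.eq_top_of_mem odd_one (hH.le ⟨1, rfl⟩) (hH.le ⟨2, rfl⟩) hg

theorem isCoatom_par (ε : ℤ) : IsCoatom (d.par ε) := by
  refine ⟨d.par_ne_top ε, fun H hH => ?_⟩
  obtain ⟨g, hg, hgx⟩ := SetLike.exists_of_lt hH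
  have h2 : d.x ^ (2 : ℤ) ∈ H := hH.le (d.r_mem_par.mpr even_two)
  have hy : d.x ^ ε * d.y ∈ H := hH.le (d.ry_mem_par.mpr (by simp))
  obtain ⟨i, rfl | rfl⟩ := d.cases' g
  · exact d.eq_top_of_mem (Int.not_even_iff_odd.mp fun h => hgx (d.r_mem_par.mpr h)) hg h2 hy
  · have ho : Odd (i - ε) := Int.not_even_iff_odd.mp fun h => hgx (d.ry_mem_par.mpr h)
    obtain ⟨k, hk⟩ := ho
    refine d.eq_top_of_mem (i := i + ε * (2 * d.q - 1)) ⟨k + ε * d.q, by linarith⟩ ?_ h2 hy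
    rw [← d.ry_mul_ry]
    exact mul_mem hg hy

theorem x_sq_mem_commutator : d.x ^ (2 : ℤ) ∈ commutator S := by
  obtain ⟨p, -, hp⟩ := d.exists_half
  have h : d.x ^ (1 + d.q) * d.y * (d.x ^ (1 + d.q))⁻¹ * d.y⁻¹ ∈ commutator S :=
    Subgroup.commutator_mem_commutator (Subgroup.mem_top _) (Subgroup.mem_top _)
  rw [mul_assoc (d.x ^ (1 + d.q)), mul_assoc (d.x ^ (1 + d.q)), ← zpow_neg, d.conj_zpow',
    ← zpow_add] at h
  rwa [show d.x ^ (1 + d.q + -(1 + d.q) * (2 * d.q - 1)) = d.x ^ (2 : ℤ) from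
    d.zpow_eq_iff.mpr ⟨-p, by rw [hp]; ring⟩] at h

theorem commutator_eq : commutator S = Subgroup.zpowers (d.x ^ (2 : ℤ)) := by
  refine le_antisymm ?_ (Subgroup.zpowers_le.mpr d.x_sq_mem_commutator)
  rw [commutator_def, Subgroup.commutator_le]
  intro a _ b _
  have key : ∀ k : ℤ, d.x ^ (2 * k) ∈ Subgroup.zpowers (d.x ^ (2 : ℤ)) := fun k => ⟨k, by
    show (d.x ^ (2 : ℤ)) ^ k = _
    rw [← zpow_mul]⟩
  rw [commutatorElement_def]
  obtain ⟨i, rfl | rfl⟩ := d.cases' a <;> obtain ⟨j, rfl | rfl⟩ := d.cases' b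
  · rw [← zpow_add, ← zpow_neg, ← zpow_add, ← zpow_neg, ← zpow_add]
    convert key 0 using 1
    congr 1; ring
  · rw [← zpow_neg, mul_inv_rev, d.y_inv, ← zpow_neg]
    rw [show d.x ^ i * (d.x ^ j * d.y) * d.x ^ (-i) * (d.y * d.x ^ (-j)) =
      d.x ^ i * (d.x ^ j * (d.y * d.x ^ (-i) * d.y)) * d.x ^ (-j) by group]
    nth_rewrite 2 [← d.y_inv]
    rw [d.conj_zpow', ← zpow_add, ← zpow_add, ← zpow_add]
    convert key (i * (1 - d.q)) using 1
    congr 1; ring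
  · rw [mul_inv_rev, d.y_inv, ← zpow_neg, ← zpow_neg]
    rw [show d.x ^ i * d.y * d.x ^ j * (d.y * d.x ^ (-i)) * d.x ^ (-j) =
      d.x ^ i * (d.y * d.x ^ j * d.y) * d.x ^ (-i) * d.x ^ (-j) by group]
    nth_rewrite 2 [← d.y_inv]
    rw [d.conj_zpow', ← zpow_add, ← zpow_add, ← zpow_add]
    convert key (-(j * (1 - d.q))) using 1
    congr 1; ring
  · rw [mul_inv_rev, mul_inv_rev, d.y_inv, ← zpow_neg, ← zpow_neg]
    rw [show d.x ^ i * d.y * (d.x ^ j * d.y) * (d.y * d.x ^ (-i)) * (d.y * d.x ^ (-j)) =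
      d.x ^ i * d.y * (d.x ^ j * (d.y * d.y) * d.x ^ (-i)) * d.y * d.x ^ (-j) by group, d.yy,
      mul_one, ← zpow_add]
    rw [show d.x ^ i * d.y * d.x ^ (j + -i) * d.y * d.x ^ (-j) =
      d.x ^ i * (d.y * d.x ^ (j + -i) * d.y) * d.x ^ (-j) by group]
    nth_rewrite 2 [← d.y_inv]
    rw [d.conj_zpow', ← zpow_add, ← zpow_add]
    convert key ((i - j) * (1 - d.q)) using 1
    congr 1; ring

theorem zpowers_sq_eq_inf :
    Subgroup.zpowers (d.x ^ (2 : ℤ)) = Subgroup.zpowers d.x ⊓ d.par 0 := by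
  refine le_antisymm (Subgroup.zpowers_le.mpr ⟨⟨2, rfl⟩, d.r_mem_par.mpr even_two⟩) ?_
  rintro _ ⟨⟨i, rfl⟩, hi⟩
  obtain ⟨k, rfl⟩ := d.r_mem_par.mp hi
  exact ⟨k, by show (d.x ^ (2 : ℤ)) ^ k = d.x ^ (k + k); rw [← zpow_mul]; congr 1; ring⟩

theorem isPGroup : IsPGroup 2 S := IsPGroup.of_card d.card

theorem commutator_eq_frattini : commutator S = frattini S := by
  refine le_antisymm ?_ ?_
  · have : Fact (Nat.Prime 2) := ⟨Nat.prime_two⟩
    exact (CfsgLib.PSolvable.commutator_le_frattini d.isPGroup).1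
  · rw [d.commutator_eq, d.zpowers_sq_eq_inf]
    exact le_inf (frattini_le_coatom d.isCoatom_zpowers) (frattini_le_coatom (d.isCoatom_par 0))

theorem center_eq : Subgroup.center S = Subgroup.zpowers (d.x ^ (2 * d.q)) := by
  ext g
  constructor
  · intro hg
    obtain ⟨i, rfl | rfl⟩ := d.cases' g
    · obtain ⟨c, rfl⟩ := (d.commute_r_ry (i := 0)).mp ((Subgroup.mem_center_iff.mp hg _).symm)
      exact ⟨c, by show (d.x ^ (2 * d.q)) ^ c = _; rw [← zpow_mul]⟩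
    · exfalso
      have h := (d.commute_r_ry (i := i)).mp (Subgroup.mem_center_iff.mp hg (d.x ^ (1 : ℤ)))
      have := d.q_pos
      have := Int.le_of_dvd one_pos h
      omega
  · rintro ⟨c, rfl⟩
    rw [Subgroup.mem_center_iff]
    intro g
    show g * (d.x ^ (2 * d.q)) ^ c = (d.x ^ (2 * d.q)) ^ c * g
    rw [← zpow_mul]
    obtain ⟨i, rfl | rfl⟩ := d.cases' g
    · rw [← zpow_add, ← zpow_add, add_comm]
    · exact ((d.commute_r_ry).mpr (dvd_mul_right _ _)).eq.symm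

theorem card_center : Nat.card (Subgroup.center S) = 2 := by
  rw [d.center_eq, Nat.card_zpowers, d.orderOf_r_two]
  exact ⟨0, by ring⟩

theorem coatom_cases {M : Subgroup S} (hM : IsCoatom M) :
    M = Subgroup.zpowers d.x ∨ M = d.par 0 ∨ M = d.par 1 := by
  have h2 : d.x ^ (2 : ℤ) ∈ M := by
    have := d.x_sq_mem_commutator
    rw [d.commutator_eq_frattini] at this
    exact frattini_le_coatom hM this
  by_cases hy : M ≤ Subgroup.zpowers d.x
  · exact Or.inl (le_antisymm hy (by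
      by_contra hlt
      exact d.zpowers_x_ne_top (hM.2 _ (lt_of_le_not_ge hy hlt))))
  · obtain ⟨g, hg, hgx⟩ := Set.not_subset.mp hy
    obtain ⟨j, rfl⟩ := d.notMem_iff hgx
    obtain ⟨ε, hε, hεj⟩ : ∃ ε : ℤ, (ε = 0 ∨ ε = 1) ∧ Even (j - ε) := by
      rcases Int.even_or_odd j with h | ⟨k, hk⟩
      · exact ⟨0, Or.inl rfl, by simpa using h⟩
      · exact ⟨1, Or.inr rfl, ⟨k, by linarith⟩⟩
    have hle : d.par ε ≤ M := by
      rw [d.par_eq_closure, Subgroup.closure_le]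
      rintro g (rfl | rfl)
      · exact h2
      · obtain ⟨k, hk⟩ := hεj
        have := mul_mem (zpow_mem h2 (-k)) hg
        rwa [← zpow_mul, d.r_mul_ry, show 2 * -k + j = ε by linarith] at this
    have : d.par ε = M := by
      by_contra hne
      exact hM.1 ((d.isCoatom_par ε).2 _ (lt_of_le_of_ne hle hne))
    rcases hε with rfl | rfl
    · exact Or.inr (Or.inl this.symm)
    · exact Or.inr (Or.inr this.symm)

theorem zpowers_ne_par (ε : ℤ) : Subgroup.zpowers d.x ≠ d.par ε := fun h => by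
  exact Int.not_even_one (d.r_mem_par.mp (h ▸ ⟨1, rfl⟩ : d.x ^ (1 : ℤ) ∈ d.par ε))

theorem par_zero_ne_one : d.par 0 ≠ d.par 1 := fun h => by
  have := d.ry_mem_par.mp (h ▸ d.ry_mem_par.mpr (by simp) : d.x ^ (0 : ℤ) * d.y ∈ d.par 1)
  exact absurd this (by decide)

theorem closure_involutions : Subgroup.closure {g : S | orderOf g = 2} = d.par 0 := by
  refine le_antisymm ?_ ?_
  · rw [Subgroup.closure_le]
    intro g (hg : orderOf g = 2)
    obtain ⟨i, rfl | rfl⟩ := d.cases' g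
    · obtain ⟨c, hc⟩ := d.orderOf_r_two.mp hg
      exact d.r_mem_par.mpr ⟨2 * d.q * c + d.q, by linarith⟩
    · exact d.ry_mem_par.mpr (by simpa using d.orderOf_ry_two.mp hg)
  · rw [d.par_eq_closure, Subgroup.closure_le]
    have key : ∀ i : ℤ, Even i → d.x ^ i * d.y ∈ Subgroup.closure {g : S | orderOf g = 2} :=
      fun i hi => Subgroup.subset_closure (d.orderOf_ry_two.mpr hi)
    rintro g (rfl | rfl)
    · have := mul_mem (key 2 even_two) (key 0 Even.zero)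
      rwa [d.ry_mul_ry, show (2 : ℤ) + 0 * (2 * d.q - 1) = 2 by ring] at this
    · exact key 0 Even.zero

theorem normal_cases (N : Subgroup S) [N.Normal] (hN : N ≠ ⊤) :
    IsCoatom N ∨ (IsCyclic N ∧ N ≤ commutator S) := by
  by_cases hy : N ≤ Subgroup.zpowers d.x
  · by_cases hodd : ∃ i : ℤ, Odd i ∧ d.x ^ i ∈ N
    · refine Or.inl ?_
      obtain ⟨i, ⟨k, rfl⟩, hi⟩ := hodd
      have : N = Subgroup.zpowers d.x := by
        refine le_antisymm hy (Subgroup.zpowers_le.mpr ?_)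
        have hc : Int.gcd (2 * k + 1) ((2 ^ n : ℕ) : ℤ) = 1 := by
          rw [Int.gcd, Int.natAbs_natCast]
          refine Nat.Coprime.pow_right _ (Nat.coprime_two_right.mpr ?_)
          exact Int.natAbs_odd.mpr ⟨k, rfl⟩
        obtain ⟨a, b, hab⟩ := Int.isCoprime_iff_gcd_eq_one.mpr hc
        have := zpow_mem hi a
        rw [← zpow_mul] at this
        rwa [show d.x ^ ((2 * k + 1) * a) = d.x ^ (1 : ℤ) from d.zpow_eq_iff.mpr
          ⟨-b, by rw [← d.order_int]; linarith⟩, zpow_one] at this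
      exact this ▸ d.isCoatom_zpowers
    · refine Or.inr ⟨?_, ?_⟩
      · have := Subgroup.isCyclic_of_le hy
        exact this
      · intro g hg
        obtain ⟨i, rfl⟩ := hy hg
        obtain ⟨k, rfl⟩ := Int.not_odd_iff_even.mp fun h => hodd ⟨i, h, hg⟩
        rw [d.commutator_eq]
        exact ⟨k, by show (d.x ^ (2 : ℤ)) ^ k = d.x ^ (k + k); rw [← zpow_mul]; congr 1; ring⟩
  · refine Or.inl ?_
    obtain ⟨g, hg, hgx⟩ := Set.not_subset.mp hy
    obtain ⟨j, rfl⟩ := d.notMem_iff hgx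
    have h2 : d.x ^ (2 : ℤ) ∈ N := by
      obtain ⟨l, hl⟩ := d.exists_conj_shift j 1
      have h := mul_mem (Subgroup.Normal.conj_mem inferInstance _ hg (d.x ^ l)) (inv_mem hg)
      rw [hl, mul_inv_rev, ← mul_assoc, mul_inv_cancel_right, ← zpow_neg, ← zpow_add] at h
      rwa [show j + 2 * 1 + -j = 2 by ring] at h
    have hle : d.par j ≤ N := by
      rw [d.par_eq_closure, Subgroup.closure_le]
      rintro g (rfl | rfl)
      exacts [h2, hg]
    have : d.par j = N := by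
      by_contra hne
      exact hN ((d.isCoatom_par j).2 _ (lt_of_le_of_ne hle hne))
    exact this ▸ d.isCoatom_par j

theorem two_classes :
    Nat.card {C : ConjClasses S // ∃ t : S, orderOf t = 2 ∧ ConjClasses.mk t = C} = 2 := by
  have h0 : orderOf (d.x ^ (0 : ℤ) * d.y) = 2 := d.orderOf_ry_two.mpr Even.zero
  have hz : orderOf (d.x ^ (2 * d.q)) = 2 := d.orderOf_r_two.mpr ⟨0, by ring⟩
  refine Nat.card_eq_two_iff.mpr ⟨⟨_, _, h0, rfl⟩, ⟨_, _, hz, rfl⟩, ?_, ?_⟩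
  · intro h
    obtain ⟨g, hg⟩ := isConj_iff.mp (ConjClasses.mk_eq_mk_iff_isConj.mp (Subtype.ext_iff.mp h)).symm
    have hzc : d.x ^ (2 * d.q) ∈ Subgroup.center S := d.center_eq ▸ Subgroup.mem_zpowers _
    rw [Subgroup.mem_center_iff.mp hzc g, mul_inv_cancel_right] at hg
    exact d.ry_ne_r _ _ hg.symm
  · rw [Set.eq_univ_iff_forall]
    rintro ⟨C, t, ht, rfl⟩
    simp only [Set.mem_insert_iff, Set.mem_singleton_iff, Subtype.mk.injEq,
      ConjClasses.mk_eq_mk_iff_isConj]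
    obtain ⟨i, rfl | rfl⟩ := d.cases' t
    · exact Or.inr (by rw [d.zpow_eq_iff.mpr (d.orderOf_r_two.mp ht)])
    · obtain ⟨k, rfl⟩ := d.orderOf_ry_two.mp ht
      obtain ⟨l, hl⟩ := d.exists_conj_shift 0 k
      refine Or.inl (IsConj.symm (isConj_iff.mpr ⟨d.x ^ l, ?_⟩))
      rw [hl]; congr 2; ring

theorem four_classes :
    Nat.card {C : ConjClasses S // ∃ t : S, orderOf t = 4 ∧ ConjClasses.mk t = C} = 2 := by
  have h0 : orderOf (d.x ^ (1 : ℤ) * d.y) = 4 := d.orderOf_ry_four.mpr odd_one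
  have hz : orderOf (d.x ^ d.q) = 4 := d.orderOf_r_four.mpr (Or.inl ⟨0, by ring⟩)
  obtain ⟨p, -, hp⟩ := d.exists_half
  refine Nat.card_eq_two_iff.mpr ⟨⟨_, _, h0, rfl⟩, ⟨_, _, hz, rfl⟩, ?_, ?_⟩
  · intro h
    obtain ⟨g, hg⟩ := isConj_iff.mp (ConjClasses.mk_eq_mk_iff_isConj.mp (Subtype.ext_iff.mp h)).symm
    obtain ⟨i, rfl | rfl⟩ := d.cases' g
    · rw [← zpow_neg, ← zpow_add, ← zpow_add] at hg
      exact d.ry_ne_r _ _ hg.symm
    · rw [mul_inv_rev, d.y_inv, d.ry_mul_r, ← mul_assoc, mul_assoc _ d.y d.y, d.yy, mul_one,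
        ← zpow_neg, ← zpow_add] at hg
      exact d.ry_ne_r _ _ hg.symm
  · rw [Set.eq_univ_iff_forall]
    rintro ⟨C, t, ht, rfl⟩
    simp only [Set.mem_insert_iff, Set.mem_singleton_iff, Subtype.mk.injEq,
      ConjClasses.mk_eq_mk_iff_isConj]
    obtain ⟨i, rfl | rfl⟩ := d.cases' t
    · rcases d.orderOf_r_four.mp ht with h | h
      · exact Or.inr (by rw [d.zpow_eq_iff.mpr h])
      · refine Or.inr (IsConj.symm (isConj_iff.mpr ⟨d.y, ?_⟩))
        rw [d.conj_zpow', d.zpow_eq_iff]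
        obtain ⟨c, hc⟩ := h
        exact ⟨p - c, by linear_combination (2 * d.q) * hp - hc⟩
    · obtain ⟨k, rfl⟩ := d.orderOf_ry_four.mp ht
      obtain ⟨l, hl⟩ := d.exists_conj_shift 1 k
      refine Or.inl (IsConj.symm (isConj_iff.mpr ⟨d.x ^ l, ?_⟩))
      rw [hl]; congr 2; ring

end CfsgLib.SmallTwo.QD
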