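import Cfsg.Agent.Lib.ZStar.Main
import Cfsg.Agent.Lib.Fusion.SplitExtraspecial
import Cfsg.Agent.Lib.Critical.Basic
import Cfsg.Agent.Lib.PSolvable.Omega

/-!
A simple group in which a Sylow two-subgroup is the centralizer of an involution and has Frattini
subgroup of order two has dihedral Sylow two-subgroups of order eight.
-/

set_option autoImplicit false
set_option linter.style.haveILetI false

open Cfsg

namespace CfsgLib.SmallTwo

variable {L : Type*} [Group L] [Finite L]

theorem transfer_eq {R : Subgroup L} (hR : IsPGroup 2 R) {A : Type*} [CommGroup A]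
    (φ : R →* A) (h2 : ∀ r : R, φ r * φ r = 1)
    (hN : ∀ g : L, (∀ r ∈ R, g⁻¹ * r * g ∈ R) → g ∈ R)
    {x : L} (hxR : x ∈ R) (hxx : x * x = 1) (hcx : ∀ r ∈ R, r * x = x * r) :
    MonoidHom.transfer φ x = φ ⟨x, hxR⟩ := by
  classical
  haveI : Fact (Nat.Prime 2) := ⟨Nat.prime_two⟩
  haveI := Fintype.ofFinite (L ⧸ R)
  haveI := Fintype.ofFinite (Quotient (MulAction.orbitRel (Subgroup.zpowers x) (L ⧸ R)))
  have hfix : ∀ q : L ⧸ R, x • q = q → q.out⁻¹ * x * q.out ∈ R := by
    intro q hq
    conv at hq => lhs; rw [← QuotientGroup.out_eq' q]; rw [MulAction.Quotient.smul_mk, smul_eq_mul]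
    conv at hq => rhs; rw [← QuotientGroup.out_eq' q]
    have := inv_mem (QuotientGroup.eq.1 hq)
    simpa [mul_assoc] using this
  let f : L ⧸ R → A := fun q => if h : x • q = q then φ ⟨q.out⁻¹ * x * q.out, hfix q h⟩ else 1
  -- the orbit formula
  have hsub : MonoidHom.transfer φ x = ∏ q : L ⧸ R, f q := by
    rw [MonoidHom.transfer_eq_prod_quotient_orbitRel_zpowers_quot φ x]
    refine Fintype.prod_of_injective (fun q => q.out) (fun a b h => by
      rw [← Quotient.out_eq a, ← Quotient.out_eq b]; exact congrArg _ h) _ _ ?_ ?_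
    · intro q hq
      by_cases h : x • q = q
      · refine absurd ⟨Quotient.mk _ q, ?_⟩ hq
        show (Quotient.mk (MulAction.orbitRel (Subgroup.zpowers x) (L ⧸ R)) q).out = q
        obtain ⟨⟨y, hy⟩, hyq⟩ := Quotient.exact (Quotient.out_eq
          (Quotient.mk (MulAction.orbitRel (Subgroup.zpowers x) (L ⧸ R)) q))
        rw [← hyq]
        obtain ⟨k, rfl⟩ := Subgroup.mem_zpowers_iff.1 hy
        exact MulAction.zpow_smul_eq_iff_period_dvd.2 ((Int.natCast_dvd_natCast.2 (by
          rw [MulAction.period_eq_one_iff.2 h])).trans (one_dvd k))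
      · exact dif_neg h
    · intro q
      by_cases h : x • q.out = q.out
      · have hk : Function.minimalPeriod (x • ·) q.out = 1 := Function.minimalPeriod_eq_one_iff_isFixedPt.2 h
        simp only [f, dif_pos h]
        refine congrArg φ (Subtype.ext ?_)
        show _ * x ^ Function.minimalPeriod (x • ·) q.out * _ = _
        rw [hk, pow_one]
      · simp only [f, dif_neg h]
        have hk : Function.minimalPeriod (x • ·) q.out = 2 := by
          have hper : Function.IsPeriodicPt (x • ·) 2 q.out := by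
            show x • x • q.out = q.out
            rw [smul_smul, hxx, one_smul]
          rcases (Nat.dvd_prime Nat.prime_two).1 hper.minimalPeriod_dvd with e | e
          · exact absurd (Function.minimalPeriod_eq_one_iff_isFixedPt.1 e) h
          · exact e
        rw [← map_one φ]
        refine congrArg φ (Subtype.ext ?_)
        show _ * x ^ Function.minimalPeriod (x • ·) q.out * _ = _
        rw [hk, sq, hxx, mul_one, inv_mul_cancel]
        rfl
  -- invariance under `R`
  have hinv : ∀ (r : R) (q : L ⧸ R), f (r • q) = f q := by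
    intro r q
    have hrq : ∀ q : L ⧸ R, x • (r • q) = r • (x • q) := fun q => by
      show x • ((r : L) • q) = (r : L) • (x • q)
      rw [smul_smul, smul_smul, hcx r r.2]
    by_cases h : x • q = q
    · have h' : x • (r • q) = r • q := by rw [hrq, h]
      simp only [f, dif_pos h, dif_pos h']
      obtain ⟨m, hm⟩ : ∃ m : R, (r • q).out = (r : L) * q.out * m := by
        refine ⟨⟨((r : L) * q.out)⁻¹ * (r • q).out, QuotientGroup.eq.1 ?_⟩, by group⟩
        rw [QuotientGroup.out_eq']
        show _ = (r : L) • q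
        conv_rhs => rw [← QuotientGroup.out_eq' q]
        rfl
      have e : (⟨(r • q).out⁻¹ * x * (r • q).out, hfix _ h'⟩ : R) =
          m⁻¹ * ⟨q.out⁻¹ * x * q.out, hfix q h⟩ * m := by
        apply Subtype.ext
        show (r • q).out⁻¹ * x * (r • q).out = (m : L)⁻¹ * (q.out⁻¹ * x * q.out) * m
        rw [hm]
        have hr : (r : L)⁻¹ * x * r = x := by rw [mul_assoc, ← hcx r r.2, inv_mul_cancel_left]
        calc _ = (m : L)⁻¹ * (q.out⁻¹ * ((r : L)⁻¹ * x * r) * q.out) * m := by group
          _ = _ := by rw [hr]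
      rw [e, map_mul, map_mul, map_inv, mul_right_comm, inv_mul_cancel, one_mul]
    · have h' : ¬ x • (r • q) = r • q := fun h' => h (by
        rw [hrq] at h'
        exact smul_left_cancel r h')
      simp only [f, dif_neg h, dif_neg h']
  have hsq : ∀ q, f q * f q = 1 := fun q => by
    by_cases h : x • q = q
    · simp only [f, dif_pos h]; exact h2 _
    · simp only [f, dif_neg h]; exact mul_one 1
  rw [hsub]
  haveI := Fintype.ofFinite (Quotient (MulAction.orbitRel R (L ⧸ R)))
  rw [← Fintype.prod_fiberwise (fun q => (Quotient.mk (MulAction.orbitRel R (L ⧸ R)) q)) f]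
  rw [Finset.prod_eq_single (Quotient.mk (MulAction.orbitRel R (L ⧸ R)) ((1 : L) : L ⧸ R))]
  · have hone : ∀ r : R, r • ((1 : L) : L ⧸ R) = ((1 : L) : L ⧸ R) := fun r => by
      show (((r : L) * 1 : L) : L ⧸ R) = _
      rw [mul_one, QuotientGroup.eq]
      simp [r.2]
    rw [Fintype.prod_eq_single (⟨((1 : L) : L ⧸ R), rfl⟩ : {q : L ⧸ R //
        Quotient.mk (MulAction.orbitRel R (L ⧸ R)) q = Quotient.mk (MulAction.orbitRel R (L ⧸ R)) ((1 : L) : L ⧸ R)})]
    · have hx1 : x • ((1 : L) : L ⧸ R) = ((1 : L) : L ⧸ R) := hone ⟨x, hxR⟩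
      simp only [f, dif_pos hx1]
      set m := ((1 : L) : L ⧸ R).out with hm
      have hmR : m ∈ R := by
        have := QuotientGroup.eq.1 (QuotientGroup.out_eq' ((1 : L) : L ⧸ R))
        rw [mul_one, inv_mem_iff] at this
        exact this
      refine congrArg φ (Subtype.ext ?_)
      show m⁻¹ * x * m = x
      rw [mul_assoc, ← hcx m hmR, inv_mul_cancel_left]
    · rintro ⟨q, hq⟩ hne
      exfalso
      obtain ⟨r, hr⟩ := Quotient.exact hq
      exact hne (Subtype.ext (hr.symm.trans (hone r)))
  · intro O _ hO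
    have hval : ∀ q : {q : L ⧸ R // Quotient.mk (MulAction.orbitRel R (L ⧸ R)) q = O}, f q = f O.out := by
      rintro ⟨q, hq⟩
      obtain ⟨r, hr⟩ := Quotient.exact (hq.trans (Quotient.out_eq O).symm)
      show f q = f O.out
      rw [← hr]
      exact hinv r _
    rw [Fintype.prod_congr _ _ hval, Finset.prod_const, Finset.card_univ]
    obtain ⟨n, hn⟩ := hR.card_orbit O.out
    have hcard : Fintype.card {q : L ⧸ R // Quotient.mk (MulAction.orbitRel R (L ⧸ R)) q = O} = 2 ^ n := by
      rw [← Nat.card_eq_fintype_card, ← hn]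
      refine Nat.card_congr (Equiv.subtypeEquivRight fun q => ?_)
      rw [← Quotient.out_eq O, Quotient.eq]
      simp only [Quotient.out_eq]
      rfl
    rw [hcard]
    rcases n with _ | n
    · exfalso
      apply hO
      have hone : ∀ r : R, r • O.out = O.out := by
        intro r
        rw [pow_zero, Nat.card_eq_one_iff_unique] at hn
        exact congrArg Subtype.val (hn.1.elim (⟨r • O.out, ⟨r, rfl⟩⟩ : MulAction.orbit R O.out)
          ⟨O.out, MulAction.mem_orbit_self _⟩)
      have hmem : O.out.out ∈ R := hN _ fun r hr => by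
        have := hone ⟨r, hr⟩
        conv at this => lhs; rw [← QuotientGroup.out_eq' O.out]
        conv at this => rhs; rw [← QuotientGroup.out_eq' O.out]
        have := inv_mem (QuotientGroup.eq.1 (show (((r * O.out.out : L)) : L ⧸ R) = ((O.out.out : L) : L ⧸ R) from this))
        simpa [mul_assoc] using this
      rw [← Quotient.out_eq O]
      congr 1
      rw [← QuotientGroup.out_eq' O.out, QuotientGroup.eq, mul_one]
      exact inv_mem hmem
    · rw [pow_succ', pow_mul, sq, hsq, one_pow]
  · simp

theorem dihedral_of_frattini [IsSimpleGroup L] (hL : ¬ IsMulCommutative L) (z : L)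
    (hz : orderOf z = 2) (R : Sylow 2 L) (hR : (R : Subgroup L) = Subgroup.centralizer ({z} : Set L))
    (hΦ : (frattini ↥(R : Subgroup L)).map (R : Subgroup L).subtype = Subgroup.zpowers z) :
    Nonempty (↥(R : Subgroup L) ≃* DihedralGroup 4) := by
  classical
  haveI : Fact (Nat.Prime 2) := ⟨Nat.prime_two⟩
  have hz1 : z ≠ 1 := fun e => by rw [e, orderOf_one] at hz; norm_num at hz
  have hzz : z * z = 1 := by rw [← sq, ← hz]; exact pow_orderOf_eq_one z
  have hzinv : z⁻¹ = z := inv_eq_of_mul_eq_one_right hzz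
  have hmem : ∀ c, c ∈ (R : Subgroup L) ↔ c * z = z * c := fun c => by
    rw [hR, Subgroup.mem_centralizer_singleton_iff]
  have hzR : z ∈ (R : Subgroup L) := (hmem z).2 rfl
  have hzc : ∀ r ∈ (R : Subgroup L), r * z = z * r := fun r hr => (hmem r).1 hr
  have hzp : ∀ x ∈ Subgroup.zpowers z, x = 1 ∨ x = z := by
    intro x hx
    obtain ⟨k, rfl⟩ := Subgroup.mem_zpowers_iff.1 hx
    rcases Int.even_or_odd' k with ⟨m, rfl | rfl⟩
    · exact Or.inl (by rw [zpow_mul, zpow_two, hzz, one_zpow])
    · exact Or.inr (by rw [zpow_add, zpow_mul, zpow_two, hzz, one_zpow, one_mul, zpow_one])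
  obtain ⟨hΦc, hΦs⟩ := PSolvable.commutator_le_frattini R.2
  have hin : ∀ a : ↥(R : Subgroup L), a ∈ frattini ↥(R : Subgroup L) → (a : L) = 1 ∨ (a : L) = z :=
    fun a ha => hzp _ (hΦ.le ⟨a, ha, rfl⟩)
  have hcomm : ∀ a ∈ (R : Subgroup L), ∀ b ∈ (R : Subgroup L), a * b = b * a ∨ a * b = z * (b * a) := by
    intro a ha b hb
    have h := hin _ (hΦc (Subgroup.commutator_mem_commutator (Subgroup.mem_top (⟨a, ha⟩ : ↥(R : Subgroup L)))
      (Subgroup.mem_top (⟨b, hb⟩ : ↥(R : Subgroup L)))))
    simp only [commutatorElement_def, Subgroup.coe_mul, Subgroup.coe_inv] at h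
    rcases h with h | h
    · left
      calc a * b = a * b * a⁻¹ * b⁻¹ * (b * a) := by group
        _ = b * a := by rw [h, one_mul]
    · right
      calc a * b = a * b * a⁻¹ * b⁻¹ * (b * a) := by group
        _ = _ := by rw [h]
  have hsq : ∀ a ∈ (R : Subgroup L), a * a = 1 ∨ a * a = z := by
    intro a ha
    have h := hin _ (hΦs ⟨a, ha⟩)
    rwa [SubgroupClass.coe_pow, sq] at h
  -- a square equal to `z`
  obtain ⟨a, ha, haz⟩ : ∃ a ∈ (R : Subgroup L), a * a = z := by
    by_contra hno
    push Not at hno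
    have hall : ∀ a ∈ (R : Subgroup L), a * a = 1 := fun a ha => (hsq a ha).resolve_right (hno a ha)
    have hab : ∀ a b : ↥(R : Subgroup L), a * b = b * a := fun a b => by
      apply Subtype.ext
      have e : ∀ x ∈ (R : Subgroup L), x⁻¹ = x := fun x hx => inv_eq_of_mul_eq_one_right (hall x hx)
      calc (a : L) * b = ((a : L) * b)⁻¹ := (e _ (mul_mem a.2 b.2)).symm
        _ = _ := by rw [mul_inv_rev, e _ a.2, e _ b.2]; rfl
    have hle : frattini ↥(R : Subgroup L) ≤ ⊥ := Critical.frattini_le_of_elementary (p := 2) ⊥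
      (by rw [commutator_def, Subgroup.commutator_le]
          intro a _ b _
          rw [Subgroup.mem_bot, commutatorElement_eq_one_iff_mul_comm]
          exact hab a b)
      (fun x => by rw [Subgroup.mem_bot]; exact Subtype.ext (by rw [SubgroupClass.coe_pow, sq]; exact hall x x.2))
    rw [le_bot_iff.1 hle, Subgroup.map_bot] at hΦ
    have : z ∈ (⊥ : Subgroup L) := hΦ.ge (Subgroup.mem_zpowers z)
    exact hz1 (Subgroup.mem_bot.1 this)
  -- `R` is self-normalizing
  have hN : ∀ g : L, (∀ r ∈ (R : Subgroup L), g⁻¹ * r * g ∈ (R : Subgroup L)) → g ∈ (R : Subgroup L) := by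
    intro g hg
    rw [hmem]
    rcases hsq _ (hg a ha) with h | h
    · exfalso
      rw [show g⁻¹ * a * g * (g⁻¹ * a * g) = g⁻¹ * (a * a) * g by group, haz] at h
      exact hz1 (by rw [show z = g * (g⁻¹ * z * g) * g⁻¹ by group, h]; group)
    · rw [show g⁻¹ * a * g * (g⁻¹ * a * g) = g⁻¹ * (a * a) * g by group, haz] at h
      calc g * z = g * (g⁻¹ * z * g) := by rw [h]
        _ = z * g := by group
  -- a second involution
  obtain ⟨g, hgc, hgne⟩ : ∃ g : L, Commute z (g * z * g⁻¹) ∧ g * z * g⁻¹ ≠ z := by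
    by_contra hno
    push Not at hno
    have hC := ZStar.commutatorsInCore_of_isolated (z := z) ⟨hz, hno⟩
    haveI := Transfer.pPrimeCore_normal 2 L
    rcases IsSimpleGroup.eq_bot_or_eq_top_of_normal (pPrimeCore 2 L) inferInstance with h | h
    · have hzcen : z ∈ Subgroup.center L := Subgroup.mem_center_iff.2 fun g =>
        ((ZStar.commute_of_commutatorsInCore h hC) g).symm
      rcases IsSimpleGroup.eq_bot_or_eq_top_of_normal (Subgroup.center L) inferInstance with h' | h'
      · rw [h', Subgroup.mem_bot] at hzcen; exact hz1 hzcen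
      · exact hL ⟨⟨fun a b => Subgroup.mem_center_iff.1 (h' ▸ Subgroup.mem_top b) a⟩⟩
    · have := ZStar.odd_card_core (G := L)
      rw [h, Subgroup.card_top] at this
      have h2 : 2 ∣ Nat.card L := hz ▸ orderOf_dvd_natCard z
      exact Nat.not_even_iff_odd.2 this (even_iff_two_dvd.2 h2)
  obtain ⟨w, hw⟩ : ∃ w, w = g * z * g⁻¹ := ⟨_, rfl⟩
  rw [← hw] at hgc hgne
  have hwR : w ∈ (R : Subgroup L) := (hmem w).2 hgc.eq.symm
  have hww : w * w = 1 := by
    rw [hw, show g * z * g⁻¹ * (g * z * g⁻¹) = g * (z * z) * g⁻¹ by group, hzz]; group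
  have hw1 : w ≠ 1 := fun e => hz1 (conj_eq_one_iff.1 (hw.symm.trans e))
  have hback : ∀ t ∈ (R : Subgroup L), t * w = w * t → g⁻¹ * t * g ∈ (R : Subgroup L) := by
    intro t _ htw
    rw [hmem]
    calc g⁻¹ * t * g * z = g⁻¹ * (t * w) * g := by rw [hw]; group
      _ = _ := by rw [htw, hw]; group
  -- `w` is moved
  obtain ⟨c, hc, hcw⟩ : ∃ c ∈ (R : Subgroup L), c * w ≠ w * c := by
    by_contra hno
    push Not at hno
    have hgR : g ∈ (R : Subgroup L) := hN g fun r hr => hback r hr (hno r hr)
    exact hgne (by rw [hw, (hmem g).1 hgR, mul_inv_cancel_right])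
  have hcw' : c * w = z * (w * c) := (hcomm c hc w hwR).resolve_left hcw
  have hwz : w * z = z * w := hzc w hwR
  -- the centralizer of `w` in `R` is elementary abelian
  have hSc : ∀ s ∈ (R : Subgroup L), ∀ t ∈ (R : Subgroup L), s * w = w * s → t * w = w * t → s * t = t * s := by
    intro s hs t ht hsw htw
    rcases hcomm s hs t ht with h | h
    · exact h
    exfalso
    rcases hcomm _ (hback s hs hsw) _ (hback t ht htw) with h' | h'
    · have : s * t = t * s := by
        calc s * t = g * (g⁻¹ * s * g * (g⁻¹ * t * g)) * g⁻¹ := by group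
          _ = g * (g⁻¹ * t * g * (g⁻¹ * s * g)) * g⁻¹ := by rw [h']
          _ = t * s := by group
      rw [this] at h
      exact hz1 (mul_eq_right.1 h.symm)
    · have : s * t = w * (t * s) := by
        calc s * t = g * (g⁻¹ * s * g * (g⁻¹ * t * g)) * g⁻¹ := by group
          _ = g * (z * (g⁻¹ * t * g * (g⁻¹ * s * g))) * g⁻¹ := by rw [h']
          _ = _ := by rw [hw]; group
      rw [h] at this
      exact hgne (mul_right_cancel this).symm
  have hSq : ∀ s ∈ (R : Subgroup L), s * w = w * s → s * s = 1 := by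
    intro s hs hsw
    rcases hsq s hs with h | h
    · exact h
    exfalso
    rcases hsq _ (hback s hs hsw) with h' | h'
    · rw [show g⁻¹ * s * g * (g⁻¹ * s * g) = g⁻¹ * (s * s) * g by group, h] at h'
      exact hz1 (by rw [show z = g * (g⁻¹ * z * g) * g⁻¹ by group, h']; group)
    · rw [show g⁻¹ * s * g * (g⁻¹ * s * g) = g⁻¹ * (s * s) * g by group, h] at h'
      exact hgne (by rw [hw]; calc g * z * g⁻¹ = g * (g⁻¹ * z * g) * g⁻¹ := by rw [h']
                                _ = z := by group)
  -- transfer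
  have hcen : ∀ x ∈ (R : Subgroup L), (∀ r ∈ (R : Subgroup L), r * x = x * r) → x = 1 ∨ x = z := by
    intro x hx hxc
    have hxx := hSq x hx (hxc w hwR).symm
    have hab : ∀ r : ↥(R : Subgroup L), (Abelianization.of r : Abelianization ↥(R : Subgroup L)) * Abelianization.of r = 1 := by
      intro r
      rw [← map_mul, ← MonoidHom.mem_ker, Abelianization.ker_of]
      have hzmem : (⟨z, hzR⟩ : ↥(R : Subgroup L)) ∈ commutator ↥(R : Subgroup L) := by
        have := Subgroup.commutator_mem_commutator (Subgroup.mem_top (⟨c, hc⟩ : ↥(R : Subgroup L)))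
          (Subgroup.mem_top (⟨w, hwR⟩ : ↥(R : Subgroup L)))
        rw [← commutator_def] at this
        convert this using 1
        apply Subtype.ext
        simp only [commutatorElement_def, Subgroup.coe_mul, Subgroup.coe_inv]
        rw [hcw']; group
      rcases hsq r r.2 with h | h
      · rw [show r * r = 1 from Subtype.ext h]; exact one_mem _
      · rw [show r * r = ⟨z, hzR⟩ from Subtype.ext h]; exact hzmem
    have htr := transfer_eq R.2 (Abelianization.of : ↥(R : Subgroup L) →* _) hab hN hx hxx hxc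
    set V := MonoidHom.transfer (Abelianization.of : ↥(R : Subgroup L) →* Abelianization ↥(R : Subgroup L))
    rcases IsSimpleGroup.eq_bot_or_eq_top_of_normal V.ker inferInstance with h | h
    · exfalso
      refine hL ⟨⟨fun a b => ?_⟩⟩
      exact (MonoidHom.ker_eq_bot_iff V).1 h (by rw [map_mul, map_mul, mul_comm])
    · have : (⟨x, hx⟩ : ↥(R : Subgroup L)) ∈ commutator ↥(R : Subgroup L) := by
        rw [← Abelianization.ker_of, MonoidHom.mem_ker, ← htr, ← MonoidHom.mem_ker, h]
        exact Subgroup.mem_top x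
      exact hin _ (hΦc this)
  have hS4 : ∀ s ∈ (R : Subgroup L), s * w = w * s → s = 1 ∨ s = z ∨ s = w ∨ s = z * w := by
    intro s hs hsw
    have key : ∀ t ∈ (R : Subgroup L), t * w = w * t → c * t = t * c → t = 1 ∨ t = z := by
      intro t ht htw htc
      refine hcen t ht fun r hr => ?_
      by_cases hrw : r * w = w * r
      · exact hSc r hr t ht hrw htw
      · have hrw' := (hcomm r hr w hwR).resolve_left hrw
        have hr2 : (c⁻¹ * r) * w = w * (c⁻¹ * r) := by
          calc c⁻¹ * r * w = c⁻¹ * (r * w) := by group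
            _ = c⁻¹ * (z * (w * r)) := by rw [hrw']
            _ = c⁻¹ * ((z * (w * c)) * (c⁻¹ * r)) := by group
            _ = c⁻¹ * ((c * w) * (c⁻¹ * r)) := by rw [hcw']
            _ = _ := by group
        have := hSc _ (mul_mem (inv_mem hc) hr) t ht hr2 htw
        calc r * t = c * (c⁻¹ * r * t) := by group
          _ = c * (t * (c⁻¹ * r)) := by rw [this]
          _ = c * t * (c⁻¹ * r) := by group
          _ = t * r := by rw [htc]; group
    rcases hcomm c hc s hs with h | h
    · rcases key s hs hsw h with e | e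
      · exact Or.inl e
      · exact Or.inr (Or.inl e)
    · have htw : s * w * w = w * (s * w) := by rw [← mul_assoc w, ← hsw]
      have hcs : c * (s * w) = s * w * c := by
        calc c * (s * w) = (c * s) * w := by group
          _ = z * (s * (c * w)) := by rw [h]; group
          _ = z * ((s * z) * (w * c)) := by rw [hcw']; group
          _ = (z * z) * (s * w * c) := by rw [hzc s hs]; group
          _ = _ := by rw [hzz, one_mul]
      rcases key _ (mul_mem hs hwR) htw hcs with e | e
      · refine Or.inr (Or.inr (Or.inl ?_))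
        rw [eq_inv_of_mul_eq_one_left e, inv_eq_of_mul_eq_one_right hww]
      · refine Or.inr (Or.inr (Or.inr ?_))
        rw [← e, mul_assoc, hww, mul_one]
  -- an involution moving `w`
  obtain ⟨b, hb, hbb, hbw⟩ : ∃ b ∈ (R : Subgroup L), b * b = 1 ∧ b * w = z * (w * b) := by
    rcases hsq c hc with h | h
    · exact ⟨c, hc, h, hcw'⟩
    · refine ⟨c * w, mul_mem hc hwR, ?_, ?_⟩
      · calc c * w * (c * w) = z * (w * c) * (c * w) := by rw [hcw']
          _ = z * (w * (c * c)) * w := by group
          _ = (z * (w * z)) * w := by rw [h]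
          _ = 1 := by rw [hwz, ← mul_assoc, hzz, one_mul, hww]
      · rw [mul_assoc, hww, mul_one]
        calc c = (z * z) * (w * w) * c := by rw [hzz, hww, one_mul, one_mul]
          _ = z * ((z * w) * (w * c)) := by group
          _ = z * ((w * z) * (w * c)) := by rw [hwz]
          _ = z * (w * (c * w)) := by rw [hcw']; group
  have hall : ∀ r ∈ (R : Subgroup L), ∃ i : Fin 8, r = ![1, z, w, z * w, b, z * b, w * b, z * w * b] i := by
    intro r hr
    by_cases hrw : r * w = w * r
    · rcases hS4 r hr hrw with e | e | e | e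
      exacts [⟨0, e⟩, ⟨1, e⟩, ⟨2, e⟩, ⟨3, e⟩]
    · have hrw' := (hcomm r hr w hwR).resolve_left hrw
      have hs : (r * b) * w = w * (r * b) := by
        calc r * b * w = r * (z * (w * b)) := by rw [mul_assoc, hbw]
          _ = z * (r * w) * b := by rw [← mul_assoc r z, hzc r hr]; group
          _ = (z * z) * (w * r) * b := by rw [hrw']; group
          _ = _ := by rw [hzz, one_mul, mul_assoc]
      have hr' : r = r * b * b := by rw [mul_assoc, hbb, mul_one]
      rcases hS4 _ (mul_mem hr hb) hs with e | e | e | e <;> rw [e] at hr'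
      exacts [⟨4, by simpa using hr'⟩, ⟨5, hr'⟩, ⟨6, hr'⟩, ⟨7, hr'⟩]
  have hle : Nat.card ↥(R : Subgroup L) ≤ 8 := by
    choose i hi using hall
    have := Nat.card_le_card_of_injective (fun r : ↥(R : Subgroup L) => i r r.2) fun r r' e => by
      apply Subtype.ext
      rw [hi r r.2, hi r' r'.2]
      exact congrArg _ e
    simpa using this
  have hsub : ({1, z, w, z * w, b} : Set L) ⊆ ((R : Subgroup L) : Set L) := by
    rintro y (rfl | rfl | rfl | rfl | rfl)
    exacts [one_mem _, hzR, hwR, mul_mem hzR hwR, hb]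
  have hbne : ∀ s, s * w = w * s → b ≠ s := by
    rintro s hs rfl
    rw [hs] at hbw
    exact hz1 (mul_eq_right.1 hbw.symm)
  have h5 : ({1, z, w, z * w, b} : Set L).ncard = 5 := by
    rw [Set.ncard_insert_of_notMem, Set.ncard_insert_of_notMem, Set.ncard_insert_of_notMem,
      Set.ncard_insert_of_notMem, Set.ncard_singleton]
    · simp only [Set.mem_singleton_iff]
      exact fun e => hbne (z * w) (by rw [mul_assoc, ← mul_assoc w, hwz, mul_assoc]) e.symm
    · simp only [Set.mem_insert_iff, Set.mem_singleton_iff, not_or]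
      exact ⟨fun e => hz1 (right_eq_mul.1 e), fun e => hbne w rfl e.symm⟩
    · simp only [Set.mem_insert_iff, Set.mem_singleton_iff, not_or]
      exact ⟨fun e => hgne e.symm, fun e => hw1 (left_eq_mul.1 e), fun e => hbne z hwz.symm e.symm⟩
    · simp only [Set.mem_insert_iff, Set.mem_singleton_iff, not_or]
      refine ⟨hz1.symm, hw1.symm, fun e => hgne ?_, fun e => hbne 1 (by rw [one_mul, mul_one]) e.symm⟩
      calc w = z⁻¹ * (z * w) := by group
        _ = z := by rw [← e, mul_one, hzinv]
  have hge : 5 ≤ Nat.card ↥(R : Subgroup L) := by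
    rw [← h5, ← SetLike.coe_sort_coe, Nat.card_coe_set_eq]
    exact Set.ncard_le_ncard hsub (Set.toFinite _)
  have hcard : Nat.card ↥(R : Subgroup L) = 8 := by
    obtain ⟨k, hk⟩ := IsPGroup.iff_card.1 R.2
    rcases k with _ | _ | _ | _ | k
    · rw [hk] at hge; norm_num at hge
    · rw [hk] at hge; norm_num at hge
    · rw [hk] at hge; norm_num at hge
    · exact hk
    · rw [hk, pow_succ, pow_succ, pow_succ, pow_succ] at hle
      have := Nat.one_le_two_pow (n := k)
      omega
  refine Fusion.Split.exists_dihedral_equiv hcard (x := ⟨w, hwR⟩) (y := ⟨b, hb⟩)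
    (Subtype.ext hww) (Subtype.ext hbb) ?_ ?_
  · rw [eq_top_iff]
    rintro ⟨r, hr⟩ -
    set K := Subgroup.closure ({⟨w, hwR⟩, ⟨b, hb⟩} : Set ↥(R : Subgroup L))
    have kw : (⟨w, hwR⟩ : ↥(R : Subgroup L)) ∈ K := Subgroup.subset_closure (Or.inl rfl)
    have kb : (⟨b, hb⟩ : ↥(R : Subgroup L)) ∈ K := Subgroup.subset_closure (Or.inr rfl)
    have kz : (⟨z, hzR⟩ : ↥(R : Subgroup L)) ∈ K := by
      convert mul_mem (mul_mem (mul_mem kb kw) kb) kw using 1
      apply Subtype.ext
      show z = b * w * b * w
      rw [hbw]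
      calc z = z * (w * 1 * w) := by rw [mul_one, hww, mul_one]
        _ = _ := by rw [← hbb]; group
    obtain ⟨i, hi⟩ := hall r hr
    fin_cases i <;> simp at hi <;> subst hi
    exacts [one_mem K, kz, kw, mul_mem kz kw, kb, mul_mem kz kb, mul_mem kw kb, mul_mem (mul_mem kz kw) kb]
  · apply Subtype.ext
    show ((w * b) ^ 4 : L) = 1
    have h2 : w * b * (w * b) = z := by
      calc w * b * (w * b) = w * (b * w) * b := by group
        _ = w * (z * (w * b)) * b := by rw [hbw]
        _ = (w * z) * w * (b * b) := by group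
        _ = z := by rw [hwz, hbb, mul_one, mul_assoc, hww, mul_one]
    rw [show (4 : ℕ) = 2 * 2 from rfl, pow_mul, sq, sq, h2, hzz]

end CfsgLib.SmallTwo
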