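import Cfsg.Agent.Lib.SmallTwo.WRLocal

/-!
Fusion in groups with wreathed Sylow 2-subgroups.
-/

set_option autoImplicit false

namespace CfsgLib.SmallTwo.WR

open CfsgLib.Transfer

variable {G : Type*} [Group G] [Finite G] {S : Sylow 2 G} {n : ℕ} (d : WR (S : Subgroup G) n)

/-- The base in `G`. -/
def baseG : Subgroup G := d.base.map (S : Subgroup G).subtype

/-- The groups `Z(S) Q₈` in `G`. -/
def qzG (e : ℤ) : Subgroup G := (d.qz e).map (S : Subgroup G).subtype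

theorem coe_mem_baseG {v : (S : Subgroup G)} : (v : G) ∈ d.baseG ↔ v ∈ d.base :=
  Subgroup.mem_map_iff_mem (S : Subgroup G).subtype_injective

theorem coe_mem_qzG {e : ℤ} {v : (S : Subgroup G)} : (v : G) ∈ d.qzG e ↔ v ∈ d.qz e :=
  Subgroup.mem_map_iff_mem (S : Subgroup G).subtype_injective

theorem isConj_coe {a b : (S : Subgroup G)} (h : IsConj a b) : IsConj (a : G) (b : G) :=
  (S : Subgroup G).subtype.map_isConj h

theorem eq_baseG {U : Subgroup G} (hUS : U ≤ S) (hUab : IsMulCommutative U)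
    (hUcard : Nat.card U = 2 ^ (2 * n)) : U = d.baseG := by
  have e := Subgroup.subgroupOfEquivOfLe hUS
  have h : U.subgroupOf (S : Subgroup G) = d.base := d.abelian_eq_base _
    ⟨⟨fun a b => e.injective (by rw [map_mul, map_mul]; exact hUab.is_comm.comm _ _)⟩⟩
    ((Nat.card_congr e.toEquiv).trans hUcard)
  rw [baseG, ← h, Subgroup.subgroupOf_map_subtype, inf_eq_left.mpr hUS]

theorem eq_qzG {Q : Subgroup G} (hQS : Q ≤ S) (eQ : Q ≃* QuaternionGroup 2) :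
    ∃ e, Q ⊔ (Subgroup.center (S : Subgroup G)).map (S : Subgroup G).subtype = d.qzG e := by
  obtain ⟨e, he⟩ := d.sup_center_eq_qz (Q.subgroupOf (S : Subgroup G))
    ((Subgroup.subgroupOfEquivOfLe hQS).trans eQ)
  exact ⟨e, by rw [qzG, ← he, Subgroup.map_sup, Subgroup.subgroupOf_map_subtype, inf_eq_left.mpr hQS]⟩

theorem actsLike_base
    (h : (Subgroup.centralizer (d.baseG : Set G)).relIndex (Subgroup.normalizer (d.baseG : Set G)) = 2) :
    ActsLike (S : Subgroup G) d.baseG := by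
  refine actsLike_of_centralizer h d.z.2 (QD.conj_mem_map fun g hg =>
    d.base_normal.conj_mem g hg d.z) fun hc => ?_
  have hcm : d.z * d.u 1 0 = d.u 1 0 * d.z :=
    Subtype.ext (Subgroup.mem_centralizer_iff.mp hc _ (d.coe_mem_baseG.mpr (d.u_mem_base 1 0))).symm
  rw [d.z_mul_u, mul_left_inj, d.u_eq_iff] at hcm
  have := Int.le_of_dvd one_pos (by simpa using hcm.2)
  have := d.c_pos
  omega

theorem u_q_notMem {e q : ℤ} (hc : d.c = 2 * q) :
    (d.u q 0 : G) ∉ d.qzG e ⊔ Subgroup.centralizer (d.qzG e : Set G) := by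
  intro hmem
  obtain ⟨_, ⟨a, ha, rfl⟩, hact⟩ := inner_of_mem_sup hmem
  have hw : d.u e (-e) * d.z ∈ d.qz e := d.uz_mem_qz.mpr ⟨0, by ring⟩
  have h1 := hact _ (d.coe_mem_qzG.mpr hw)
  obtain ⟨i, j, hij, hdiff⟩ := d.qz_inner_diff ha
  have h2 : d.u q 0 * (d.u e (-e) * d.z) * (d.u q 0)⁻¹ = a * (d.u e (-e) * d.z) * a⁻¹ := Subtype.ext h1
  rw [hij, d.conj_uz, mul_left_inj, d.u_eq_iff] at h2
  obtain ⟨⟨k, hk⟩, ⟨l, hl⟩⟩ := h2
  obtain ⟨r, hr⟩ := hdiff
  have : d.c * 1 = d.c * (2 * (k - l + r)) := by linarith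
  have := mul_left_cancel₀ d.c_pos.ne' this
  omega

theorem actsLike_qz_self {e : ℤ}
    (h : (d.qzG e ⊔ Subgroup.centralizer (d.qzG e : Set G)).relIndex
      (Subgroup.normalizer (d.qzG e : Set G)) = 2) :
    ActsLike (S : Subgroup G) (d.qzG e) := by
  obtain ⟨q, hq, hc⟩ := d.exists_quarter
  exact actsLike_of_sup (Subgroup.map_subtype_le _) h (d.u q 0).2
    (QD.conj_mem_map fun g hg => d.conj_q_qz hc hg) (d.u_q_notMem hc)

theorem qzG_conj (e e' : ℤ) :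
    ∃ s ∈ (S : Subgroup G), (d.qzG e).map (MulAut.conj s).toMonoidHom = d.qzG e' := by
  obtain ⟨s, hs⟩ := d.qz_conj e e'
  exact ⟨s, s.2, by rw [qzG, QD.map_conj_map, hs]; rfl⟩

theorem actsLike_qz {e₀ : ℤ}
    (h : (d.qzG e₀ ⊔ Subgroup.centralizer (d.qzG e₀ : Set G)).relIndex
      (Subgroup.normalizer (d.qzG e₀ : Set G)) = 2) (e : ℤ) :
    ActsLike (S : Subgroup G) (d.qzG e) := by
  obtain ⟨s, hs, he⟩ := d.qzG_conj e₀ e
  rw [← he]
  exact (d.actsLike_qz_self h).map hs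

theorem fix_base {g : G} (hodd : Odd (orderOf g))
    (hg : g ∈ Subgroup.normalizer (d.baseG : Set G))
    (hfix : ∀ v ∈ d.torsion, g * (v : G) * g⁻¹ = v) : g ∈ Subgroup.centralizer (d.baseG : Set G) := by
  have key : ∀ (k : ℕ) (v : (S : Subgroup G)), v ∈ d.base → v ^ 2 ^ k = 1 →
      g * (v : G) * g⁻¹ = v := by
    intro k
    induction k with
    | zero => intro v _ h; rw [pow_zero, pow_one] at h; simp [h]
    | succ k ih =>
      intro v hv h
      have hgv : g * (v : G) * g⁻¹ ∈ d.baseG :=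
        (Subgroup.mem_normalizer_iff.mp hg _).mp (d.coe_mem_baseG.mpr hv)
      obtain ⟨w, hw, hwe⟩ := hgv
      have hwe' : (w : G) = g * (v : G) * g⁻¹ := hwe
      have hsq := ih (v ^ 2) (pow_mem hv 2) (by rw [← pow_mul, ← pow_succ']; exact h)
      obtain ⟨a, b, rfl⟩ := hv
      obtain ⟨i, j, rfl⟩ := hw
      have e1 : d.u i j * d.u i j = d.u a b * d.u a b := Subtype.ext (by
        rw [Subgroup.coe_mul, Subgroup.coe_mul, hwe', conj_mul,
          show (d.u a b : G) * (d.u a b : G) = ((d.u a b ^ 2 : (S : Subgroup G)) : G) by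
            rw [Subgroup.coe_pow, pow_two]]
        exact hsq)
      rw [d.u_mul_u, d.u_mul_u, d.u_eq_iff] at e1
      have ht : d.u (i - a) (j - b) ∈ d.torsion := by
        obtain ⟨⟨p, hp⟩, ⟨r, hr⟩⟩ := e1
        exact ⟨p, r, by rw [show i - a = d.c * p by linarith, show j - b = d.c * r by linarith]⟩
      refine fix_step hodd (hfix _ ht) (k := 1) ?_ ?_
      · obtain ⟨p, r, hpr⟩ := ht
        rw [pow_one, ← Subgroup.coe_pow, hpr, ← zpow_natCast, d.u_zpow]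
        refine congrArg Subtype.val (d.u_eq_one_iff.mpr ⟨⟨p, ?_⟩, ⟨r, ?_⟩⟩) <;> push_cast <;> ring
      · rw [← hwe', ← Subgroup.coe_mul, d.u_mul_u, add_sub_cancel, add_sub_cancel]
  refine Subgroup.mem_centralizer_iff.mpr ?_
  rintro _ ⟨v, hv, rfl⟩
  obtain ⟨k, hk⟩ := d.isPGroup v
  exact (mul_inv_eq_iff_eq_mul.mp (key k v hv hk)).symm

/-- An element of odd order moving the base permutes its involutions. -/
theorem base_movers
    (h : (Subgroup.centralizer (d.baseG : Set G)).relIndex (Subgroup.normalizer (d.baseG : Set G)) = 6) :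
    OddConj (d.u d.c 0 : G) (d.u d.c d.c : G) ∧
    ∀ r s : ℤ, (d.u (d.c * r) (d.c * s) : G) ≠ 1 → ∃ i j : ℤ,
      OddConj (d.u 1 0 : G) (d.u i j : G) ∧ (Even i ↔ Even r) ∧ (Even j ↔ Even s) := by
  have : ((Subgroup.centralizer (d.baseG : Set G)).subgroupOf
      (Subgroup.normalizer (d.baseG : Set G))).Normal := by
    rw [← Subgroup.normalizerMonoidHom_ker]; infer_instance
  obtain ⟨g, hg, hodd, hgC⟩ := exists_odd_notMem h
  set T := d.torsion.map (S : Subgroup G).subtype with hT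
  have hgT : g ∈ Subgroup.normalizer (T : Set G) := by
    refine Subgroup.mem_normalizer_fintype ?_
    rintro _ ⟨v, ⟨k, l, rfl⟩, rfl⟩
    show g * (d.u (d.c * k) (d.c * l) : G) * g⁻¹ ∈ T
    obtain ⟨w, ⟨i, j, rfl⟩, he⟩ := (Subgroup.mem_normalizer_iff.mp hg _).mp
      (d.coe_mem_baseG.mpr (d.u_mem_base (d.c * k) (d.c * l)))
    have he' : (d.u i j : G) = g * (d.u (d.c * k) (d.c * l) : G) * g⁻¹ := he
    have hsq : d.u i j * d.u i j = 1 := Subtype.ext (by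
      have e0 : d.u (d.c * k) (d.c * l) * d.u (d.c * k) (d.c * l) = 1 := by
        rw [d.u_mul_u, d.u_eq_one_iff]; exact ⟨⟨k, by ring⟩, ⟨l, by ring⟩⟩
      rw [Subgroup.coe_mul, he', conj_mul, ← Subgroup.coe_mul, e0, Subgroup.coe_one]
      group)
    rw [d.u_mul_u, d.u_eq_one_iff] at hsq
    obtain ⟨⟨p, hp⟩, ⟨r, hr⟩⟩ := hsq
    refine ⟨d.u i j, ⟨p, r, ?_⟩, he'⟩
    rw [show i = d.c * p by linarith, show j = d.c * r by linarith]
  have hgCT : g ∉ Subgroup.centralizer (T : Set G) := fun hc => hgC (d.fix_base hodd hg fun v hv => by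
    exact mul_inv_eq_iff_eq_mul.mpr
      (Subgroup.mem_centralizer_iff.mp hc _ (Subgroup.mem_map_of_mem _ hv)).symm)
  have hcard : Nat.card T = 4 := by
    rw [hT, Subgroup.card_map_of_injective (S : Subgroup G).subtype_injective, d.card_torsion]
  have hmem : ∀ k l : ℤ, (d.u (d.c * k) (d.c * l) : G) ∈ T := fun k l => ⟨_, ⟨k, l, rfl⟩, rfl⟩
  have hc0 : (d.u (d.c * 1) (d.c * 0) : G) ≠ 1 := fun e => d.not_dvd_c (by
    simpa using (d.u_eq_one_iff.mp (Subtype.ext e)).1)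
  refine ⟨?_, fun r s hrs => ?_⟩
  · obtain ⟨t, ht⟩ := four_moves hcard hgT hodd hgCT (hmem 1 0) (hmem 1 1) hc0
      (fun e => d.not_dvd_c (by simpa using (d.u_eq_one_iff.mp (Subtype.ext e)).1))
    simp only [mul_one, mul_zero] at ht
    exact ⟨g ^ t, hodd.of_dvd_nat (orderOf_pow_dvd t), ht⟩
  · obtain ⟨t, ht⟩ := four_moves hcard hgT hodd hgCT (hmem 1 0) (hmem r s) hc0 hrs
    obtain ⟨w, ⟨i, j, rfl⟩, he⟩ :=
      (Subgroup.mem_normalizer_iff.mp (pow_mem hg t) _).mp (d.coe_mem_baseG.mpr (d.u_mem_base 1 0))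
    refine ⟨i, j, ⟨g ^ t, hodd.of_dvd_nat (orderOf_pow_dvd t), he.symm⟩, ?_⟩
    have hnat : (((2 : ℕ) ^ (n - 1) : ℕ) : ℤ) = d.c := by rw [c]; push_cast; rfl
    have he' : (d.u i j : G) = g ^ t * (d.u 1 0 : G) * (g ^ t)⁻¹ := he
    have e1 : d.u i j ^ (2 ^ (n - 1)) = d.u (d.c * r) (d.c * s) := Subtype.ext (by
      rw [Subgroup.coe_pow, he', conj_pow, ← Subgroup.coe_pow, ← zpow_natCast (d.u 1 0), d.u_zpow, hnat]
      exact ht)
    rw [← zpow_natCast, d.u_zpow, hnat, d.u_eq_iff] at e1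
    obtain ⟨⟨p, hp⟩, ⟨v, hv⟩⟩ := e1
    have f1 : i - r = 2 * p := mul_left_cancel₀ d.c_pos.ne' (by linarith)
    have f2 : j - s = 2 * v := mul_left_cancel₀ d.c_pos.ne' (by linarith)
    exact ⟨Int.even_sub.mp ⟨p, by linarith⟩, Int.even_sub.mp ⟨v, by linarith⟩⟩

theorem qz_conj_mem {e : ℤ} {g : G} (hg : g ∈ Subgroup.normalizer (d.qzG e : Set G))
    {v : (S : Subgroup G)} (hv : v ∈ d.qz e) : ∃ w ∈ d.qz e, (w : G) = g * (v : G) * g⁻¹ := by
  obtain ⟨w, hw, he⟩ := (Subgroup.mem_normalizer_iff.mp hg _).mp (d.coe_mem_qzG.mpr hv)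
  exact ⟨w, hw, he⟩

theorem qz_center {e : ℤ} {v : (S : Subgroup G)} (hv : v ∈ d.qz e)
    (hcomm : ∀ w ∈ d.qz e, Commute v w) : ∃ t : ℤ, v = d.u t t := by
  have hc0 : d.u d.c 0 ∈ d.qz e := d.u_mem_qz.mpr (by simp)
  obtain ⟨a, b, rfl | rfl⟩ := d.cases' v
  · refine ⟨a, d.u_eq_iff.mpr ⟨by simp, ?_⟩⟩
    exact dvd_sub_comm.mp
      (d.commute_u_uz.mp (hcomm _ (d.uz_mem_qz.mpr ⟨0, by ring⟩ : d.u e (-e) * d.z ∈ d.qz e)))
  · exact absurd (d.commute_u_uz.mp (hcomm _ hc0).symm) (by simpa using d.not_dvd_c)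

/-- The normalizer of `qz e` maps the centre into itself. -/
theorem qz_diag_mem {e : ℤ} {g : G} (hg : g ∈ Subgroup.normalizer (d.qzG e : Set G)) (r : ℤ) :
    ∃ t : ℤ, (d.u t t : G) = g * (d.u r r : G) * g⁻¹ := by
  obtain ⟨w, hw, he⟩ := d.qz_conj_mem hg (d.u_mem_qz.mpr (by simp) : d.u r r ∈ d.qz e)
  have hcw : ∀ v ∈ d.qz e, Commute w v := by
    intro v hv
    obtain ⟨v', hv', hve⟩ := (Subgroup.mem_normalizer_iff.mp (inv_mem hg) _).mp (d.coe_mem_qzG.mpr hv)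
    have hve' : (v' : G) = g⁻¹ * (v : G) * g⁻¹⁻¹ := hve
    refine Subtype.ext ?_
    rw [Subgroup.coe_mul, Subgroup.coe_mul, he]
    have := congrArg (fun a : (S : Subgroup G) => g * (a : G) * g⁻¹)
      (Subgroup.mem_center_iff.mp (d.mem_center_iff.mpr ⟨r, rfl⟩) v')
    simp only [Subgroup.coe_mul, hve'] at this
    calc g * (d.u r r : G) * g⁻¹ * (v : G) = g * ((d.u r r : G) * (g⁻¹ * v * g⁻¹⁻¹)) * g⁻¹ := by group
      _ = g * ((g⁻¹ * v * g⁻¹⁻¹) * (d.u r r : G)) * g⁻¹ := this.symm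
      _ = _ := by group
  obtain ⟨t', rfl⟩ := d.qz_center hw hcw
  exact ⟨t', he⟩

/-- An element of odd order normalizing `qz e` fixes the centre. -/
theorem qz_fix_diag {e : ℤ} {g : G} (hg : g ∈ Subgroup.normalizer (d.qzG e : Set G))
    (hodd : Odd (orderOf g)) (t : ℤ) : g * (d.u t t : G) * g⁻¹ = d.u t t := by
  obtain ⟨k, hk⟩ := IsPGroup.iff_orderOf.mp d.isPGroup (d.u 1 1)
  have h1 : g ∈ Subgroup.normalizer (Subgroup.zpowers (d.u 1 1 : G) : Set G) := by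
    refine Subgroup.mem_normalizer_fintype ?_
    rintro _ ⟨r, rfl⟩
    obtain ⟨t', ht'⟩ := d.qz_diag_mem hg r
    refine ⟨t', ?_⟩
    show (d.u 1 1 : G) ^ t' = g * ((d.u 1 1 : G) ^ r) * g⁻¹
    rw [← Subgroup.coe_zpow, ← Subgroup.coe_zpow, d.u_zpow, d.u_zpow, mul_one, mul_one, ht']
  have := fix_cyclic hodd (a := (d.u 1 1 : G)) (k := k) (by rw [Subgroup.orderOf_coe, hk]) h1
  have e1 : d.u t t = d.u 1 1 ^ t := by rw [d.u_zpow, mul_one]
  rw [e1, Subgroup.coe_zpow, ← conj_zpow, this]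

/-- An element of odd order normalizing `qz e` and keeping the involution `u c 0` in the base
centralizes `qz e`. -/
theorem qz_centralize {e : ℤ} {g : G} (hg : g ∈ Subgroup.normalizer (d.qzG e : Set G))
    (hodd : Odd (orderOf g)) {w : (S : Subgroup G)} (hw : w ∈ d.qz e) (hwb : w ∈ d.base)
    (he : (w : G) = g * (d.u d.c 0 : G) * g⁻¹) : g ∈ Subgroup.centralizer (d.qzG e : Set G) := by
  have hfix := d.qz_fix_diag hg hodd
  have hE : ∀ v ∈ d.qz e, ∃ w ∈ d.qz e, (w : G) = g * (v : G) * g⁻¹ := fun v hv => d.qz_conj_mem hg hv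
  obtain ⟨i, j, rfl⟩ := hwb
  obtain ⟨p, hp⟩ := d.u_mem_qz.mp hw
  have hp1 : Odd p := by
    refine Int.not_even_iff_odd.mp fun ⟨l, hl⟩ => ?_
    have e1 : d.u i j = d.u i i := d.u_eq_iff.mpr ⟨by simp, -l, by
      rw [hl] at hp; linarith⟩
    rw [e1] at he
    have h2 : g * (d.u i i : G) * g⁻¹ = g * (d.u d.c 0 : G) * g⁻¹ := by rw [hfix, he]
    have h3 : d.u i i = d.u d.c 0 := Subtype.ext (by simpa using h2)
    obtain ⟨⟨a, ha⟩, ⟨b, hb⟩⟩ := d.u_eq_iff.mp h3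
    exact d.not_dvd_c ⟨b - a, by linarith⟩
  -- so `g` fixes `u c 0`
  obtain ⟨l, rfl⟩ := hp1
  have hc1 : g * (d.u d.c 0 : G) * g⁻¹ = (d.u d.c 0 : G) := by
    have e2 : d.u i j = d.u d.c 0 * d.u j j := by
      rw [d.u_mul_u, zero_add, d.u_eq_iff]
      exact ⟨⟨l, by linarith⟩, by simp⟩
    obtain ⟨k, hk⟩ := IsPGroup.iff_orderOf.mp d.isPGroup (d.u j j)
    refine fix_step hodd (hfix j) (k := k) ?_ ?_
    · rw [← Subgroup.coe_pow, ← hk, pow_orderOf_eq_one, Subgroup.coe_one]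
    · rw [← he, e2, Subgroup.coe_mul]
  have hA : ∀ a b : ℤ, d.c ∣ a - b → g * (d.u a b : G) * g⁻¹ = d.u a b := by
    intro a b ⟨r, hr⟩
    have e3 : d.u a b = d.u d.c 0 ^ r * d.u b b := by
      rw [d.u_zpow, d.u_mul_u, d.u_eq_iff]
      exact ⟨⟨0, by linarith⟩, ⟨0, by ring⟩⟩
    rw [e3, Subgroup.coe_mul, Subgroup.coe_zpow, ← conj_mul, ← conj_zpow, hc1, hfix]
  refine Subgroup.mem_centralizer_iff.mpr ?_
  rintro _ ⟨v, hv, rfl⟩
  refine (mul_inv_eq_iff_eq_mul.mp ?_).symm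
  obtain ⟨a, b, ⟨hab, rfl⟩ | ⟨hab, rfl⟩⟩ := hv
  · exact hA a b hab
  · have hvq : d.u a b * d.z ∈ d.qz e := d.uz_mem_qz.mpr hab
    obtain ⟨v', hv', hve⟩ := hE _ hvq
    obtain ⟨a', b', hv'' | hv''⟩ := d.cases' v'
    · exfalso
      subst hv''
      have h3 := hA a' b' (d.u_mem_qz.mp hv')
      rw [hve] at h3
      have h4 : d.u a b * d.z = d.u a' b' := Subtype.ext (by
        rw [hve]; simpa using h3.symm)
      exact d.u_ne_uz _ _ _ _ h4.symm
    · subst hv''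
      have hdiff : d.c ∣ (a' - a) - (b' - b) := by
        obtain ⟨r, hr⟩ := d.uz_mem_qz.mp hv'
        obtain ⟨r', hr'⟩ := hab
        exact ⟨r - r', by linarith⟩
      have e4 : d.u a' b' * d.z = d.u a b * d.z * d.u (b' - b) (a' - a) := by
        rw [d.uz_mul_u, mul_left_inj]
        congr 1 <;> ring
      obtain ⟨k, hk⟩ := IsPGroup.iff_orderOf.mp d.isPGroup (d.u (b' - b) (a' - a))
      refine fix_step hodd (hA _ _ (dvd_sub_comm.mp hdiff)) (k := k) ?_ ?_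
      · rw [← Subgroup.coe_pow, ← hk, pow_orderOf_eq_one, Subgroup.coe_one]
      · show g * ((d.u a b * d.z : (S : Subgroup G)) : G) * g⁻¹ = _
        rw [← hve, e4]; rfl

/-- An element of odd order moving `qz e` maps an involution of the base outside. -/
theorem qz_mover_out {e : ℤ} {g : G} (hg : g ∈ Subgroup.normalizer (d.qzG e : Set G))
    (hodd : Odd (orderOf g)) (hgC : g ∉ Subgroup.centralizer (d.qzG e : Set G)) :
    ∃ w ∈ d.qz e, w ∉ d.base ∧ (w : G) = g * (d.u d.c 0 : G) * g⁻¹ := by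
  obtain ⟨w, hw, he⟩ := d.qz_conj_mem hg (d.u_mem_qz.mpr (by simp) : d.u d.c 0 ∈ d.qz e)
  exact ⟨w, hw, fun hwb => hgC (d.qz_centralize hg hodd hw hwb he), he⟩

/-- An element of odd order moving `qz e` fuses the two classes of noncentral involutions. -/
theorem qz_mover {e : ℤ}
    (h : (d.qzG e ⊔ Subgroup.centralizer (d.qzG e : Set G)).relIndex
      (Subgroup.normalizer (d.qzG e : Set G)) = 6)
    (hn : ((d.qzG e ⊔ Subgroup.centralizer (d.qzG e : Set G)).subgroupOf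
      (Subgroup.normalizer (d.qzG e : Set G))).Normal) :
    IsConj (d.u d.c 0 : G) (d.u 0 0 * d.z : (S : Subgroup G)) := by
  obtain ⟨g, hg, hodd, hgC⟩ := exists_odd_notMem h
  obtain ⟨w, hw, hwb, hwe⟩ := d.qz_mover_out hg hodd (fun hc => hgC (Subgroup.mem_sup_right hc))
  have h2 : orderOf w = 2 := by
    rw [← Subgroup.orderOf_coe, hwe, ← MulAut.conj_apply, MulEquiv.orderOf_eq, Subgroup.orderOf_coe]
    refine orderOf_eq_prime ?_ fun h => d.not_dvd_c (d.u_eq_one_iff.mp h).1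
    rw [pow_two, d.u_mul_u, d.u_eq_one_iff]
    exact ⟨⟨1, by ring⟩, by simp⟩
  obtain ⟨i, j, rfl⟩ := d.notMem_iff hwb
  refine (isConj_iff.mpr ⟨g, hwe.symm⟩ : IsConj (d.u d.c 0 : G) _).trans (isConj_coe ?_)
  refine IsConj.symm (isConj_iff.mpr ⟨d.u i 0, ?_⟩)
  rw [d.conj_uz, mul_left_inj, d.u_eq_iff]
  refine ⟨by simp, ?_⟩
  rw [show (0 : ℤ) + (0 - i) - j = -(i + j) by ring, dvd_neg]
  exact d.orderOf_uz_two.mp h2

/-- A relation refining fusion: only `S`, the base and the groups `qz e` must be checked. -/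
theorem fusion (R : G → G → Prop) (hrefl : ∀ a, R a a) (htrans : ∀ a b c, R a b → R b c → R a c)
    (hS : ∀ a ∈ (S : Subgroup G), ∀ s ∈ (S : Subgroup G), R a (s * a * s⁻¹))
    (hB : ∀ m ∈ Subgroup.normalizer (d.baseG : Set G), ∀ a ∈ d.baseG, R a (m * a * m⁻¹))
    (hQ : ∀ e, ∀ m ∈ Subgroup.normalizer (d.qzG e : Set G), ∀ a ∈ d.qzG e, R a (m * a * m⁻¹))
    {a g : G} (ha : a ∈ (S : Subgroup G)) (hg : g * a * g⁻¹ ∈ (S : Subgroup G)) :
    R a (g * a * g⁻¹) := by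
  have : Fact (Nat.Prime 2) := ⟨Nat.prime_two⟩
  refine fusion_invariant S R hrefl htrans hS (fun E hES hEc hEA => ?_) ha hg
  have hE : (E.subgroupOf (S : Subgroup G)).map (S : Subgroup G).subtype = E := by
    rw [Subgroup.subgroupOf_map_subtype, inf_eq_left.mpr hES]
  rcases d.classify (E.subgroupOf (S : Subgroup G))
    (fun s hs => hEc s s.2 (Subgroup.mem_centralizer_iff.mpr fun v hv =>
      congrArg Subtype.val (Subgroup.mem_centralizer_iff.mp hs ⟨v, hES hv⟩ hv)))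
    (fun h => hEA (isPGroup_mulAut_congr (Subgroup.subgroupOfEquivOfLe hES) h)) with he | ⟨e, he⟩
  · have e1 : E = d.baseG := by rw [baseG, ← he, hE]
    rw [e1]; exact hB
  · have e1 : E = d.qzG e := by rw [qzG, ← he, hE]
    rw [e1]; exact hQ e

theorem base_invariant (hQ : ∀ e, ActsLike (S : Subgroup G) (d.qzG e)) {a g : G}
    (ha : a ∈ (S : Subgroup G)) (hg : g * a * g⁻¹ ∈ (S : Subgroup G)) :
    g * a * g⁻¹ ∈ d.baseG ↔ a ∈ d.baseG := by
  have hS : ∀ b ∈ (S : Subgroup G), ∀ s ∈ (S : Subgroup G), s * b * s⁻¹ ∈ d.baseG ↔ b ∈ d.baseG := by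
    intro b hb s hs
    refine ((d.coe_mem_baseG (v := ⟨s, hs⟩ * ⟨b, hb⟩ * ⟨s, hs⟩⁻¹)).trans ?_).trans
      (d.coe_mem_baseG (v := ⟨b, hb⟩)).symm
    exact ⟨fun h => by
      have := d.base_normal.conj_mem _ h (⟨s, hs⟩ : (S : Subgroup G))⁻¹
      rwa [show ∀ x y : (S : Subgroup G), x⁻¹ * (x * y * x⁻¹) * x⁻¹⁻¹ = y from fun x y => by group] at this,
      fun h => d.base_normal.conj_mem _ h _⟩
  refine d.fusion (fun u v => v ∈ d.baseG ↔ u ∈ d.baseG) (fun _ => Iff.rfl)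
    (fun _ _ _ h1 h2 => h2.trans h1) hS (fun m hm b hb => ?_) (fun e m hm b hb => ?_) ha hg
  · exact iff_of_true ((Subgroup.mem_normalizer_iff.mp hm b).mp hb) hb
  · obtain ⟨s, hs, he⟩ := hQ e m hm
    rw [he b hb]
    exact hS b (Subgroup.map_subtype_le _ hb) s hs

end CfsgLib.SmallTwo.WR
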