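import Cfsg.Agent.Lib.SmallTwo.WRFusion

/-!
The fusion types of groups with wreathed Sylow 2-subgroups.
-/

set_option autoImplicit false

namespace CfsgLib.SmallTwo.WR

open CfsgLib.Transfer

variable {G : Type*} [Group G] [Finite G] {S : Sylow 2 G} {n : ℕ} (d : WR (S : Subgroup G) n)

theorem sup_centralizer_normal (E : Subgroup G) :
    ((E ⊔ Subgroup.centralizer (E : Set G)).subgroupOf (Subgroup.normalizer (E : Set G))).Normal := by
  refine Subgroup.normal_subgroupOf_of_le_normalizer ?_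
  intro g hg
  refine Subgroup.mem_normalizer_fintype ?_
  intro v hv
  have hv' : MulAut.conj g v ∈ (E ⊔ Subgroup.centralizer (E : Set G)).map (MulAut.conj g).toMonoidHom :=
    ⟨v, hv, rfl⟩
  rw [Subgroup.map_sup, map_conj_eq_self_iff.mpr hg] at hv'
  refine (show _ ≤ E ⊔ Subgroup.centralizer (E : Set G) from sup_le le_sup_left ?_) hv'
  rintro _ ⟨c, hc, rfl⟩
  refine Subgroup.mem_sup_right (Subgroup.mem_centralizer_iff.mpr fun a ha => ?_)
  have ha' := (Subgroup.mem_normalizer_iff.mp (inv_mem hg) a).mp ha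
  have h1 := Subgroup.mem_centralizer_iff.mp hc _ ha'
  show a * (g * c * g⁻¹) = g * c * g⁻¹ * a
  calc a * (g * c * g⁻¹) = g * (g⁻¹ * a * g⁻¹⁻¹ * c) * g⁻¹ := by group
    _ = g * (c * (g⁻¹ * a * g⁻¹⁻¹)) * g⁻¹ := by rw [h1]
    _ = _ := by group

theorem no_index_two_of_kernel {K : Subgroup G} [K.Normal] {M : Subgroup (S : Subgroup G)}
    (hKS : ∀ s : (S : Subgroup G), (s : G) ∈ K ↔ s ∈ M)
    (hconj : ∀ L : Subgroup (S : Subgroup G),
      (∀ a ∈ M, ∀ b ∈ M, (a * b ∈ L ↔ (a ∈ L ↔ b ∈ L))) →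
      (∀ a ∈ M, ∀ b ∈ M, OddConj (a : G) (b : G) → (a ∈ L ↔ b ∈ L)) → M ≤ L)
    (hodd : ∀ g : G, Odd (orderOf g) → g ∈ K) (H : Subgroup K) : H.index ≠ 2 := by
  intro hH
  obtain ⟨s, hs, hsH⟩ := exists_sylow_notMem S K H hH
  set L : Subgroup (S : Subgroup G) := (H.map K.subtype).subgroupOf S
  have hL : ∀ (a : (S : Subgroup G)) (h : (a : G) ∈ K), a ∈ L ↔ (⟨(a : G), h⟩ : K) ∈ H := fun a h =>
    Subgroup.mem_subgroupOf.trans
      (Subgroup.mem_map_iff_mem (K := H) K.subtype_injective (x := (⟨(a : G), h⟩ : K)))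
  have key := hconj L (fun a ha b hb => by
      rw [hL a ((hKS a).mpr ha), hL b ((hKS b).mpr hb), hL (a * b) ((hKS _).mpr (mul_mem ha hb))]
      exact Subgroup.mul_mem_iff_of_index_two hH (a := ⟨(a : G), (hKS a).mpr ha⟩)
        (b := ⟨(b : G), (hKS b).mpr hb⟩))
    (fun a ha b hb h => by
      rw [hL a ((hKS a).mpr ha), hL b ((hKS b).mpr hb)]
      exact mem_iff_of_oddConj hodd hH h)
  exact hsH ((hL ⟨s, hs⟩ s.2).mp (key ((hKS ⟨s, hs⟩).mp s.2)))

include d

theorem base_le {L : Subgroup (S : Subgroup G)}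
    (hmul : ∀ a ∈ d.base, ∀ b ∈ d.base, (a * b ∈ L ↔ (a ∈ L ↔ b ∈ L)))
    {i j k l : ℤ} (hi : Even i) (hj : Odd j) (hk : Odd k) (hl : Odd l)
    (h1 : d.u 1 0 ∈ L ↔ d.u i j ∈ L) (h2 : d.u 1 0 ∈ L ↔ d.u k l ∈ L) : d.base ≤ L := by
  have hm : ∀ a b a' b' : ℤ, d.u (a + a') (b + b') ∈ L ↔ (d.u a b ∈ L ↔ d.u a' b' ∈ L) := by
    intro a b a' b'
    rw [← d.u_mul_u]
    exact hmul _ (d.u_mem_base a b) _ (d.u_mem_base a' b')
  have heven : ∀ a b : ℤ, Even a → Even b → d.u a b ∈ L := by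
    rintro a b ⟨a', rfl⟩ ⟨b', rfl⟩
    rw [hm]
  have e1 : d.u i j ∈ L ↔ d.u 0 1 ∈ L := by
    have h := hm 0 1 i (j - 1)
    rw [zero_add, add_sub_cancel, iff_true_right (heven _ _ hi (hj.sub_odd odd_one))] at h
    exact h
  have e2 : d.u k l ∈ L ↔ (d.u 1 0 ∈ L ↔ d.u 0 1 ∈ L) := by
    have h := hm 1 1 (k - 1) (l - 1)
    rw [add_sub_cancel, add_sub_cancel,
      iff_true_right (heven _ _ (hk.sub_odd odd_one) (hl.sub_odd odd_one))] at h
    refine h.trans ?_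
    simpa using hm 1 0 0 1
  have h10 : d.u 1 0 ∈ L := by
    have h3 := h1.trans e1
    exact (h2.trans e2).mpr h3
  have h01 : d.u 0 1 ∈ L := (h1.trans e1).mp h10
  rintro g ⟨a, b, rfl⟩
  rw [show d.u a b = d.u 1 0 ^ a * d.u 0 1 ^ b by
    rw [d.u_zpow, d.u_zpow, d.u_mul_u]; simp]
  exact mul_mem (zpow_mem h10 a) (zpow_mem h01 b)

theorem base_le_of_movers
    (hU : (Subgroup.centralizer (d.baseG : Set G)).relIndex (Subgroup.normalizer (d.baseG : Set G)) = 6)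
    {L : Subgroup (S : Subgroup G)} (hmul : ∀ a ∈ d.base, ∀ b ∈ d.base, (a * b ∈ L ↔ (a ∈ L ↔ b ∈ L)))
    (hconj : ∀ a ∈ d.base, ∀ b ∈ d.base, OddConj (a : G) (b : G) → (a ∈ L ↔ b ∈ L)) :
    d.base ≤ L := by
  have hne : ∀ r s : ℤ, Odd s → (d.u (d.c * r) (d.c * s) : G) ≠ 1 := fun r s hs e => by
    obtain ⟨t, rfl⟩ := hs
    obtain ⟨k, hk⟩ := (d.u_eq_one_iff.mp (Subtype.ext e)).2
    exact d.not_dvd_c ⟨k - t, by linarith⟩
  obtain ⟨i, j, h1, hi, hj⟩ := (d.base_movers hU).2 0 1 (hne 0 1 odd_one)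
  obtain ⟨k, l, h2, hk, hl⟩ := (d.base_movers hU).2 1 1 (hne 1 1 odd_one)
  refine d.base_le hmul (i := i) (j := j) (k := k) (l := l) (hi.mpr Even.zero) ?_ ?_ ?_
    (hconj _ (d.u_mem_base _ _) _ (d.u_mem_base _ _) h1)
    (hconj _ (d.u_mem_base _ _) _ (d.u_mem_base _ _) h2)
  · exact Int.not_even_iff_odd.mp fun h => Int.not_even_one (hj.mp h)
  · exact Int.not_even_iff_odd.mp fun h => Int.not_even_one (hk.mp h)
  · exact Int.not_even_iff_odd.mp fun h => Int.not_even_one (hl.mp h)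

theorem orderOf_uc {k l : ℤ} (h : Odd k ∨ Odd l) : orderOf (d.u (d.c * k) (d.c * l) : G) = 2 := by
  rw [Subgroup.orderOf_coe]
  refine orderOf_eq_prime ?_ fun e => ?_
  · rw [pow_two, d.u_mul_u, d.u_eq_one_iff]
    exact ⟨⟨k, by ring⟩, ⟨l, by ring⟩⟩
  · obtain ⟨⟨p, hp⟩, ⟨r, hr⟩⟩ := d.u_eq_one_iff.mp e
    rcases h with ⟨t, rfl⟩ | ⟨t, rfl⟩
    · exact d.not_dvd_c ⟨p - t, by linarith⟩
    · exact d.not_dvd_c ⟨r - t, by linarith⟩

theorem orderOf_a : orderOf (d.u d.c 0 : G) = 2 := by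
  simpa using d.orderOf_uc (k := 1) (l := 0) (Or.inl odd_one)

theorem orderOf_b : orderOf (d.u d.c d.c : G) = 2 := by
  simpa using d.orderOf_uc (k := 1) (l := 1) (Or.inl odd_one)

theorem orderOf_zG : orderOf ((d.u 0 0 * d.z : (S : Subgroup G)) : G) = 2 := by
  rw [Subgroup.orderOf_coe]; exact d.orderOf_uz_two.mpr (by simp)

theorem sylow_involution {s : G} (hs : s ∈ (S : Subgroup G)) (h2 : orderOf s = 2) :
    IsConj s ((d.u 0 0 * d.z : (S : Subgroup G)) : G) ∨ IsConj s (d.u d.c 0 : G) ∨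
      IsConj s (d.u d.c d.c : G) :=
  (d.involution_cases (t := ⟨s, hs⟩) (by rw [← Subgroup.orderOf_coe]; exact h2)).imp
    isConj_coe (Or.imp isConj_coe isConj_coe)

theorem not_isConj_z (hQ : ∀ e, ActsLike (S : Subgroup G) (d.qzG e)) (i j : ℤ) :
    ¬ IsConj (d.u i j : G) ((d.u 0 0 * d.z : (S : Subgroup G)) : G) := by
  intro h
  obtain ⟨g, hg⟩ := isConj_iff.mp h
  have := d.base_invariant hQ (d.u i j).2 (g := g) (hg ▸ (d.u 0 0 * d.z).2)
  rw [hg, d.coe_mem_baseG, d.coe_mem_baseG] at this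
  exact d.uz_notMem 0 0 (this.mpr (d.u_mem_base i j))

theorem type_six_six {e₀ : ℤ}
    (hU : (Subgroup.centralizer (d.baseG : Set G)).relIndex (Subgroup.normalizer (d.baseG : Set G)) = 6)
    (hE : (d.qzG e₀ ⊔ Subgroup.centralizer (d.qzG e₀ : Set G)).relIndex
      (Subgroup.normalizer (d.qzG e₀ : Set G)) = 6) :
    (∀ H : Subgroup G, H.index ≠ 2) ∧
      Nat.card {C : ConjClasses G // ∃ t : G, orderOf t = 2 ∧ ConjClasses.mk t = C} = 1 := by
  have hz := d.qz_mover hE (sup_centralizer_normal _)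
  constructor
  · intro H hH
    obtain ⟨s, hs, hsH⟩ := exists_sylow_notMem' S H hH
    set L : Subgroup (S : Subgroup G) := H.subgroupOf S
    have hc : ∀ a b : (S : Subgroup G), IsConj (a : G) b → (a ∈ L ↔ b ∈ L) := fun a b h =>
      mem_iff_of_conj hH h
    have hb := d.base_le_of_movers hU (L := L)
      (fun a _ b _ => Subgroup.mul_mem_iff_of_index_two hH)
      (fun a _ b _ h => hc a b h.isConj)
    have hzL : d.u 0 0 * d.z ∈ L := (hc _ _ hz).mp (hb (d.u_mem_base _ _))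
    have : L = ⊤ := d.eq_top_of_mem (hb (d.u_mem_base 1 0)) (by rwa [← d.z_eq] at hzL)
    exact hsH (show (⟨s, hs⟩ : (S : Subgroup G)) ∈ L from this ▸ Subgroup.mem_top _)
  · have key := one_class S (k := 1) (a := (d.u d.c 0 : G)) (by rw [pow_one]; exact d.orderOf_a)
      (fun s hs h2 => by
        rw [pow_one] at h2
        rcases d.sylow_involution hs h2 with h | h | h
        · exact h.trans hz.symm
        · exact h
        · exact h.trans (d.base_movers hU).1.isConj.symm)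
    simpa only [pow_one] using key

theorem type_six_two {e₀ : ℤ}
    (hU : (Subgroup.centralizer (d.baseG : Set G)).relIndex (Subgroup.normalizer (d.baseG : Set G)) = 6)
    (hE : (d.qzG e₀ ⊔ Subgroup.centralizer (d.qzG e₀ : Set G)).relIndex
      (Subgroup.normalizer (d.qzG e₀ : Set G)) = 2) :
    (∃ K : Subgroup G, K.Normal ∧ K.index = 2 ∧ d.baseG ≤ K ∧ (∀ H : Subgroup ↥K, H.index ≠ 2)) ∧
      Nat.card {C : ConjClasses G // ∃ t : G, orderOf t = 2 ∧ ConjClasses.mk t = C} = 2 := by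
  have hQ := d.actsLike_qz hE
  constructor
  · obtain ⟨K, hKn, hK2, hKS, hodd⟩ := exists_index_two S d.baseG (Subgroup.map_subtype_le _) (by
      rw [baseG, Subgroup.relIndex, Subgroup.subgroupOf, Subgroup.comap_map_eq_self_of_injective
        (S : Subgroup G).subtype_injective, d.index_base])
      (fun a ha g hg => d.base_invariant hQ ha hg)
    refine ⟨K, hKn, hK2, fun v hv => (hKS v (Subgroup.map_subtype_le _ hv)).mpr hv,
      no_index_two_of_kernel (M := d.base) (fun s => (hKS s s.2).trans d.coe_mem_baseG)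
        (fun L hmul hconj => d.base_le_of_movers hU hmul hconj) hodd⟩
  · have key := two_classes_of S (k := 1) (a := (d.u d.c 0 : G))
      (b := ((d.u 0 0 * d.z : (S : Subgroup G)) : G)) (by rw [pow_one]; exact d.orderOf_a)
      (by rw [pow_one]; exact d.orderOf_zG) (d.not_isConj_z hQ _ _) (fun s hs h2 => by
        rw [pow_one] at h2
        rcases d.sylow_involution hs h2 with h | h | h
        · exact Or.inr h
        · exact Or.inl h
        · exact Or.inl (h.trans (d.base_movers hU).1.isConj.symm))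
    simpa only [pow_one] using key

theorem type_two_two {e₀ : ℤ}
    (hU : (Subgroup.centralizer (d.baseG : Set G)).relIndex (Subgroup.normalizer (d.baseG : Set G)) = 2)
    (hE : (d.qzG e₀ ⊔ Subgroup.centralizer (d.qzG e₀ : Set G)).relIndex
      (Subgroup.normalizer (d.qzG e₀ : Set G)) = 2) :
    Cfsg.HasNormalPComplement 2 G ∧
      Nat.card {C : ConjClasses G // ∃ t : G, orderOf t = 2 ∧ ConjClasses.mk t = C} = 3 := by
  have : Fact (Nat.Prime 2) := ⟨Nat.prime_two⟩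
  have hQ := d.actsLike_qz hE
  have hB := d.actsLike_base hU
  have ctl : ∀ a ∈ (S : Subgroup G), ∀ g : G, g * a * g⁻¹ ∈ (S : Subgroup G) →
      ∃ z ∈ (S : Subgroup G), z * a * z⁻¹ = g * a * g⁻¹ := by
    intro a ha g hg
    refine d.fusion (fun u v => u ∈ (S : Subgroup G) → ∃ z ∈ (S : Subgroup G), z * u * z⁻¹ = v)
      (fun u _ => ⟨1, one_mem _, by simp⟩) (fun u v w h1 h2 hu => ?_) (fun u _ s hs _ => ⟨s, hs, rfl⟩)
      (fun m hm u hu _ => ?_) (fun e m hm u hu _ => ?_) ha hg ha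
    · obtain ⟨y, hy, rfl⟩ := h1 hu
      obtain ⟨z, hz, rfl⟩ := h2 (mul_mem (mul_mem hy hu) (inv_mem hy))
      exact ⟨z * y, mul_mem hz hy, by group⟩
    · obtain ⟨s, hs, he⟩ := hB m hm
      exact ⟨s, hs, (he u hu).symm⟩
    · obtain ⟨s, hs, he⟩ := hQ e m hm
      exact ⟨s, hs, (he u hu).symm⟩
  refine ⟨hasNormalPComplement_of_no_fusion S ctl, ?_⟩
  have hab : ¬ IsConj (d.u d.c 0 : G) (d.u d.c d.c : G) := fun h => by
    obtain ⟨g, hg⟩ := isConj_iff.mp h.symm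
    obtain ⟨s, hs, he⟩ := ctl _ (d.u d.c d.c).2 g (hg ▸ (d.u d.c 0).2)
    rw [hg] at he
    have h1 : (⟨s, hs⟩ : (S : Subgroup G)) * d.u d.c d.c * ⟨s, hs⟩⁻¹ = d.u d.c 0 := Subtype.ext he
    rw [Subgroup.mem_center_iff.mp (d.mem_center_iff.mpr ⟨d.c, rfl⟩) ⟨s, hs⟩, mul_inv_cancel_right,
      d.u_eq_iff, sub_zero] at h1
    exact d.not_dvd_c h1.2
  have key := three_classes_of S (k := 1) (a := (d.u d.c 0 : G)) (b := (d.u d.c d.c : G))
    (c := ((d.u 0 0 * d.z : (S : Subgroup G)) : G)) (by rw [pow_one]; exact d.orderOf_a)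
    (by rw [pow_one]; exact d.orderOf_b) (by rw [pow_one]; exact d.orderOf_zG) hab
    (d.not_isConj_z hQ _ _) (d.not_isConj_z hQ _ _) (fun s hs h2 => by
      rw [pow_one] at h2
      rcases d.sylow_involution hs h2 with h | h | h
      · exact Or.inr (Or.inr h)
      · exact Or.inl h
      · exact Or.inr (Or.inl h))
  simpa only [pow_one] using key

end CfsgLib.SmallTwo.WR
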