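import Cfsg.Agent.Lib.SmallTwo.WreathedBasic
import Cfsg.Agent.Lib.SmallTwo.DihedralRec
import Cfsg.Agent.Lib.Classical.QuaternionRec

/-!
Subgroups and classes of wreathed 2-groups.
-/

set_option autoImplicit false

namespace CfsgLib.SmallTwo.WR

variable {S : Type*} [Group S] [Finite S] {n : ℕ} (d : WR S n)

include d

theorem conj_z (i j : ℤ) : d.z * d.u i j * d.z⁻¹ = d.u j i := by
  rw [d.z_mul_u, mul_inv_cancel_right]

theorem orderOf_u_two {i j : ℤ} (h : orderOf (d.u i j) = 2) : d.c ∣ i ∧ d.c ∣ j := by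
  have := pow_orderOf_eq_one (d.u i j)
  rw [h, pow_two, d.u_mul_u, d.u_eq_one_iff] at this
  obtain ⟨⟨a, ha⟩, ⟨b, hb⟩⟩ := this
  exact ⟨⟨a, by linarith⟩, ⟨b, by linarith⟩⟩

theorem u_half_cases {i : ℤ} (h : d.c ∣ i) : ∃ k : ℤ, (k = 0 ∨ k = 1) ∧ 2 * d.c ∣ i - d.c * k := by
  obtain ⟨a, rfl⟩ := h
  rcases Int.even_or_odd' a with ⟨b, rfl | rfl⟩
  · exact ⟨0, Or.inl rfl, b, by ring⟩
  · exact ⟨1, Or.inr rfl, b, by ring⟩

theorem not_dvd_c : ¬ 2 * d.c ∣ d.c := fun h => by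
  have := d.c_pos
  have := Int.le_of_dvd this h
  omega

theorem three_classes :
    Nat.card {C : ConjClasses S // ∃ t : S, orderOf t = 2 ∧ ConjClasses.mk t = C} = 3 := by
  have hz : orderOf (d.u 0 0 * d.z) = 2 := d.orderOf_uz_two.mpr (by simp)
  have hu : ∀ i j : ℤ, d.c ∣ i → d.c ∣ j → d.u i j ≠ 1 → orderOf (d.u i j) = 2 := by
    intro i j hi hj h
    refine orderOf_eq_prime ?_ h
    rw [pow_two, d.u_mul_u, d.u_eq_one_iff]
    obtain ⟨⟨a, rfl⟩, ⟨b, rfl⟩⟩ := And.intro hi hj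
    exact ⟨⟨a, by ring⟩, ⟨b, by ring⟩⟩
  have ha : orderOf (d.u d.c 0) = 2 := hu _ _ dvd_rfl (dvd_zero _)
    fun h => d.not_dvd_c (d.u_eq_one_iff.mp h).1
  have hb : orderOf (d.u d.c d.c) = 2 := hu _ _ dvd_rfl dvd_rfl
    fun h => d.not_dvd_c (d.u_eq_one_iff.mp h).1
  have hcen : d.u d.c d.c ∈ Subgroup.center S := d.mem_center_iff.mpr ⟨_, rfl⟩
  have hconj : ∀ g : S, g * d.u d.c 0 * g⁻¹ = d.u d.c 0 ∨ g * d.u d.c 0 * g⁻¹ = d.u 0 d.c := by
    intro g
    obtain ⟨i, j, rfl | rfl⟩ := d.cases' g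
    · left; rw [d.u_mul_u, d.u_inv, d.u_mul_u, d.u_eq_iff]; constructor <;> exact ⟨0, by ring⟩
    · right; rw [d.uz_inv, d.uz_mul_u, d.uz_mul_uz, d.u_eq_iff]; constructor <;> exact ⟨0, by ring⟩
  let f : Fin 3 → {C : ConjClasses S // ∃ t : S, orderOf t = 2 ∧ ConjClasses.mk t = C} :=
    ![⟨_, _, hz, rfl⟩, ⟨_, _, ha, rfl⟩, ⟨_, _, hb, rfl⟩]
  have hbe : ∀ t : S, IsConj (d.u d.c d.c) t → t = d.u d.c d.c := by
    intro t ht
    obtain ⟨g, rfl⟩ := isConj_iff.mp ht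
    rw [Subgroup.mem_center_iff.mp hcen g, mul_inv_cancel_right]
  have h01 : ¬ IsConj (d.u d.c 0) (d.u 0 0 * d.z) := by
    rintro h
    obtain ⟨g, hg⟩ := isConj_iff.mp h
    rcases hconj g with e | e <;> rw [e] at hg <;> exact d.u_ne_uz _ _ _ _ hg
  have h02 : d.u 0 0 * d.z ≠ d.u d.c d.c := (d.u_ne_uz _ _ _ _).symm
  have h12 : d.u d.c 0 ≠ d.u d.c d.c := fun h => d.not_dvd_c (by
    simpa using (d.u_eq_iff.mp h).2)
  rw [← Nat.card_congr (Equiv.ofBijective f ⟨?_, ?_⟩), Nat.card_fin]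
  · intro a b h
    fin_cases a <;> fin_cases b <;>
      simp only [f, Subtype.mk.injEq, ConjClasses.mk_eq_mk_iff_isConj, Matrix.cons_val_zero,
        Matrix.cons_val_one, Matrix.cons_val, Fin.isValue, Fin.zero_eta, Fin.mk_one, Fin.reduceFinMk] at h ⊢
    · exact absurd h.symm h01
    · exact absurd (hbe _ h.symm) h02
    · exact absurd h h01
    · exact absurd (hbe _ h.symm) h12
    · exact absurd (hbe _ h) h02
    · exact absurd (hbe _ h) h12
  · rintro ⟨C, t, ht, rfl⟩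
    obtain ⟨i, j, rfl | rfl⟩ := d.cases' t
    · obtain ⟨hi, hj⟩ := d.orderOf_u_two ht
      obtain ⟨⟨k, hk, hi'⟩, ⟨l, hl, hj'⟩⟩ := And.intro (d.u_half_cases hi) (d.u_half_cases hj)
      have e : d.u i j = d.u (d.c * k) (d.c * l) := d.u_eq_iff.mpr ⟨hi', hj'⟩
      rcases hk with rfl | rfl <;> rcases hl with rfl | rfl <;>
        simp only [mul_zero, mul_one] at e
      · rw [e, d.u_zero, orderOf_one] at ht
        omega
      · refine ⟨1, Subtype.ext (ConjClasses.mk_eq_mk_iff_isConj.mpr ?_)⟩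
        rw [e]
        exact isConj_iff.mpr ⟨d.z, d.conj_z _ _⟩
      · exact ⟨1, Subtype.ext (ConjClasses.mk_eq_mk_iff_isConj.mpr (by rw [e]))⟩
      · exact ⟨2, Subtype.ext (ConjClasses.mk_eq_mk_iff_isConj.mpr (by rw [e]))⟩
    · refine ⟨0, Subtype.ext (ConjClasses.mk_eq_mk_iff_isConj.mpr (isConj_iff.mpr ⟨d.u i 0, ?_⟩))⟩
      rw [d.conj_uz, mul_left_inj, d.u_eq_iff]
      refine ⟨by simp, ?_⟩
      rw [show (0 : ℤ) + (0 - i) - j = -(i + j) by ring, dvd_neg]
      exact d.orderOf_uz_two.mp ht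

theorem center_eq : Subgroup.center S = Subgroup.zpowers (d.u 1 1) := by
  ext g
  rw [d.mem_center_iff, Subgroup.mem_zpowers_iff]
  simp [d.u_zpow, eq_comm]

theorem orderOf_u_one {j : ℤ} : orderOf (d.u 1 j) = 2 ^ n := by
  refine Nat.dvd_antisymm ?_ ?_
  · apply orderOf_dvd_of_pow_eq_one
    rw [← zpow_natCast, d.order_int, d.u_zpow, d.u_eq_one_iff]
    exact ⟨⟨1, by ring⟩, ⟨j, by ring⟩⟩
  · have h := pow_orderOf_eq_one (d.u 1 j)
    rw [← zpow_natCast, d.u_zpow, d.u_eq_one_iff, mul_one] at h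
    exact_mod_cast (d.order_int ▸ h.1)

theorem mem_zpowers_anti {i j : ℤ} :
    d.u i j ∈ Subgroup.zpowers (d.u 1 (-1)) ↔ 2 * d.c ∣ i + j := by
  rw [Subgroup.mem_zpowers_iff]
  constructor
  · rintro ⟨k, hk⟩
    rw [d.u_zpow, d.u_eq_iff] at hk
    have := dvd_add hk.1 hk.2
    rw [show k * 1 - i + (k * -1 - j) = -(i + j) by ring, dvd_neg] at this
    exact this
  · intro h
    refine ⟨i, ?_⟩
    rw [d.u_zpow, d.u_eq_iff]
    exact ⟨by simp, by rw [show i * -1 - j = -(i + j) by ring, dvd_neg]; exact h⟩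

theorem commutator_eq : commutator S = Subgroup.zpowers (d.u 1 (-1)) := by
  refine le_antisymm ?_ ?_
  · rw [commutator_def, Subgroup.commutator_le]
    intro a _ b _
    rw [commutatorElement_def]
    obtain ⟨i, j, rfl | rfl⟩ := d.cases' a <;> obtain ⟨k, l, rfl | rfl⟩ := d.cases' b <;>
      simp only [d.u_inv, d.uz_inv, d.u_mul_uz, d.uz_mul_u, d.u_mul_u, d.uz_mul_uz] <;>
      rw [d.mem_zpowers_anti] <;> exact ⟨0, by ring⟩
  · rw [Subgroup.zpowers_le]
    have h : d.u 1 0 * (d.u 0 0 * d.z) * (d.u 1 0)⁻¹ * (d.u 0 0 * d.z)⁻¹ ∈ commutator S :=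
      Subgroup.commutator_mem_commutator (Subgroup.mem_top _) (Subgroup.mem_top _)
    simp only [d.u_inv, d.uz_inv, d.u_mul_uz, d.uz_mul_u, d.uz_mul_uz] at h
    simpa using h

theorem eq_top_of_mem {H : Subgroup S} (hx : d.u 1 0 ∈ H) (hz : d.z ∈ H) : H = ⊤ := by
  refine eq_top_iff.mpr fun g _ => ?_
  have hy : d.u 0 1 ∈ H := by rw [← d.conj_z]; exact mul_mem (mul_mem hz hx) (inv_mem hz)
  have hu : ∀ i j : ℤ, d.u i j ∈ H := fun i j => by
    have := mul_mem (zpow_mem hx i) (zpow_mem hy j)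
    rwa [d.u_zpow, d.u_zpow, d.u_mul_u, mul_one, mul_zero, mul_zero, mul_one, add_zero,
      zero_add] at this
  obtain ⟨i, j, rfl | rfl⟩ := d.cases' g
  exacts [hu i j, mul_mem (hu i j) hz]

theorem quotient_center_iso : Nonempty (S ⧸ Subgroup.center S ≃* DihedralGroup (2 ^ n)) := by
  set Z := Subgroup.center S
  set π := QuotientGroup.mk' Z
  have ha : orderOf (π (d.u 1 0)) = 2 ^ n := by
    refine Nat.dvd_antisymm ?_ ?_
    · apply orderOf_dvd_of_pow_eq_one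
      rw [← zpow_natCast, ← map_zpow, d.order_int, d.u_zpow]
      rw [show d.u (2 * d.c * 1) (2 * d.c * 0) = 1 from d.u_eq_one_iff.mpr
        ⟨⟨1, by ring⟩, ⟨0, by ring⟩⟩, map_one]
    · have h := pow_orderOf_eq_one (π (d.u 1 0))
      rw [← map_pow, ← zpow_natCast, d.u_zpow] at h
      obtain ⟨k, hk⟩ := d.mem_center_iff.mp ((QuotientGroup.eq_one_iff _).mp h)
      obtain ⟨h1, h2⟩ := d.u_eq_iff.mp hk
      have h3 := dvd_sub h1 h2
      rw [mul_one, mul_zero, zero_sub, sub_neg_eq_add, sub_add_cancel, ← d.order_int] at h3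
      exact_mod_cast h3
  obtain ⟨f, hf, hr⟩ := exists_dihedral_hom_injective ha (b := π d.z)
    (by rw [← map_mul, d.zz, map_one]) (by
      rw [← map_inv, ← map_mul, ← map_mul, ← map_inv, d.conj_z, eq_comm]
      refine (QuotientGroup.eq).mpr (d.mem_center_iff.mpr ⟨1, ?_⟩)
      rw [inv_inv, d.u_mul_u]; simp)
    (by
      rintro ⟨k, hk⟩
      have hk' : π (d.u 1 0) ^ k = π d.z := hk
      rw [← map_zpow] at hk'
      obtain ⟨l, hl⟩ := d.mem_center_iff.mp ((QuotientGroup.eq).mp hk')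
      rw [d.u_zpow, d.u_inv, d.z_eq, d.u_mul_uz] at hl
      exact d.u_ne_uz _ _ _ _ hl.symm)
  have htop : f.range = ⊤ := by
    rw [hr]
    have h1 := d.eq_top_of_mem (H := (Subgroup.closure {π (d.u 1 0), π d.z}).comap π)
      (Subgroup.subset_closure (Set.mem_insert _ _))
      (Subgroup.subset_closure (Set.mem_insert_of_mem _ rfl))
    rw [eq_top_iff]
    intro q _
    obtain ⟨g, rfl⟩ := QuotientGroup.mk'_surjective Z q
    exact (h1.ge (Subgroup.mem_top g) : _)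
  exact ⟨(MulEquiv.ofBijective f ⟨hf, MonoidHom.range_eq_top.mp htop⟩).symm⟩

theorem base_normal : d.base.Normal := Subgroup.normal_of_index_eq_two d.index_base

theorem isMulCommutative_base : IsMulCommutative d.base :=
  ⟨⟨fun a b => Subtype.ext (by
    obtain ⟨i, j, hi⟩ := a.2
    obtain ⟨k, l, hk⟩ := b.2
    show (a : S) * b = b * a
    rw [hi, hk, d.u_mul_u, d.u_mul_u, add_comm, add_comm j])⟩⟩

theorem abelian_eq_base (A : Subgroup S) (hA : IsMulCommutative A)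
    (hc : Nat.card A = 2 ^ (2 * n)) : A = d.base := by
  by_contra hne
  have hnle : ¬ A ≤ d.base := fun hle =>
    hne (Subgroup.eq_of_le_of_card_ge hle (by rw [d.card_base, hc]))
  obtain ⟨a, ha, hab⟩ := Set.not_subset.mp hnle
  obtain ⟨i, j, rfl⟩ := d.notMem_iff hab
  have hle : A ⊓ d.base ≤ Subgroup.zpowers (d.u 1 1) := by
    rintro g ⟨hg, k, l, rfl⟩
    have hcm : Commute (d.u k l) (d.u i j * d.z) := congrArg Subtype.val
      (hA.is_comm.comm ⟨_, hg⟩ ⟨_, ha⟩)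
    refine ⟨k, ?_⟩
    show d.u 1 1 ^ k = d.u k l
    rw [d.u_zpow, d.u_eq_iff]
    exact ⟨by simp, by simpa using d.commute_u_uz.mp hcm⟩
  have h1 := Subgroup.card_le_of_le hle
  rw [Nat.card_zpowers, d.orderOf_u_one] at h1
  have hrel : d.base.relIndex A ≤ 2 := by
    have := d.base_normal
    rw [← d.index_base]
    exact Nat.le_of_dvd (by rw [d.index_base]; norm_num)
      (Subgroup.relIndex_dvd_index_of_normal d.base A)
  have h2 : Nat.card (A ⊓ d.base : Subgroup S) * d.base.relIndex A = Nat.card A := by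
    rw [← Nat.card_congr (Subgroup.subgroupOfEquivOfLe (inf_le_left : A ⊓ d.base ≤ A)).toEquiv,
      Subgroup.inf_subgroupOf_left]
    exact Subgroup.card_mul_index _
  have h3 : 2 ^ (2 * n) ≤ 2 ^ n * 2 := hc ▸ h2 ▸ Nat.mul_le_mul h1 hrel
  rw [← pow_succ] at h3
  have := (Nat.pow_le_pow_iff_right (by norm_num : 1 < 2)).mp h3
  have := d.hn
  omega

theorem center_of_nonabelian (X : Subgroup S) (hX : ¬ IsMulCommutative X) :
    (Subgroup.center X).map X.subtype ≤ Subgroup.center S := by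
  rintro _ ⟨⟨g, hg⟩, hgc, rfl⟩
  have hcomm : ∀ h ∈ X, Commute g h := fun h hh =>
    (congrArg Subtype.val (Subgroup.mem_center_iff.mp hgc ⟨h, hh⟩)).symm
  obtain ⟨w, hw, hwb⟩ : ∃ w ∈ X, w ∉ d.base := by
    by_contra h
    push Not at h
    refine hX ⟨⟨fun a b => Subtype.ext ?_⟩⟩
    show (a : S) * b = b * a
    exact congrArg (fun v : d.base => (v : S)) (d.isMulCommutative_base.is_comm.comm ⟨a, h a a.2⟩ ⟨b, h b b.2⟩)
  obtain ⟨i, j, rfl⟩ := d.notMem_iff hwb
  obtain ⟨a, b, rfl | rfl⟩ := d.cases' g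
  · refine d.mem_center_iff.mpr ⟨a, ?_⟩
    show d.u a b = d.u a a
    rw [d.u_eq_iff]
    exact ⟨by simp, dvd_sub_comm.mp (d.commute_u_uz.mp (hcomm _ hw))⟩
  · exfalso
    refine hX ⟨⟨fun p q => Subtype.ext ?_⟩⟩
    have hp : ∀ h ∈ X, ∃ k, ∃ e : ℕ, h = d.u k k * (d.u a b * d.z) ^ e := by
      intro h hh
      obtain ⟨k, l, rfl | rfl⟩ := d.cases' h
      · refine ⟨k, 0, ?_⟩
        rw [pow_zero, mul_one, d.u_eq_iff]
        exact ⟨by simp, dvd_sub_comm.mp (d.commute_u_uz.mp (hcomm _ hh).symm)⟩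
      · have hm : d.u k l * d.z * (d.u a b * d.z)⁻¹ = d.u (k - a) (l - b) := by
          rw [d.uz_inv, d.uz_mul_uz, sub_eq_add_neg, sub_eq_add_neg]
        have hc2 : Commute (d.u (k - a) (l - b)) (d.u a b * d.z) :=
          hm ▸ (hcomm _ hh).symm.mul_left (Commute.refl _).inv_left
        refine ⟨k - a, 1, ?_⟩
        rw [pow_one, d.u_mul_uz, mul_left_inj, d.u_eq_iff]
        exact ⟨by simp, by
          rw [show l - (k - a + b) = -((k - a) - (l - b)) by ring, dvd_neg]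
          exact d.commute_u_uz.mp hc2⟩
    obtain ⟨k, e, hpe⟩ := hp p p.2
    obtain ⟨l, e', hqe⟩ := hp q q.2
    show (p : S) * q = q * p
    rw [hpe, hqe]
    have hk : ∀ k : ℤ, ∀ s : S, Commute (d.u k k) s := fun k s =>
      (Subgroup.mem_center_iff.mp (d.mem_center_iff.mpr ⟨k, rfl⟩) s).symm
    exact ((hk k _).mul_left (((hk l _).symm).mul_right (Commute.pow_pow (Commute.refl _) e e'))).eq

/-- The subgroup generated by the involutions. -/
def omega : Subgroup S where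
  carrier := {g | ∃ i j : ℤ, d.c ∣ i + j ∧ (g = d.u i j ∨ g = d.u i j * d.z)}
  one_mem' := ⟨0, 0, by simp, Or.inl d.u_zero.symm⟩
  mul_mem' := by
    rintro a b ⟨i, j, hij, rfl | rfl⟩ ⟨k, l, hkl, rfl | rfl⟩
    · exact ⟨_, _, by rw [add_add_add_comm]; exact dvd_add hij hkl, Or.inl (d.u_mul_u ..)⟩
    · exact ⟨_, _, by rw [add_add_add_comm]; exact dvd_add hij hkl, Or.inr (d.u_mul_uz ..)⟩
    · refine ⟨_, _, ?_, Or.inr (d.uz_mul_u ..)⟩
      rw [add_add_add_comm, add_comm l k]; exact dvd_add hij hkl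
    · refine ⟨_, _, ?_, Or.inl (d.uz_mul_uz ..)⟩
      rw [add_add_add_comm, add_comm l k]; exact dvd_add hij hkl
  inv_mem' := by
    rintro a ⟨i, j, hij, rfl | rfl⟩
    · exact ⟨_, _, by rw [← neg_add, dvd_neg]; exact hij, Or.inl (d.u_inv ..)⟩
    · exact ⟨_, _, by rw [← neg_add, dvd_neg, add_comm]; exact hij, Or.inr (d.uz_inv ..)⟩

theorem closure_involutions : Subgroup.closure {g : S | orderOf g = 2} = d.omega := by
  refine le_antisymm ?_ ?_
  · rw [Subgroup.closure_le]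
    intro g (hg : orderOf g = 2)
    obtain ⟨i, j, rfl | rfl⟩ := d.cases' g
    · exact ⟨i, j, dvd_add (d.orderOf_u_two hg).1 (d.orderOf_u_two hg).2, Or.inl rfl⟩
    · exact ⟨i, j, (dvd_mul_left _ _).trans (d.orderOf_uz_two.mp hg), Or.inr rfl⟩
  · set K := Subgroup.closure {g : S | orderOf g = 2}
    have hz : d.z ∈ K := Subgroup.subset_closure d.hz
    have h1 : d.u 1 (-1) ∈ K := by
      have := mul_mem (Subgroup.subset_closure ((d.orderOf_uz_two (i := 1) (j := -1)).mpr (by simp)) :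
        d.u 1 (-1) * d.z ∈ K) (inv_mem hz)
      rwa [mul_inv_cancel_right] at this
    have h2 : d.u 0 d.c ∈ K := by
      refine Subgroup.subset_closure ?_
      refine orderOf_eq_prime ?_ fun h => d.not_dvd_c (d.u_eq_one_iff.mp h).2
      rw [pow_two, d.u_mul_u, d.u_eq_one_iff]
      exact ⟨by simp, ⟨1, by ring⟩⟩
    rintro g ⟨i, j, ⟨k, hk⟩, hg⟩
    have hu : d.u i j ∈ K := by
      have := mul_mem (zpow_mem h1 i) (zpow_mem h2 k)
      rwa [d.u_zpow, d.u_zpow, d.u_mul_u, show i * 1 + k * 0 = i by ring,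
        show i * -1 + k * d.c = j by linarith] at this
    rcases hg with rfl | rfl
    exacts [hu, mul_mem hu hz]

theorem card_omega : Nat.card d.omega = 2 ^ (n + 2) := by
  let f : ZMod (2 ^ n) × Bool × Bool → d.omega := fun p =>
    ⟨d.u (p.1.val : ℤ) (-(p.1.val : ℤ) + cond p.2.1 d.c 0) * cond p.2.2 d.z 1, by
      refine ⟨(p.1.val : ℤ), -(p.1.val : ℤ) + cond p.2.1 d.c 0, ?_, ?_⟩
      · rw [add_neg_cancel_left]; cases p.2.1 <;> simp
      · cases p.2.2
        · exact Or.inl (mul_one _)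
        · exact Or.inr rfl⟩
  rw [← Nat.card_congr (Equiv.ofBijective f ⟨?_, ?_⟩), Nat.card_prod, Nat.card_prod, Nat.card_zmod,
    Nat.card_eq_fintype_card, Fintype.card_bool]
  · ring
  · rintro ⟨a, s, t⟩ ⟨a', s', t'⟩ h
    have h' := congrArg Subtype.val h
    obtain rfl : t = t' := by
      by_contra hne
      cases t <;> cases t' <;> simp only [f, cond_true, cond_false, mul_one] at h' <;>
        first
          | exact hne rfl
          | exact d.u_ne_uz _ _ _ _ h'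
          | exact d.u_ne_uz _ _ _ _ h'.symm
    simp only [f, mul_left_inj] at h'
    obtain ⟨h1, h2⟩ := d.u_eq_iff.mp h'
    have e : a = a' := by
      rw [← d.order_int, ← ZMod.intCast_eq_intCast_iff_dvd_sub] at h1
      simpa using h1.symm
    subst e
    have e2 : s = s' := by
      by_contra hne
      cases s <;> cases s' <;>
        simp_all [d.not_dvd_c]
    rw [e2]
  · rintro ⟨g, i, j, hij, hg⟩
    obtain ⟨k, hk, hd⟩ := d.u_half_cases hij
    have e : d.u i j = d.u (((i : ZMod (2 ^ n)).val : ℕ) : ℤ)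
        (-(((i : ZMod (2 ^ n)).val : ℕ) : ℤ) + d.c * k) := by
      rw [ZMod.val_intCast, d.order_int, d.u_eq_iff, Int.emod_def]
      obtain ⟨b, hb⟩ := hd
      exact ⟨⟨i / (2 * d.c), by ring⟩, ⟨b - i / (2 * d.c), by linear_combination hb⟩⟩
    rcases hg with rfl | rfl <;> rcases hk with rfl | rfl
    · exact ⟨((i : ZMod (2 ^ n)), false, false), Subtype.ext (by simp [f, e])⟩
    · exact ⟨((i : ZMod (2 ^ n)), true, false), Subtype.ext (by simp [f, e])⟩
    · exact ⟨((i : ZMod (2 ^ n)), false, true), Subtype.ext (by simp [f, e])⟩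
    · exact ⟨((i : ZMod (2 ^ n)), true, true), Subtype.ext (by simp [f, e])⟩

theorem omega_sup : d.omega ⊔ Subgroup.zpowers d.x = ⊤ :=
  d.eq_top_of_mem (Subgroup.mem_sup_right (d.x_eq ▸ Subgroup.mem_zpowers _))
    (Subgroup.mem_sup_left ⟨0, 0, by simp, Or.inr d.z_eq⟩)

end CfsgLib.SmallTwo.WR
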