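import Mathlib
import Cfsg.Prelude.Def_CaseTheorems

/-!
Normal form in a wreathed 2-group: every element is `u i j = x ^ i * y ^ j` or `u i j * z`,
with exponents read modulo `N = 2c = 4q`, and `z * u i j * z = u j i`.
-/

set_option autoImplicit false

namespace CfsgLib.SmallTwo

/-- Generators of a wreathed group of order `2 ^ (2n + 1)`. -/
structure WR (S : Type*) [Group S] (n : ℕ) where
  hn : 2 ≤ n
  card : Nat.card S = 2 ^ (2 * n + 1)
  x : S
  y : S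
  z : S
  hx : orderOf x = 2 ^ n
  comm : x * y = y * x
  disj : Subgroup.zpowers x ⊓ Subgroup.zpowers y = ⊥
  hz : orderOf z = 2
  hzx : z * x * z⁻¹ = y

theorem wr_of_card {S : Type*} [Group S] (hS : Cfsg.IsWreathed S) {n : ℕ}
    (hn : Nat.card S = 2 ^ (2 * n + 1)) : Nonempty (WR S n) := by
  obtain ⟨m, hm, hc, x, y, z, h1, h2, h3, h4, h5⟩ := hS
  obtain rfl : m = n := by
    have := Nat.pow_right_injective (le_refl 2) (hc.symm.trans hn)
    omega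
  exact ⟨⟨hm, hc, x, y, z, h1, h2, h3, h4, h5⟩⟩

theorem wr_exists {S : Type*} [Group S] (hS : Cfsg.IsWreathed S) : ∃ n, Nonempty (WR S n) := by
  obtain ⟨m, hm, hc, x, y, z, h1, h2, h3, h4, h5⟩ := hS
  exact ⟨m, ⟨⟨hm, hc, x, y, z, h1, h2, h3, h4, h5⟩⟩⟩

namespace WR

variable {S : Type*} [Group S] {n : ℕ} (d : WR S n)

/-- Half the exponent of the base. -/
def c (_d : WR S n) : ℤ := 2 ^ (n - 1)

/-- The element `x ^ i * y ^ j` of the base. -/
def u (i j : ℤ) : S := d.x ^ i * d.y ^ j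

theorem exists_quarter : ∃ q : ℤ, 0 < q ∧ d.c = 2 * q := by
  obtain ⟨m, rfl⟩ : ∃ m, n = m + 2 := ⟨n - 2, by have := d.hn; omega⟩
  exact ⟨2 ^ m, by positivity, by rw [c, show m + 2 - 1 = m + 1 by omega, pow_succ']⟩

theorem c_pos : 0 < d.c := by
  obtain ⟨q, hq, h⟩ := d.exists_quarter
  omega

theorem order_int : ((2 ^ n : ℕ) : ℤ) = 2 * d.c := by
  obtain ⟨m, rfl⟩ : ∃ m, n = m + 2 := ⟨n - 2, by have := d.hn; omega⟩
  rw [c, show m + 2 - 1 = m + 1 by omega]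
  push_cast
  ring

theorem zz : d.z * d.z = 1 := by rw [← pow_two, ← d.hz, pow_orderOf_eq_one]

theorem z_inv : d.z⁻¹ = d.z := inv_eq_of_mul_eq_one_right d.zz

theorem hy : orderOf d.y = 2 ^ n := by
  rw [← d.hzx, ← MulAut.conj_apply, MulEquiv.orderOf_eq, d.hx]

theorem hzy : d.z * d.y * d.z⁻¹ = d.x := by
  rw [← d.hzx, d.z_inv]
  calc d.z * (d.z * d.x * d.z) * d.z = d.z * d.z * d.x * (d.z * d.z) := by group
    _ = d.x := by rw [d.zz, one_mul, mul_one]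

theorem u_eq_iff {i j i' j' : ℤ} :
    d.u i j = d.u i' j' ↔ 2 * d.c ∣ i - i' ∧ 2 * d.c ∣ j - j' := by
  constructor
  · intro h
    have h2 : d.x ^ (i - i') = d.y ^ (j' - j) := by
      simp only [u] at h
      calc d.x ^ (i - i') = (d.x ^ i') ⁻¹ * (d.x ^ i * d.y ^ j) * (d.y ^ j)⁻¹ := by
            rw [sub_eq_neg_add, zpow_add, zpow_neg]; group
        _ = d.y ^ (j' - j) := by rw [h, zpow_sub]; group
    have hmem : d.x ^ (i - i') ∈ Subgroup.zpowers d.x ⊓ Subgroup.zpowers d.y :=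
      ⟨⟨_, rfl⟩, h2 ▸ ⟨_, rfl⟩⟩
    rw [d.disj, Subgroup.mem_bot] at hmem
    refine ⟨?_, ?_⟩
    · rwa [← d.order_int, ← d.hx, orderOf_dvd_iff_zpow_eq_one]
    · rw [hmem] at h2
      rw [← dvd_neg, neg_sub, ← d.order_int, ← d.hy, orderOf_dvd_iff_zpow_eq_one, ← h2]
  · rintro ⟨h1, h2⟩
    rw [← d.order_int, ← d.hx, orderOf_dvd_sub_iff_zpow_eq_zpow] at h1
    rw [← d.order_int, ← d.hy, orderOf_dvd_sub_iff_zpow_eq_zpow] at h2
    rw [u, u, h1, h2]

theorem u_zero : d.u 0 0 = 1 := by simp [u]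

theorem u_eq_one_iff {i j : ℤ} : d.u i j = 1 ↔ 2 * d.c ∣ i ∧ 2 * d.c ∣ j := by
  rw [← d.u_zero, d.u_eq_iff, sub_zero, sub_zero]

theorem u_mul_u (i j k l : ℤ) : d.u i j * d.u k l = d.u (i + k) (j + l) := by
  have h : Commute (d.y ^ j) (d.x ^ k) := (show Commute d.y d.x from d.comm.symm).zpow_zpow _ _
  rw [u, u, u, zpow_add, zpow_add, mul_assoc, ← mul_assoc (d.y ^ j), h.eq]
  group

theorem u_mul_uz (i j k l : ℤ) : d.u i j * (d.u k l * d.z) = d.u (i + k) (j + l) * d.z := by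
  rw [← mul_assoc, d.u_mul_u]

theorem z_mul_u (i j : ℤ) : d.z * d.u i j = d.u j i * d.z := by
  have h : d.z * d.u i j * d.z⁻¹ = d.u j i := by
    have e1 : d.z * d.x ^ i * d.z⁻¹ = d.y ^ i := by rw [← conj_zpow, d.hzx]
    have e2 : d.z * d.y ^ j * d.z⁻¹ = d.x ^ j := by rw [← conj_zpow, d.hzy]
    calc d.z * d.u i j * d.z⁻¹ = (d.z * d.x ^ i * d.z⁻¹) * (d.z * d.y ^ j * d.z⁻¹) := by
          rw [u]; group
      _ = d.y ^ i * d.x ^ j := by rw [e1, e2]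
      _ = d.u j i := ((show Commute d.y d.x from d.comm.symm).zpow_zpow i j).eq
  rw [← h, inv_mul_cancel_right]

theorem uz_mul_u (i j k l : ℤ) : d.u i j * d.z * d.u k l = d.u (i + l) (j + k) * d.z := by
  rw [mul_assoc, d.z_mul_u, ← mul_assoc, d.u_mul_u]

theorem uz_mul_uz (i j k l : ℤ) : d.u i j * d.z * (d.u k l * d.z) = d.u (i + l) (j + k) := by
  rw [← mul_assoc, d.uz_mul_u, mul_assoc, d.zz, mul_one]

theorem u_inv (i j : ℤ) : (d.u i j)⁻¹ = d.u (-i) (-j) := by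
  apply inv_eq_of_mul_eq_one_right
  rw [d.u_mul_u, add_neg_cancel, add_neg_cancel, d.u_zero]

theorem uz_inv (i j : ℤ) : (d.u i j * d.z)⁻¹ = d.u (-j) (-i) * d.z := by
  rw [mul_inv_rev, d.z_inv, d.u_inv, d.z_mul_u]

theorem u_zpow (i j k : ℤ) : (d.u i j) ^ k = d.u (k * i) (k * j) := by
  have h : Commute (d.x ^ i) (d.y ^ j) := (show Commute d.x d.y from d.comm).zpow_zpow _ _
  rw [u, h.mul_zpow, ← zpow_mul, ← zpow_mul, u, mul_comm i, mul_comm j]

theorem x_eq : d.x = d.u 1 0 := by simp [u]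
theorem y_eq : d.y = d.u 0 1 := by simp [u]
theorem z_eq : d.z = d.u 0 0 * d.z := by simp [u]

/-- The homocyclic base. -/
def base : Subgroup S where
  carrier := {g | ∃ i j : ℤ, g = d.u i j}
  one_mem' := ⟨0, 0, d.u_zero.symm⟩
  mul_mem' := by
    rintro a b ⟨i, j, rfl⟩ ⟨k, l, rfl⟩
    exact ⟨_, _, d.u_mul_u i j k l⟩
  inv_mem' := by
    rintro a ⟨i, j, rfl⟩
    exact ⟨_, _, d.u_inv i j⟩

theorem u_mem_base (i j : ℤ) : d.u i j ∈ d.base := ⟨i, j, rfl⟩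

theorem z_notMem : d.z ∉ d.base := by
  rintro ⟨i, j, h⟩
  have h2 : d.u 0 1 = d.u 1 0 := by
    rw [← d.x_eq, ← d.y_eq, ← d.hzx, h, d.x_eq, d.u_inv, d.u_mul_u, d.u_mul_u, d.u_eq_iff]
    exact ⟨⟨0, by ring⟩, ⟨0, by ring⟩⟩
  have := Int.le_of_dvd one_pos (d.u_eq_iff.mp h2).2
  have := d.c_pos
  omega

theorem uz_notMem (i j : ℤ) : d.u i j * d.z ∉ d.base := fun h =>
  d.z_notMem (by simpa using mul_mem (inv_mem (d.u_mem_base i j)) h)

theorem u_ne_uz (i j k l : ℤ) : d.u i j ≠ d.u k l * d.z := fun h =>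
  d.uz_notMem k l (h ▸ d.u_mem_base i j)

instance instNeZero : NeZero (2 ^ n) := ⟨by positivity⟩

theorem u_val_eq (p : ZMod (2 ^ n) × ZMod (2 ^ n)) (i j : ℤ) :
    d.u (p.1.val : ℤ) (p.2.val : ℤ) = d.u i j ↔ p.1 = (i : ZMod (2 ^ n)) ∧ p.2 = (j : ZMod (2 ^ n)) := by
  rw [d.u_eq_iff, ← d.order_int, ← ZMod.intCast_eq_intCast_iff_dvd_sub,
    ← ZMod.intCast_eq_intCast_iff_dvd_sub]
  simp [eq_comm]

theorem base_iso : Nonempty (↥d.base ≃* Multiplicative (ZMod (2 ^ n) × ZMod (2 ^ n))) := by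
  let f : Multiplicative (ZMod (2 ^ n) × ZMod (2 ^ n)) →* ↥d.base :=
    MonoidHom.mk' (fun p => ⟨_, d.u_mem_base (p.toAdd.1.val : ℤ) (p.toAdd.2.val : ℤ)⟩) (fun a b => by
      refine Subtype.ext ?_
      show d.u _ _ = d.u _ _ * d.u _ _
      rw [d.u_mul_u, d.u_val_eq (a * b).toAdd]
      simp)
  refine ⟨(MulEquiv.ofBijective f ⟨fun a b h => ?_, fun g => ?_⟩).symm⟩
  · have h' := (d.u_val_eq a.toAdd _ _).mp (congrArg Subtype.val h)
    exact Multiplicative.toAdd.injective (Prod.ext (by simpa using h'.1) (by simpa using h'.2))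
  · obtain ⟨i, j, hg⟩ := g.2
    refine ⟨Multiplicative.ofAdd ((i : ZMod (2 ^ n)), (j : ZMod (2 ^ n))), Subtype.ext ?_⟩
    rw [hg]
    exact (d.u_val_eq _ i j).mpr ⟨rfl, rfl⟩

theorem card_base : Nat.card d.base = 2 ^ (2 * n) := by
  obtain ⟨e⟩ := d.base_iso
  rw [Nat.card_congr e.toEquiv, Nat.card_congr Multiplicative.toAdd, Nat.card_prod, Nat.card_zmod,
    ← pow_add, two_mul]

theorem index_base : d.base.index = 2 := by
  have h := Subgroup.card_mul_index d.base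
  rw [d.card_base, d.card, pow_succ] at h
  exact Nat.eq_of_mul_eq_mul_left (by positivity) h

theorem cases' (g : S) : ∃ i j : ℤ, g = d.u i j ∨ g = d.u i j * d.z := by
  by_cases hg : g ∈ d.base
  · obtain ⟨i, j, hi⟩ := hg
    exact ⟨i, j, Or.inl hi⟩
  · have : g * d.z ∈ d.base := by
      rw [Subgroup.mul_mem_iff_of_index_two d.index_base]
      exact iff_of_false hg d.z_notMem
    obtain ⟨i, j, hi⟩ := this
    exact ⟨i, j, Or.inr (by rw [← hi, mul_assoc, d.zz, mul_one])⟩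

theorem notMem_iff {g : S} (hg : g ∉ d.base) : ∃ i j : ℤ, g = d.u i j * d.z := by
  obtain ⟨i, j, rfl | h⟩ := d.cases' g
  · exact absurd (d.u_mem_base i j) hg
  · exact ⟨i, j, h⟩

theorem conj_uz (a b i j : ℤ) :
    d.u a b * (d.u i j * d.z) * (d.u a b)⁻¹ = d.u (i + (a - b)) (j + (b - a)) * d.z := by
  rw [d.u_inv, d.u_mul_uz, d.uz_mul_u]
  congr 2 <;> ring

theorem orderOf_uz_two {i j : ℤ} : orderOf (d.u i j * d.z) = 2 ↔ 2 * d.c ∣ i + j := by
  constructor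
  · intro h
    have := pow_orderOf_eq_one (d.u i j * d.z)
    rw [h, pow_two, d.uz_mul_uz] at this
    exact (d.u_eq_one_iff.mp this).1
  · intro h
    refine orderOf_eq_prime ?_ fun h1 => d.uz_notMem i j (h1 ▸ one_mem _)
    rw [pow_two, d.uz_mul_uz, d.u_eq_one_iff]
    exact ⟨h, by rwa [add_comm]⟩

theorem commute_u_uz {i j k l : ℤ} :
    Commute (d.u i j) (d.u k l * d.z) ↔ 2 * d.c ∣ i - j := by
  rw [commute_iff_eq, d.u_mul_uz, d.uz_mul_u, mul_left_inj, d.u_eq_iff,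
    show i + k - (k + j) = i - j by ring, show j + l - (l + i) = -(i - j) by ring, dvd_neg,
    and_self]

theorem mem_center_iff {g : S} : g ∈ Subgroup.center S ↔ ∃ k : ℤ, g = d.u k k := by
  rw [Subgroup.mem_center_iff]
  constructor
  · intro h
    obtain ⟨i, j, rfl | rfl⟩ := d.cases' g
    · refine ⟨i, d.u_eq_iff.mpr ⟨by simp, ?_⟩⟩
      rw [← dvd_neg, neg_sub]
      exact (d.commute_u_uz (k := 0) (l := 0)).mp (h _).symm
    · have h1 : 2 * d.c ∣ (1 : ℤ) - 0 := (d.commute_u_uz (k := i) (l := j)).mp (h (d.u 1 0))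
      have := Int.le_of_dvd one_pos (by simpa using h1)
      have := d.c_pos
      omega
  · rintro ⟨k, rfl⟩ h
    obtain ⟨i, j, rfl | rfl⟩ := d.cases' h
    · rw [d.u_mul_u, d.u_mul_u, add_comm, add_comm j]
    · exact ((d.commute_u_uz).mpr (by simp)).eq.symm

end WR

end CfsgLib.SmallTwo
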