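import Cfsg.Agent.Lib.SmallTwo.Wreathed

/-!
Four-subgroups and the generalized quaternion subgroup of a wreathed 2-group.
-/

set_option autoImplicit false

namespace CfsgLib.SmallTwo

/-- In a generalized quaternion group an element of largest order is inverted by everything outside. -/
theorem quaternion_outside {m : ℕ} (hm : 2 ≤ m) [NeZero m] (g w : QuaternionGroup m)
    (hg : orderOf g = 2 * m) (hw : w ∉ Subgroup.zpowers g) :
    w * g * w⁻¹ = g⁻¹ ∧ w * w = g ^ m := by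
  cases g with
  | xa i =>
    rw [QuaternionGroup.orderOf_xa] at hg
    obtain rfl : m = 2 := by omega
    have key : ∀ a b : QuaternionGroup 2, a * a ≠ 1 → b ≠ 1 → b ≠ a → b ≠ a * a → b ≠ a * a * a →
        b * a * b⁻¹ = a⁻¹ ∧ b * b = a * a := by decide
    have hmem : ∀ k : ℕ, w ≠ (QuaternionGroup.xa i) ^ k := fun k h =>
      hw (h ▸ pow_mem (Subgroup.mem_zpowers _) k)
    rw [pow_two]
    refine key _ _ ?_ (by simpa using hmem 0) (by simpa using hmem 1)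
      (by simpa [pow_succ] using hmem 2) (by simpa [pow_succ] using hmem 3)
    intro h
    have h2 := orderOf_dvd_of_pow_eq_one ((pow_two _).trans h)
    rw [QuaternionGroup.orderOf_xa] at h2
    norm_num at h2
  | a i =>
    have hall : ∀ j, QuaternionGroup.a j ∈ Subgroup.zpowers (QuaternionGroup.a i : QuaternionGroup m) := by
      intro j
      have hle : Subgroup.zpowers (QuaternionGroup.a i : QuaternionGroup m) ≤
          Subgroup.zpowers (QuaternionGroup.a 1) := Subgroup.zpowers_le.mpr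
        ⟨(i.val : ℤ), by
          show (QuaternionGroup.a 1 : QuaternionGroup m) ^ (i.val : ℤ) = _
          rw [zpow_natCast, QuaternionGroup.a_one_pow, ZMod.natCast_zmod_val]⟩
      rw [Subgroup.eq_of_le_of_card_ge hle (by
        rw [Nat.card_zpowers, Nat.card_zpowers, hg, QuaternionGroup.orderOf_a_one])]
      exact ⟨(j.val : ℤ), by
        show (QuaternionGroup.a 1 : QuaternionGroup m) ^ (j.val : ℤ) = _
        rw [zpow_natCast, QuaternionGroup.a_one_pow, ZMod.natCast_zmod_val]⟩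
    cases w with
    | a j => exact absurd (hall j) hw
    | xa j =>
      have him : (QuaternionGroup.a i : QuaternionGroup m) ^ m = QuaternionGroup.a (m : ZMod (2 * m)) := by
        obtain ⟨k, hk⟩ := hall 1
        have hk' : (QuaternionGroup.a i : QuaternionGroup m) ^ k = QuaternionGroup.a 1 := hk
        have hpow : ∀ t : ℕ, (QuaternionGroup.a i : QuaternionGroup m) ^ t =
            QuaternionGroup.a ((t : ZMod (2 * m)) * i) := by
          intro t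
          induction t with
          | zero => simp [← QuaternionGroup.one_def]
          | succ t ih => rw [pow_succ, ih, QuaternionGroup.a_mul_a]; congr 1; push_cast; ring
        have hcop : Nat.Coprime i.val (2 * m) := by
          obtain ⟨t, ht⟩ : ∃ t : ℕ, (QuaternionGroup.a i : QuaternionGroup m) ^ t = QuaternionGroup.a 1 := by
            rw [← mem_powers_iff_mem_zpowers] at *
            exact mem_powers_iff_mem_zpowers.mpr (hall 1)
          rw [hpow] at ht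
          injection ht with ht
          have h1 : IsUnit i := isUnit_iff_exists_inv'.mpr ⟨_, ht⟩
          exact ((ZMod.isUnit_iff_coprime i.val (2 * m)).mp (by rwa [ZMod.natCast_zmod_val]))
        rw [hpow]
        congr 1
        obtain ⟨t, ht⟩ : Odd i.val := by
          rw [← Nat.coprime_two_right]
          exact Nat.Coprime.coprime_dvd_right (dvd_mul_right 2 m) hcop
        rw [← ZMod.natCast_zmod_val i, ht]
        push_cast
        have h2 : (2 : ZMod (2 * m)) * (m : ZMod (2 * m)) = 0 := by exact_mod_cast ZMod.natCast_self (2 * m)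
        linear_combination (t : ZMod (2 * m)) * h2
      refine ⟨?_, ?_⟩
      · rw [mul_inv_eq_iff_eq_mul]
        show _ = QuaternionGroup.a (-i) * _
        rw [QuaternionGroup.xa_mul_a, QuaternionGroup.a_mul_xa, sub_neg_eq_add]
      · rw [him, QuaternionGroup.xa_mul_xa, add_sub_cancel_right]

namespace WR

variable {S : Type*} [Group S] [Finite S] {n : ℕ} (d : WR S n)

include d

/-- The four-group of involutions of the base. -/
def torsion : Subgroup S where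
  carrier := {g | ∃ k l : ℤ, g = d.u (d.c * k) (d.c * l)}
  one_mem' := ⟨0, 0, by simp [d.u_zero]⟩
  mul_mem' := by
    rintro a b ⟨k, l, rfl⟩ ⟨k', l', rfl⟩
    exact ⟨k + k', l + l', by rw [d.u_mul_u, mul_add, mul_add]⟩
  inv_mem' := by
    rintro a ⟨k, l, rfl⟩
    exact ⟨-k, -l, by rw [d.u_inv]; simp⟩

/-- The other four-groups. -/
def fours (i : ℤ) : Subgroup S where
  carrier := {g | ∃ k : ℤ, g = d.u (d.c * k) (d.c * k) ∨ g = d.u (i + d.c * k) (-i + d.c * k) * d.z}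
  one_mem' := ⟨0, Or.inl (by simp [d.u_zero])⟩
  mul_mem' := by
    rintro a b ⟨k, rfl | rfl⟩ ⟨l, rfl | rfl⟩
    · exact ⟨k + l, Or.inl (by rw [d.u_mul_u, mul_add])⟩
    · exact ⟨k + l, Or.inr (by rw [d.u_mul_uz]; congr 2 <;> ring)⟩
    · exact ⟨k + l, Or.inr (by rw [d.uz_mul_u]; congr 2 <;> ring)⟩
    · exact ⟨k + l, Or.inl (by rw [d.uz_mul_uz]; congr 1 <;> ring)⟩
  inv_mem' := by
    rintro a ⟨k, rfl | rfl⟩
    · exact ⟨-k, Or.inl (by rw [d.u_inv]; simp)⟩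
    · exact ⟨-k, Or.inr (by rw [d.uz_inv]; congr 2 <;> ring)⟩

theorem klein_of {T : Subgroup S} (hsq : ∀ g ∈ T, g * g = 1) (hc : Nat.card T = 4) : IsKleinFour T := by
  refine { card_four := hc, exponent_two := ?_ }
  have hdvd : Monoid.exponent T ∣ 2 :=
    Monoid.exponent_dvd_of_forall_pow_eq_one fun g => Subtype.ext (by
      simpa [pow_two] using hsq g g.2)
  rcases (Nat.dvd_prime Nat.prime_two).mp hdvd with h | h
  · have := Monoid.exp_eq_one_iff.mp h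
    rw [Nat.card_of_subsingleton (1 : T)] at hc
    omega
  · exact h

theorem half_mod (k : ℤ) : ∃ e : Fin 2, 2 * d.c ∣ d.c * k - d.c * (e.val : ℤ) := by
  rcases Int.even_or_odd' k with ⟨b, rfl | rfl⟩
  · exact ⟨0, b, by simp; ring⟩
  · exact ⟨1, b, by simp; ring⟩

theorem half_inj {a b : Fin 2} (h : 2 * d.c ∣ d.c * (a.val : ℤ) - d.c * (b.val : ℤ)) : a = b := by
  have := d.not_dvd_c
  fin_cases a <;> fin_cases b <;> simp_all

theorem card_torsion : Nat.card d.torsion = 4 := by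
  rw [← Nat.card_congr (Equiv.ofBijective (fun p : Fin 2 × Fin 2 =>
    (⟨d.u (d.c * (p.1.val : ℤ)) (d.c * (p.2.val : ℤ)), _, _, rfl⟩ : d.torsion)) ⟨?_, ?_⟩),
    Nat.card_prod, Nat.card_fin]
  · rintro ⟨a, b⟩ ⟨a', b'⟩ h
    obtain ⟨h1, h2⟩ := d.u_eq_iff.mp (congrArg Subtype.val h)
    exact Prod.ext (d.half_inj h1) (d.half_inj h2)
  · rintro ⟨g, k, l, rfl⟩
    obtain ⟨⟨a, ha⟩, ⟨b, hb⟩⟩ := And.intro (d.half_mod k) (d.half_mod l)
    exact ⟨(a, b), Subtype.ext (d.u_eq_iff.mpr ⟨dvd_sub_comm.mp ha, dvd_sub_comm.mp hb⟩)⟩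

theorem card_fours (i : ℤ) : Nat.card (d.fours i) = 4 := by
  rw [← Nat.card_congr (Equiv.ofBijective (fun p : Fin 2 × Bool =>
    if p.2 then (⟨d.u (d.c * (p.1.val : ℤ)) (d.c * (p.1.val : ℤ)), _, Or.inl rfl⟩ : d.fours i)
    else ⟨d.u (i + d.c * (p.1.val : ℤ)) (-i + d.c * (p.1.val : ℤ)) * d.z, _, Or.inr rfl⟩) ⟨?_, ?_⟩),
    Nat.card_prod, Nat.card_fin, Nat.card_eq_fintype_card, Fintype.card_bool]
  · rintro ⟨a, s⟩ ⟨a', s'⟩ h
    have h := congrArg Subtype.val h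
    cases s <;> cases s' <;> simp only [↓reduceIte, Bool.false_eq_true] at h
    · rw [d.half_inj (a := a) (b := a') (by simpa using (d.u_eq_iff.mp (mul_right_cancel h)).1)]
    · exact absurd h.symm (d.u_ne_uz _ _ _ _)
    · exact absurd h (d.u_ne_uz _ _ _ _)
    · rw [d.half_inj (d.u_eq_iff.mp h).1]
  · rintro ⟨g, k, rfl | rfl⟩ <;> obtain ⟨a, ha⟩ := d.half_mod k
    · exact ⟨(a, true), Subtype.ext (d.u_eq_iff.mpr ⟨dvd_sub_comm.mp ha, dvd_sub_comm.mp ha⟩)⟩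
    · refine ⟨(a, false), Subtype.ext ((mul_left_inj _).mpr (d.u_eq_iff.mpr ?_))⟩
      rw [add_sub_add_left_eq_sub, add_sub_add_left_eq_sub]
      exact ⟨dvd_sub_comm.mp ha, dvd_sub_comm.mp ha⟩

theorem four_subgroups : ∃ T : Subgroup S, IsKleinFour T ∧ T.Normal ∧
    (∃ T₀ : Subgroup S, IsKleinFour T₀ ∧ T₀ ≠ T) ∧
    ∀ T₁ T₂ : Subgroup S, IsKleinFour T₁ → IsKleinFour T₂ → T₁ ≠ T → T₂ ≠ T →
      ∃ s : S, T₁.map (MulAut.conj s).toMonoidHom = T₂ := by
  have hzf : ∀ i, d.u i (-i) * d.z ∈ d.fours i := fun i => ⟨0, Or.inr (by simp)⟩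
  refine ⟨d.torsion, d.klein_of ?_ d.card_torsion, ⟨?_⟩, ⟨d.fours 0, d.klein_of ?_ (d.card_fours 0), ?_⟩, ?_⟩
  · rintro g ⟨k, l, rfl⟩
    rw [d.u_mul_u, d.u_eq_one_iff]
    exact ⟨⟨k, by ring⟩, ⟨l, by ring⟩⟩
  · rintro g ⟨k, l, rfl⟩ s
    obtain ⟨i, j, rfl | rfl⟩ := d.cases' s
    · exact ⟨k, l, by rw [d.u_mul_u, d.u_inv, d.u_mul_u]; congr 1 <;> ring⟩
    · exact ⟨l, k, by rw [d.uz_mul_u, d.uz_inv, d.uz_mul_uz]; congr 1 <;> ring⟩
  · rintro g ⟨k, rfl | rfl⟩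
    · rw [d.u_mul_u, d.u_eq_one_iff]
      exact ⟨⟨k, by ring⟩, ⟨k, by ring⟩⟩
    · rw [d.uz_mul_uz, d.u_eq_one_iff]
      exact ⟨⟨k, by ring⟩, ⟨k, by ring⟩⟩
  · intro h
    obtain ⟨k, l, e⟩ := (h ▸ hzf 0 : d.u 0 (-0) * d.z ∈ d.torsion)
    exact d.u_ne_uz _ _ _ _ e.symm
  · have key : ∀ T₁ : Subgroup S, IsKleinFour T₁ → T₁ ≠ d.torsion → ∃ i, T₁ = d.fours i := by
      intro T₁ hT hne
      have hsq : ∀ g ∈ T₁, g * g = 1 := fun g hg =>
        congrArg Subtype.val (IsKleinFour.mul_self (⟨g, hg⟩ : T₁))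
      have hbase : ∀ i j, d.u i j ∈ T₁ → d.u i j ∈ d.torsion := by
        intro i j h
        have := hsq _ h
        rw [d.u_mul_u, d.u_eq_one_iff] at this
        obtain ⟨⟨a, ha⟩, ⟨b, hb⟩⟩ := this
        exact ⟨a, b, by congr 1 <;> linarith⟩
      obtain ⟨w, hw, hwb⟩ : ∃ w ∈ T₁, w ∉ d.base := by
        by_contra h
        push Not at h
        refine hne (Subgroup.eq_of_le_of_card_ge (fun g hg => ?_) (by
          rw [d.card_torsion, IsKleinFour.card_four]))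
        obtain ⟨i, j, rfl⟩ := h g hg
        exact hbase i j hg
      obtain ⟨i, j, rfl⟩ := d.notMem_iff hwb
      have hij := hsq _ hw
      rw [d.uz_mul_uz, d.u_eq_one_iff] at hij
      refine ⟨i, Subgroup.eq_of_le_of_card_ge (fun g hg => ?_) (by
        rw [d.card_fours, IsKleinFour.card_four])⟩
      have hdiag : ∀ a b : ℤ, d.u a b ∈ T₁ → ∃ k : ℤ, d.u a b = d.u (d.c * k) (d.c * k) := by
        intro a b h
        obtain ⟨k, l, e⟩ := hbase a b h
        refine ⟨k, ?_⟩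
        have hcm : Commute (d.u a b) (d.u i j * d.z) := congrArg Subtype.val
          (mul_comm_of_exponent_two (G := T₁) IsKleinFour.exponent_two ⟨_, h⟩ ⟨_, hw⟩)
        rw [e, d.commute_u_uz] at hcm
        rw [e, d.u_eq_iff]
        exact ⟨by simp, dvd_sub_comm.mp hcm⟩
      obtain ⟨a, b, rfl | rfl⟩ := d.cases' g
      · obtain ⟨k, hk⟩ := hdiag a b hg
        exact ⟨k, Or.inl hk⟩
      · have hp := mul_mem hg hw
        rw [d.uz_mul_uz] at hp
        obtain ⟨k, hk⟩ := hdiag _ _ hp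
        obtain ⟨⟨p, hp1⟩, ⟨r, hp2⟩⟩ := d.u_eq_iff.mp hk
        obtain ⟨v, hv⟩ := hij.1
        refine ⟨k, Or.inr ((mul_left_inj _).mpr (d.u_eq_iff.mpr ⟨⟨p - v, ?_⟩, ⟨r, ?_⟩⟩))⟩
        · linarith
        · linarith
    intro T₁ T₂ h₁ h₂ hn₁ hn₂
    obtain ⟨⟨i, rfl⟩, ⟨j, rfl⟩⟩ := And.intro (key T₁ h₁ hn₁) (key T₂ h₂ hn₂)
    refine ⟨d.u (j - i) 0, Subgroup.eq_of_le_of_card_ge ?_ (by
      rw [Subgroup.card_map_of_injective (MulAut.conj _).injective, d.card_fours, d.card_fours])⟩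
    rintro _ ⟨g, ⟨k, rfl | rfl⟩, rfl⟩
    · exact ⟨k, Or.inl (by
        show d.u (j - i) 0 * _ * _ = _
        rw [d.u_mul_u, d.u_inv, d.u_mul_u]; congr 1 <;> ring)⟩
    · exact ⟨k, Or.inr (by
        show d.u (j - i) 0 * _ * _ = _
        rw [d.conj_uz]; congr 2 <;> ring)⟩

/-- The generalized quaternion subgroup. -/
def quat : Subgroup S where
  carrier := {g | ∃ i j : ℤ, (2 * d.c ∣ i + j ∧ g = d.u i j) ∨ (2 * d.c ∣ i + j - d.c ∧ g = d.u i j * d.z)}
  one_mem' := ⟨0, 0, Or.inl ⟨by simp, d.u_zero.symm⟩⟩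
  mul_mem' := by
    rintro a b ⟨i, j, ⟨⟨p, hp⟩, rfl⟩ | ⟨⟨p, hp⟩, rfl⟩⟩ ⟨k, l, ⟨⟨r, hr⟩, rfl⟩ | ⟨⟨r, hr⟩, rfl⟩⟩
    · exact ⟨_, _, Or.inl ⟨⟨p + r, by linarith⟩, d.u_mul_u ..⟩⟩
    · exact ⟨_, _, Or.inr ⟨⟨p + r, by linarith⟩, d.u_mul_uz ..⟩⟩
    · exact ⟨_, _, Or.inr ⟨⟨p + r, by linarith⟩, d.uz_mul_u ..⟩⟩
    · exact ⟨_, _, Or.inl ⟨⟨p + r + 1, by linarith⟩, d.uz_mul_uz ..⟩⟩
  inv_mem' := by
    rintro a ⟨i, j, ⟨⟨p, hp⟩, rfl⟩ | ⟨⟨p, hp⟩, rfl⟩⟩
    · exact ⟨_, _, Or.inl ⟨⟨-p, by linarith⟩, d.u_inv ..⟩⟩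
    · exact ⟨_, _, Or.inr ⟨⟨-p - 1, by linarith⟩, d.uz_inv ..⟩⟩

theorem quat_iso : Nonempty (d.quat ≃* QuaternionGroup (2 ^ (n - 1))) := by
  have := d.hn
  have : NeZero (2 ^ (n - 1)) := ⟨by positivity⟩
  have hcast : ((2 ^ (n - 1) : ℕ) : ℤ) = d.c := by rw [c]; push_cast; rfl
  obtain ⟨f, hf, hr⟩ := CfsgLib.Classical.exists_quaternion_hom (n := 2 ^ (n - 1))
    (a := d.u 1 (-1)) (w := d.u 0 d.c * d.z)
    (by rw [d.orderOf_u_one, ← pow_succ', Nat.sub_add_cancel (by omega)])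
    (by rw [← zpow_natCast, hcast, d.u_zpow, d.uz_mul_uz, d.u_eq_iff]
        exact ⟨⟨0, by ring⟩, ⟨1, by ring⟩⟩)
    (by
      rw [d.uz_inv, d.uz_mul_u, d.uz_mul_uz, d.u_inv, d.u_eq_iff]
      exact ⟨⟨0, by ring⟩, ⟨0, by ring⟩⟩)
    (fun ⟨k, hk⟩ => d.u_ne_uz _ _ _ _ ((d.u_zpow 1 (-1) k).symm.trans hk))
  have e : Subgroup.closure {d.u 1 (-1), d.u 0 d.c * d.z} = d.quat := by
    refine le_antisymm ?_ ?_
    · rw [Subgroup.closure_le]
      rintro g (rfl | rfl)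
      · exact ⟨1, -1, Or.inl ⟨by simp, rfl⟩⟩
      · exact ⟨0, d.c, Or.inr ⟨by simp, rfl⟩⟩
    · have ha : ∀ i j, 2 * d.c ∣ i + j → d.u i j ∈ Subgroup.closure ({d.u 1 (-1), d.u 0 d.c * d.z} : Set S) := by
        intro i j h
        obtain ⟨k, hk⟩ := d.mem_zpowers_anti.mpr h
        exact hk ▸ zpow_mem (Subgroup.subset_closure (Set.mem_insert _ _)) k
      rintro g ⟨i, j, ⟨h, rfl⟩ | ⟨h, rfl⟩⟩
      · exact ha i j h
      · rw [show d.u i j * d.z = d.u i (j - d.c) * (d.u 0 d.c * d.z) by rw [d.u_mul_uz]; congr 2 <;> ring]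
        exact mul_mem (ha _ _ (by rwa [show i + (j - d.c) = i + j - d.c by ring]))
          (Subgroup.subset_closure (Set.mem_insert_of_mem _ rfl))
  exact ⟨(MulEquiv.subgroupCongr (hr.trans e)).symm.trans (MonoidHom.ofInjective hf).symm⟩

theorem quat_normal : d.quat.Normal := by
  refine ⟨fun g hg s => ?_⟩
  obtain ⟨a, b, rfl | rfl⟩ := d.cases' s <;>
    obtain ⟨i, j, ⟨⟨p, hp⟩, rfl⟩ | ⟨⟨p, hp⟩, rfl⟩⟩ := hg
  · exact ⟨i, j, Or.inl ⟨⟨p, hp⟩, by rw [d.u_mul_u, d.u_inv, d.u_mul_u]; congr 1 <;> ring⟩⟩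
  · exact ⟨i + (a - b), j + (b - a), Or.inr ⟨⟨p, by linarith⟩, d.conj_uz a b i j⟩⟩
  · exact ⟨j, i, Or.inl ⟨⟨p, by linarith⟩, by rw [d.uz_mul_u, d.uz_inv, d.uz_mul_uz]; congr 1 <;> ring⟩⟩
  · refine ⟨j + (a - b), i + (b - a), Or.inr ⟨⟨p, by linarith⟩, ?_⟩⟩
    rw [d.uz_mul_uz, d.uz_inv, d.u_mul_uz]; congr 2 <;> ring

theorem card_quat : Nat.card d.quat = 2 ^ (n + 1) := by
  obtain ⟨e⟩ := d.quat_iso
  have := d.hn
  have : NeZero (2 ^ (n - 1)) := ⟨by positivity⟩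
  rw [Nat.card_congr e.toEquiv, Nat.card_eq_fintype_card, QuaternionGroup.card,
    show (4 : ℕ) = 2 ^ 2 by norm_num, ← pow_add]
  congr 1
  omega

theorem quat_unique (Y : Subgroup S) (hc : Nat.card Y = 2 ^ (n + 1))
    (e : Y ≃* QuaternionGroup (2 ^ (n - 1))) : Y = d.quat := by
  have := d.hn
  set m := 2 ^ (n - 1) with hm
  have hm2 : 2 ≤ m := by
    rw [hm]; calc 2 = 2 ^ 1 := (pow_one 2).symm
      _ ≤ _ := Nat.pow_le_pow_right two_pos (by omega)
  have : NeZero m := ⟨by omega⟩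
  have h2m : 2 * m = 2 ^ n := by rw [hm, ← pow_succ', Nat.sub_add_cancel (by omega)]
  have hcast : (m : ℤ) = d.c := by rw [hm, c]; push_cast; rfl
  have hnoncomm : ¬ ∀ a ∈ Y, ∀ b ∈ Y, a * b = b * a := by
    intro h
    have h' := congrArg e (Subtype.ext (h _ (e.symm (QuaternionGroup.a 1)).2 _ (e.symm (QuaternionGroup.xa 0)).2) :
      e.symm (QuaternionGroup.a 1) * e.symm (QuaternionGroup.xa 0) = e.symm (QuaternionGroup.xa 0) * e.symm (QuaternionGroup.a 1))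
    simp only [map_mul, MulEquiv.apply_symm_apply, QuaternionGroup.a_mul_xa, QuaternionGroup.xa_mul_a] at h'
    injection h' with h'
    have : ((2 : ℕ) : ZMod (2 * m)) = 0 := by push_cast; linear_combination -h'
    rw [ZMod.natCast_eq_zero_iff] at this
    have := Nat.le_of_dvd two_pos this
    omega
  -- a generator of largest order in the base
  obtain ⟨g, hgY, hgb, hgo⟩ : ∃ g ∈ Y, g ∈ d.base ∧ orderOf g = 2 * m := by
    set g₀ := e.symm (QuaternionGroup.a 1) with hg₀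
    have ho : orderOf (g₀ : S) = 2 * m := by
      rw [hg₀, Subgroup.orderOf_coe, MulEquiv.orderOf_eq, QuaternionGroup.orderOf_a_one]
    by_cases hb : (g₀ : S) ∈ d.base
    · exact ⟨g₀, g₀.2, hb, ho⟩
    · obtain ⟨i, j, hij⟩ := d.notMem_iff hb
      have hcen : (g₀ : S) * g₀ ∈ Subgroup.center S := by
        rw [hij, d.uz_mul_uz, add_comm j i]
        exact d.mem_center_iff.mpr ⟨_, rfl⟩
      have h4 : m = 2 := by
        have h := congrArg e (Subtype.ext ((Subgroup.mem_center_iff.mp hcen) (e.symm (QuaternionGroup.xa 0) : S)) :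
          e.symm (QuaternionGroup.xa 0) * (g₀ * g₀) = (g₀ * g₀) * e.symm (QuaternionGroup.xa 0))
        simp only [hg₀, map_mul, MulEquiv.apply_symm_apply, QuaternionGroup.a_mul_a, QuaternionGroup.a_mul_xa, QuaternionGroup.xa_mul_a] at h
        injection h with h
        have : ((4 : ℕ) : ZMod (2 * m)) = 0 := by push_cast; linear_combination h
        rw [ZMod.natCast_eq_zero_iff] at this
        have := Nat.le_of_dvd (by norm_num) this
        omega
      set g₁ := e.symm (QuaternionGroup.xa 0) with hg₁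
      have ho₁ : orderOf (g₁ : S) = 2 * m := by
        rw [hg₁, Subgroup.orderOf_coe, MulEquiv.orderOf_eq, QuaternionGroup.orderOf_xa, h4]
      by_cases hb₁ : (g₁ : S) ∈ d.base
      · exact ⟨g₁, g₁.2, hb₁, ho₁⟩
      · refine ⟨(g₀ * g₁ : Y), (g₀ * g₁).2, ?_, ?_⟩
        · rw [Subgroup.coe_mul, Subgroup.mul_mem_iff_of_index_two d.index_base]
          exact iff_of_false hb hb₁
        · rw [Subgroup.orderOf_coe, hg₀, hg₁, ← map_mul, MulEquiv.orderOf_eq,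
            QuaternionGroup.a_mul_xa, QuaternionGroup.orderOf_xa, h4]
  -- everything of `Y` outside `⟨g⟩` inverts `g`
  have hout : ∀ y ∈ Y, y ∉ Subgroup.zpowers g → y * g * y⁻¹ = g⁻¹ ∧ y * y = g ^ m := by
    intro y hy hyg
    have hgo' : orderOf (e ⟨g, hgY⟩) = 2 * m := by rw [MulEquiv.orderOf_eq, ← Subgroup.orderOf_coe]; exact hgo
    have hnm : e ⟨y, hy⟩ ∉ Subgroup.zpowers (e ⟨g, hgY⟩) := by
      rintro ⟨k, hk⟩
      have hk' : (e ⟨g, hgY⟩) ^ k = e ⟨y, hy⟩ := hk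
      rw [← map_zpow] at hk'
      exact hyg ⟨k, congrArg Subtype.val (e.injective hk')⟩
    obtain ⟨h1, h2⟩ := quaternion_outside hm2 _ _ hgo' hnm
    rw [← map_inv, ← map_mul, ← map_mul, ← map_inv] at h1
    rw [← map_mul, ← map_pow] at h2
    exact ⟨congrArg Subtype.val (e.injective h1), congrArg Subtype.val (e.injective h2)⟩
  have houtb : ∀ y ∈ Y, y ∉ Subgroup.zpowers g → y ∉ d.base := by
    intro y hy hyg hyb
    have h := (hout y hy hyg).1
    have hcm : y * g = g * y :=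
      congrArg (fun v : d.base => (v : S)) (d.isMulCommutative_base.is_comm.comm ⟨y, hyb⟩ ⟨g, hgb⟩)
    rw [hcm, mul_inv_cancel_right] at h
    have := orderOf_dvd_of_pow_eq_one (x := g) (n := 2) (by
      rw [pow_two]; nth_rewrite 2 [h]; exact mul_inv_cancel g)
    rw [hgo] at this
    have := Nat.le_of_dvd two_pos this
    omega
  obtain ⟨w, hw, hwg⟩ : ∃ w ∈ Y, w ∉ Subgroup.zpowers g := by
    by_contra h
    push Not at h
    apply hnoncomm
    intro a ha b hb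
    obtain ⟨⟨k, rfl⟩, ⟨l, rfl⟩⟩ := And.intro (h a ha) (h b hb)
    exact zpow_mul_comm g k l
  obtain ⟨a, b, rfl⟩ := hgb
  obtain ⟨i, j, rfl⟩ := d.notMem_iff (houtb w hw hwg)
  obtain ⟨hinv, hsq⟩ := hout _ hw hwg
  rw [d.uz_inv, d.uz_mul_u, d.uz_mul_uz, d.u_inv, d.u_eq_iff] at hinv
  have hab : 2 * d.c ∣ a + b := by
    have := hinv.1
    rwa [show i + b + -i - -a = a + b by ring] at this
  have haodd : Odd a := by
    by_contra h
    obtain ⟨k, rfl⟩ := Int.not_odd_iff_even.mp h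
    obtain ⟨r, hr⟩ := hab
    have h1 : d.u (k + k) b ^ m = 1 := by
      rw [← zpow_natCast, hcast, d.u_zpow, d.u_eq_one_iff]
      exact ⟨⟨k, by ring⟩, ⟨d.c * r - k, by linear_combination d.c * hr⟩⟩
    have := Nat.le_of_dvd (by omega) (orderOf_dvd_of_pow_eq_one h1)
    omega
  obtain ⟨t, rfl⟩ := haodd
  have hgq : d.u (2 * t + 1) b ∈ d.quat := ⟨_, _, Or.inl ⟨hab, rfl⟩⟩
  have hz : ∀ i j : ℤ, d.u i j * d.z * (d.u i j * d.z) = d.u (2 * t + 1) b ^ m →
      d.u i j * d.z ∈ d.quat := by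
    intro i j h
    rw [← zpow_natCast, hcast, d.u_zpow, d.uz_mul_uz, d.u_eq_iff] at h
    obtain ⟨r, hr⟩ := h.1
    exact ⟨i, j, Or.inr ⟨⟨r + t, by linear_combination hr⟩, rfl⟩⟩
  refine Subgroup.eq_of_le_of_card_ge (fun y hy => ?_) (by rw [d.card_quat, hc])
  by_cases hyg : y ∈ Subgroup.zpowers (d.u (2 * t + 1) b)
  · obtain ⟨k, rfl⟩ := hyg
    exact zpow_mem hgq k
  · obtain ⟨p, r, rfl⟩ := d.notMem_iff (houtb y hy hyg)
    exact hz p r (hout _ hy hyg).2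

end WR

end CfsgLib.SmallTwo
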